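import Cfsg.Agent.Lib.Classical.TensorSquare3.Group

/-!
# Rotations of the three-dimensional orthogonal space and the centralisers of half turns
-/

set_option autoImplicit false
set_option linter.unusedSectionVars false

namespace CfsgLib.Classical.TensorSquare3

open Matrix Module QuadraticMap CfsgLib.Orth

variable {F : Type*} [Field F] [Fintype F]

/-- The vector product. -/
def cr (u v : Fin 3 → F) : Fin 3 → F :=
  ![u 1 * v 2 - u 2 * v 1, u 2 * v 0 - u 0 * v 2, u 0 * v 1 - u 1 * v 0]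

theorem cr_left (u v : Fin 3 → F) : u ⬝ᵥ cr u v = 0 := by
  simp [cr, dotProduct, Fin.sum_univ_three]; ring

theorem cr_right (u v : Fin 3 → F) : v ⬝ᵥ cr u v = 0 := by
  simp [cr, dotProduct, Fin.sum_univ_three]; ring

theorem q3_cr (u v : Fin 3 → F) : q3 F (cr u v) = q3 F u * q3 F v - (u ⬝ᵥ v) * (u ⬝ᵥ v) := by
  simp [q3_eq, cr, dotProduct, Fin.sum_univ_three]; ring

theorem dot_comm' (u v : Fin 3 → F) : u ⬝ᵥ v = v ⬝ᵥ u := dotProduct_comm u v

/-- Coordinates in an orthogonal triad. -/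
theorem triad_smul (u v z : Fin 3 → F) :
    q3 F (cr u v) • z = (u ⬝ᵥ z) • cr v (cr u v) + (v ⬝ᵥ z) • cr (cr u v) u + (cr u v ⬝ᵥ z) • cr u v := by
  ext i
  fin_cases i <;> simp [q3_eq, cr, dotProduct, Fin.sum_univ_three] <;> ring

theorem eq_zero_of_triad {u v z : Fin 3 → F} (hw : q3 F (cr u v) ≠ 0) (h1 : u ⬝ᵥ z = 0) (h2 : v ⬝ᵥ z = 0)
    (h3 : cr u v ⬝ᵥ z = 0) : z = 0 := by
  have h := triad_smul u v z
  rw [h1, h2, h3, zero_smul, zero_smul, zero_smul, add_zero, add_zero, smul_eq_zero] at h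
  exact h.resolve_left hw

variable (h2 : (2 : F) ≠ 0)

theorem dot_isom (a : orthGroup (q3 F)) (x y : Fin 3 → F) (h2 : (2 : F) ≠ 0) : a.1 x ⬝ᵥ a.1 y = x ⬝ᵥ y := by
  have h := polar_isom a x y
  rw [polar_q3, polar_q3] at h
  exact mul_left_cancel₀ h2 h

theorem apply_mul (a b : orthGroup (q3 F)) (x : Fin 3 → F) : (a * b).1 x = a.1 (b.1 x) := rfl

theorem apply_inv_of {a : orthGroup (q3 F)} {x y : Fin 3 → F} (h : a.1 x = y) : (a⁻¹).1 y = x := by
  rw [← h]; exact a.1.symm_apply_apply x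

include h2 in
theorem exists_perp' {u : Fin 3 → F} (hu : q3 F u ≠ 0) : ∃ w, u ⬝ᵥ w = 0 ∧ q3 F w ≠ 0 := by
  rw [q3_eq] at hu
  by_cases e0 : u 0 * u 0 + u 1 * u 1 ≠ 0
  · refine ⟨![u 1, -u 0, 0], by simp [dotProduct, Fin.sum_univ_three]; ring, fun h => e0 ?_⟩
    simp [q3_eq] at h
    linear_combination h
  by_cases e1 : u 0 * u 0 + u 2 * u 2 ≠ 0
  · refine ⟨![u 2, 0, -u 0], by simp [dotProduct, Fin.sum_univ_three]; ring, fun h => e1 ?_⟩
    simp [q3_eq] at h
    linear_combination h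
  refine ⟨![0, u 2, -u 1], by simp [dotProduct, Fin.sum_univ_three]; ring, fun h => ?_⟩
  push Not at e0 e1
  simp [q3_eq] at h
  exact hu (mul_left_cancel₀ h2 (by linear_combination e0 + e1 + h))

include h2 in
/-- Every value is taken orthogonally to an anisotropic vector. -/
theorem exists_value_perp {u : Fin 3 → F} (hu : q3 F u ≠ 0) (c : F) : ∃ w, u ⬝ᵥ w = 0 ∧ q3 F w = c := by
  obtain ⟨w₁, h1, hq1⟩ := exists_perp' h2 hu
  set w₂ := cr u w₁
  have hq2 : q3 F w₂ ≠ 0 := by rw [q3_cr, h1, mul_zero, sub_zero]; exact mul_ne_zero hu hq1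
  obtain ⟨y, z, hyz⟩ := FiniteField.exists_root_sum_quadratic (R := F)
    (f := Polynomial.C (q3 F w₁) * Polynomial.X ^ 2 - Polynomial.C c) (g := Polynomial.C (q3 F w₂) * Polynomial.X ^ 2)
    (by rw [Polynomial.degree_sub_C (by simp [Polynomial.degree_C_mul_X_pow 2 hq1]),
          Polynomial.degree_C_mul_X_pow 2 hq1]; norm_num)
    (by rw [Polynomial.degree_C_mul_X_pow 2 hq2]; norm_num)
    (FiniteField.odd_card_of_char_ne_two fun e => h2 (by
      haveI := ringChar.of_eq e; exact CharTwo.two_eq_zero))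
  simp only [Polynomial.eval_sub, Polynomial.eval_mul, Polynomial.eval_C, Polynomial.eval_pow,
    Polynomial.eval_X] at hyz
  refine ⟨y • w₁ + z • w₂, by rw [dotProduct_add, dotProduct_smul, dotProduct_smul, h1, cr_left, smul_zero,
    smul_zero, add_zero], ?_⟩
  rw [quad_add', quad_smul', quad_smul', polar_q3, smul_dotProduct, dotProduct_smul, cr_right]
  simp only [smul_zero, mul_zero, add_zero]
  linear_combination hyz

/-- A product of two reflections orthogonal to `u`. -/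
theorem exists_rot {u : Fin 3 → F} (hu : q3 F u ≠ 0) (h2 : (2 : F) ≠ 0) (ε : ℤˣ) :
    ∃ a : orthGroup (q3 F), dt a = 1 ∧ a.1 u = u ∧ ls a = ε := by
  classical
  rcases Int.units_eq_one_or ε with rfl | rfl
  · exact ⟨1, map_one _, rfl, map_one _⟩
  obtain ⟨c, hc⟩ := FiniteField.exists_nonsquare (F := F) fun e => h2 (by
    haveI := ringChar.of_eq e; exact CharTwo.two_eq_zero)
  obtain ⟨w, hw, hqw⟩ := exists_value_perp h2 hu 1
  obtain ⟨w', hw', hqw'⟩ := exists_value_perp h2 hu c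
  have hc0 : c ≠ 0 := fun e => hc (e ▸ IsSquare.zero)
  refine ⟨refl (q3 F) w * refl (q3 F) w', ?_, ?_, ?_⟩
  · rw [map_mul, dt_refl (by rw [hqw]; exact one_ne_zero), dt_refl (by rw [hqw']; exact hc0)]; ring
  · rw [apply_mul, refl_fix _ (show polar (q3 F) w' u = 0 by rw [polar_q3, dot_comm' w', hw', mul_zero]),
      refl_fix _ (show polar (q3 F) w u = 0 by rw [polar_q3, dot_comm' w, hw, mul_zero])]
  · rw [map_mul, levelSign_refl (q3 F) h2 one_ne_zero (by rw [hqw]; exact one_ne_zero),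
      levelSign_refl (q3 F) h2 one_ne_zero (by rw [hqw']; exact hc0), hqw, hqw',
      if_pos (by rw [mul_one]; exact IsSquare.one), if_neg (by rwa [one_mul]), mul_one]

include h2 in
/-- A rotation with axis `u` moving `v` to `v'`. -/
theorem exists_move_perp {u v v' : Fin 3 → F} (hu : q3 F u ≠ 0) (hv : u ⬝ᵥ v = 0) (hv' : u ⬝ᵥ v' = 0)
    (hq : q3 F v = q3 F v') (hv0 : q3 F v ≠ 0) : ∃ a : orthGroup (q3 F), dt a = 1 ∧ a.1 u = u ∧ a.1 v = v' := by
  have hfix : ∀ x : Fin 3 → F, u ⬝ᵥ x = 0 → (refl (q3 F) x).1 u = u := fun x hx =>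
    refl_fix _ (by rw [polar_q3, dot_comm' x, hx, mul_zero])
  by_cases hd : q3 F (v - v') = 0
  · have hs : q3 F (v + v') ≠ 0 := by
      intro hs
      rw [sub_eq_add_neg, quad_add', QuadraticMap.map_neg, polar_neg_right] at hd
      rw [quad_add'] at hs
      exact mul_ne_zero (two_ne' h2) hv0 (by linear_combination hd + hs + 2 * hq)
    refine ⟨refl (q3 F) v' * refl (q3 F) (v + v'), ?_, ?_, ?_⟩
    · rw [map_mul, dt_refl (hq ▸ hv0), dt_refl hs]; ring
    · rw [apply_mul, hfix _ (by rw [dotProduct_add, hv, hv', add_zero]), hfix _ hv']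
    · rw [apply_mul, show v + v' = v - -v' by abel, refl_sub_apply _ (by rw [QuadraticMap.map_neg, hq])
        (by rwa [sub_neg_eq_add]), map_neg, refl_self _ (hq ▸ hv0), neg_neg]
  · have hw : q3 F (cr u v') ≠ 0 := by rw [q3_cr, hv', mul_zero, sub_zero, ← hq]; exact mul_ne_zero hu hv0
    refine ⟨refl (q3 F) (cr u v') * refl (q3 F) (v - v'), ?_, ?_, ?_⟩
    · rw [map_mul, dt_refl hw, dt_refl hd]; ring
    · rw [apply_mul, hfix _ (by rw [dotProduct_sub, hv, hv', sub_zero]), hfix _ (cr_left _ _)]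
    · rw [apply_mul, refl_sub_apply _ hq hd, refl_fix _ (by rw [polar_q3, dot_comm' (cr u v'), cr_right, mul_zero])]

include h2 in
/-- A proper isometry moving one anisotropic vector to another of the same norm. -/
theorem exists_move3 {v v' : Fin 3 → F} (hq : q3 F v = q3 F v') (hv0 : q3 F v ≠ 0) :
    ∃ a : orthGroup (q3 F), dt a = 1 ∧ a.1 v = v' := by
  obtain ⟨g, hg⟩ := exists_map_eq (nondeg3 h2) (good_of_two_ne h2) (u := v) (w := v')
    (fun h => hv0 (by rw [h, QuadraticMap.map_zero])) (fun h => hv0 (by rw [hq, h, QuadraticMap.map_zero])) hq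
  rcases dt_cases h2 g with hd | hd
  · exact ⟨g, hd, hg⟩
  obtain ⟨w, hw, hqw⟩ := exists_perp' h2 (hq ▸ hv0)
  exact ⟨refl (q3 F) w * g, by rw [map_mul, dt_refl hqw, hd]; ring, by
    rw [apply_mul, hg, refl_fix _ (by rw [polar_q3, dot_comm' w, hw, mul_zero])]⟩

include h2 in
theorem ax_eq_iff {v w : Fin 3 → F} (hw : q3 F w ≠ 0) (h : ax v = ax w) : ∃ t : F, w = t • v := by
  refine ⟨(2 : F)⁻¹ * ((q3 F v)⁻¹ * (2 * (v ⬝ᵥ w))), ?_⟩
  have h1 : (ax v).1 w = w := by rw [h, ax_self hw]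
  rw [ax_apply, sub_eq_iff_eq_add, ← two_smul F w] at h1
  rw [← smul_smul, h1, inv_smul_smul₀ h2]

include h2 in
/-- An element commuting with a half turn preserves its axis. -/
theorem apply_of_comm {a : orthGroup (q3 F)} {v : Fin 3 → F} (hv : q3 F v ≠ 0) (h : a * ax v = ax v * a) :
    a.1 v = v ∨ a.1 v = -v := by
  have h1 : ax v = ax (a.1 v) := by rw [← ax_conj, h, mul_inv_cancel_right]
  obtain ⟨t, ht⟩ := ax_eq_iff h2 (by rwa [apply_quad]) h1
  have h3 := apply_quad a v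
  rw [ht, quad_smul'] at h3
  rcases mul_self_eq_one_iff.1 (mul_right_cancel₀ hv (h3.trans (one_mul _).symm)) with e | e
  · left; rw [ht, e, one_smul]
  · right; rw [ht, e, neg_one_smul]

theorem comm_of_apply {a : orthGroup (q3 F)} {v : Fin 3 → F} (h : a.1 v = v ∨ a.1 v = -v) :
    a * ax v = ax v * a := by
  have h1 : a * ax v * a⁻¹ = ax v := by
    rw [ax_conj]
    rcases h with e | e <;> rw [e]
    rw [← neg_one_smul F v, ax_smul (neg_ne_zero.2 one_ne_zero)]
  conv_rhs => rw [← h1]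
  rw [inv_mul_cancel_right]

include h2 in
/-- A proper isometry fixing two orthogonal anisotropic vectors is trivial. -/
theorem eq_one_of_fix {a : orthGroup (q3 F)} {u v : Fin 3 → F} (hu : q3 F u ≠ 0) (hv : q3 F v ≠ 0)
    (huv : u ⬝ᵥ v = 0) (ha : dt a = 1) (hau : a.1 u = u) (hav : a.1 v = v) : a = 1 := by
  set w := cr u v
  have hw : q3 F w ≠ 0 := by rw [q3_cr, huv, mul_zero, sub_zero]; exact mul_ne_zero hu hv
  have ext3 : ∀ b : orthGroup (q3 F), b.1 u = u → b.1 v = v → b.1 w = w → b = 1 := fun b h1 h3 h4 =>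
    Subtype.ext (LinearEquiv.ext fun x => sub_eq_zero.1 (eq_zero_of_triad hw
      (by rw [dotProduct_sub]; show u ⬝ᵥ b.1 x - u ⬝ᵥ x = 0; nth_rw 1 [← h1]; rw [dot_isom b u x h2, sub_self])
      (by rw [dotProduct_sub]; show v ⬝ᵥ b.1 x - v ⬝ᵥ x = 0; nth_rw 1 [← h3]; rw [dot_isom b v x h2, sub_self])
      (by rw [dotProduct_sub]; show w ⬝ᵥ b.1 x - w ⬝ᵥ x = 0; nth_rw 1 [← h4]; rw [dot_isom b w x h2, sub_self])))
  have hz := triad_smul u v (a.1 w)
  have e1 : u ⬝ᵥ a.1 w = 0 := by rw [← hau, dot_isom a u w h2]; exact cr_left u v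
  have e2 : v ⬝ᵥ a.1 w = 0 := by rw [← hav, dot_isom a v w h2]; exact cr_right u v
  rw [e1, e2, zero_smul, zero_smul, zero_add, zero_add] at hz
  set r := (q3 F w)⁻¹ * (w ⬝ᵥ a.1 w)
  have hr : a.1 w = r • w := by rw [mul_smul, ← hz, inv_smul_smul₀ hw]
  have h3 := apply_quad a w
  rw [hr, quad_smul'] at h3
  rcases mul_self_eq_one_iff.1 (mul_right_cancel₀ hw (h3.trans (one_mul _).symm)) with e | e
  · exact ext3 a hau hav (by rw [hr, e, one_smul])
  · have h4 : refl (q3 F) w * a = 1 := ext3 _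
      (by rw [apply_mul, hau, refl_fix _ (by rw [polar_q3, dot_comm' w, cr_left, mul_zero])])
      (by rw [apply_mul, hav, refl_fix _ (by rw [polar_q3, dot_comm' w, cr_right, mul_zero])])
      (by rw [apply_mul, hr, e, neg_one_smul, map_neg, refl_self _ hw, neg_neg])
    exfalso
    have h5 := congrArg dt h4
    rw [map_mul, dt_refl hw, ha, map_one, mul_one] at h5
    exact neg_one_ne_one h2 h5

include h2 in
/-- The half turns of an orthogonal triad commute with nothing else of determinant one. -/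
theorem cases_of_comm_two {a : orthGroup (q3 F)} {u v : Fin 3 → F} (hu : q3 F u ≠ 0) (hv : q3 F v ≠ 0)
    (huv : u ⬝ᵥ v = 0) (ha : dt a = 1) (h1 : a * ax u = ax u * a) (h3 : a * ax v = ax v * a) :
    a = 1 ∨ a = ax u ∨ a = ax v ∨ a = ax (cr u v) := by
  have hw : q3 F (cr u v) ≠ 0 := by rw [q3_cr, huv, mul_zero, sub_zero]; exact mul_ne_zero hu hv
  have hvu : v ⬝ᵥ u = 0 := by rw [dot_comm', huv]
  have key : ∀ x : Fin 3 → F, q3 F x ≠ 0 → (ax x).1 (a.1 u) = u → (ax x).1 (a.1 v) = v → a = ax x :=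
    fun x hx e1 e3 => by
      have := eq_one_of_fix h2 hu hv huv (a := ax x * a) (by rw [map_mul, dt_ax hx, ha, one_mul]) e1 e3
      calc a = ax x * (ax x * a) := by rw [← mul_assoc, ax_mul_self, one_mul]
        _ = ax x := by rw [this, mul_one]
  rcases apply_of_comm h2 hu h1 with eu | eu <;> rcases apply_of_comm h2 hv h3 with ev | ev
  · exact .inl (eq_one_of_fix h2 hu hv huv ha eu ev)
  · exact .inr (.inl (key u hu (by rw [eu, ax_self hu]) (by rw [ev, map_neg, ax_perp huv, neg_neg])))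
  · exact .inr (.inr (.inl (key v hv (by rw [eu, map_neg, ax_perp hvu, neg_neg]) (by rw [ev, ax_self hv]))))
  · refine .inr (.inr (.inr (key _ hw ?_ ?_)))
    · rw [eu, map_neg, ax_perp (by rw [dot_comm', cr_left]), neg_neg]
    · rw [ev, map_neg, ax_perp (by rw [dot_comm', cr_right]), neg_neg]

include h2 in
/-- An involution commuting with a half turn. -/
theorem invol_comm_cases {a : orthGroup (q3 F)} {u : Fin 3 → F} (hu : q3 F u ≠ 0) (hsq : a * a = 1) (ha : dt a = 1)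
    (h : a * ax u = ax u * a) : a = 1 ∨ a = ax u ∨ ∃ x, q3 F x ≠ 0 ∧ u ⬝ᵥ x = 0 ∧ a = ax x := by
  by_cases hne : a = 1
  · exact .inl hne
  obtain ⟨x, hx, rfl⟩ := exists_eq_ax h2 hsq ha hne
  rcases apply_of_comm h2 hu h with e | e
  · rw [ax_apply, sub_eq_iff_eq_add, ← two_smul F u] at e
    refine .inr (.inl ?_)
    rcases eq_or_ne ((q3 F x)⁻¹ * (2 * (x ⬝ᵥ u))) 0 with z | z
    · rw [z, zero_smul, eq_comm, smul_eq_zero] at e
      exact absurd (by rw [e.resolve_left h2, QuadraticMap.map_zero]) hu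
    · calc ax x = ax (((q3 F x)⁻¹ * (2 * (x ⬝ᵥ u))) • x) := (ax_smul z x).symm
        _ = ax ((2 : F) • u) := by rw [e]
        _ = ax u := ax_smul h2 u
  · refine .inr (.inr ⟨x, hx, ?_, rfl⟩)
    rw [ax_apply, sub_eq_iff_eq_add, neg_add_cancel, smul_eq_zero] at e
    rcases e with e | e
    · rw [dot_comm']
      exact (mul_eq_zero.1 ((mul_eq_zero.1 e).resolve_left (inv_ne_zero hx))).resolve_left h2
    · exact absurd (by rw [e, QuadraticMap.map_zero]) hx

end CfsgLib.Classical.TensorSquare3
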