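import Cfsg.Agent.Lib.Classical.TensorSquare3.Rows

/-!
# Centralisers of pairs of commuting half turns of one factor
-/

set_option autoImplicit false
set_option linter.unusedSectionVars false

namespace CfsgLib.Classical.TensorSquare3

open Matrix Module QuadraticMap CfsgLib.Orth

variable {F : Type*} [Field F] [Fintype F] (h2 : (2 : F) ≠ 0)

theorem stab_cases {g : orthGroup (qq F)} (hg : g ∈ stabOmega F h2) :
    IsPure h2 g ∨ ∃ a b, g = trp F * tens h2 a b := by
  obtain ⟨hc, a, b, e | e⟩ := hg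
  · exact .inl (isPure_of_mem h2 hc e)
  · exact .inr ⟨a, b, e⟩

theorem vecMulVec_ev_ev (i j k l : Fin 3) :
    vecMulVec (ev i : Fin 3 → F) (ev j) k l = if k = i ∧ l = j then 1 else 0 := by
  simp only [vecMulVec_apply, Pi.single_apply]
  split_ifs <;> simp_all

/-- An element of the stabiliser fixing the first row. -/
theorem eq_lft_of_fix_row {g : orthGroup (qq F)} (hg : g ∈ stabOmega F h2)
    (hfix : ∀ w, g.1 (vecMulVec (ev 0) w) = vecMulVec (ev 0) w) :
    ∃ a, g = tens h2 a 1 ∧ dt a = 1 ∧ a.1 (ev 0) = ev 0 ∧ ls a = 1 := by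
  rcases stab_cases h2 hg with ⟨a, b, rfl, ha, hb, hab⟩ | ⟨a, b, rfl⟩
  · have h1 : ∀ (w : Fin 3 → F) (k l : Fin 3), a.1 (ev 0) k * b.1 w l = if k = 0 then w l else 0 := fun w k l => by
      have h := congrFun (congrFun (hfix w) k) l
      rw [tens_pure] at h
      rw [vecMulVec_apply] at h
      rw [h, vecMulVec_apply]
      rcases eq_or_ne k 0 with rfl | hk
      · rw [if_pos rfl, ev_self, one_mul]
      · rw [if_neg hk, ev_ne hk, zero_mul]
    set c := a.1 (ev 0) 0
    have hc : ∀ w : Fin 3 → F, c • b.1 w = w := fun w => funext fun l => by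
      have := h1 w 0 l
      simpa using this
    have hc0 : c ≠ 0 := fun e => by
      have := hc (ev 0)
      rw [e, zero_smul] at this
      simpa using congrFun this 0
    have ha0 : a.1 (ev 0) = c • ev 0 := funext fun k => by
      rcases eq_or_ne k 0 with rfl | hk
      · simp [c]
      · have := h1 ((b⁻¹).1 (ev 0)) k 0
        rw [if_neg hk, Orth.inv_apply, ev_self, mul_one] at this
        simp [this, hk]
    have hcc : c * c = 1 := by
      have := apply_quad a (ev 0)
      rwa [ha0, quad_smul', q3_single, mul_one] at this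
    rcases mul_self_eq_one_iff.1 hcc with e | e
    · have hb1 : b = 1 := Subtype.ext (LinearEquiv.ext fun w => by
        have := hc w
        rwa [e, one_smul] at this)
      subst hb1
      exact ⟨a, rfl, ha, by rw [ha0, e, one_smul], by rw [hab, map_one]⟩
    · have hb1 : b = negO := Subtype.ext (LinearEquiv.ext fun w => by
        have := hc w
        rw [e, neg_one_smul, neg_eq_iff_eq_neg] at this
        rw [this, negO_apply])
      rw [hb1, dt_negO] at hb
      exact absurd hb (neg_one_ne_one h2)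
  · have h1 : ∀ (w : Fin 3 → F) (l : Fin 3), b.1 w 1 * a.1 (ev 0) l = 0 := fun w l => by
      have h := congrFun (congrFun (hfix w) 1) l
      rw [apply_mul', tens_pure] at h
      rw [trp_apply, transpose_apply, vecMulVec_apply] at h
      rw [mul_comm, h, pure_mem_row 0 w 1 (by decide)]
      rfl
    have h3 : a.1 (ev 0) = 0 := funext fun l => by
      have := h1 ((b⁻¹).1 (ev 1)) l
      rwa [Orth.inv_apply, ev_self, one_mul] at this
    have h4 := apply_quad a (ev 0)
    rw [h3, QuadraticMap.map_zero, q3_single] at h4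
    exact absurd h4.symm one_ne_zero
where
  apply_mul' {g k : orthGroup (qq F)} {X : Matrix (Fin 3) (Fin 3) F} : (g * k).1 X = g.1 (k.1 X) := rfl

theorem dd_ev (i j : Fin 3) : (dd i : orthGroup (q3 F)).1 (ev j) = (if j = i then (1 : F) else -1) • ev j := by
  rw [dd_apply]
  ext k
  rcases eq_or_ne k j with rfl | hk
  · split_ifs <;> simp
  · simp [hk]

theorem tens_dd_row (i : Fin 3) (X : Matrix (Fin 3) (Fin 3) F) (j : Fin 3) :
    (tens h2 (dd i) 1).1 X j = (if j = i then (1 : F) else -1) • X j := by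
  rw [tens_apply, mat_one, transpose_one, Matrix.mul_one, mat_dd]
  ext k
  simp [Matrix.diagonal_mul]

variable {M : Subgroup (orthGroup (qq F))} (hM : Over h2 M)
include hM

/-- The centraliser of the standard frame of the first factor. -/
theorem Over.cent_frame {g : orthGroup (qq F)} (hg : g ∈ M)
    (h0 : g * tens h2 (dd 0) 1 = tens h2 (dd 0) 1 * g) (h1 : g * tens h2 (dd 1) 1 = tens h2 (dd 1) 1 * g) :
    g ∈ stabOmega F h2 := by
  refine Over.mem_of_fix_rows h2 hM hg fun i w j hj => ?_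
  have key : ∀ k : Fin 3, g * tens h2 (dd k) 1 = tens h2 (dd k) 1 * g →
      (if i = k then (1 : F) else -1) • g.1 (vecMulVec (ev i) w) j =
        (if j = k then (1 : F) else -1) • g.1 (vecMulVec (ev i) w) j := by
    intro k hk
    have e : g.1 ((tens h2 (dd k) 1).1 (vecMulVec (ev i) w)) = (tens h2 (dd k) 1).1 (g.1 (vecMulVec (ev i) w)) :=
      LinearEquiv.congr_fun (congrArg Subtype.val hk) _
    rw [tens_pure, dd_ev, smul_vecMulVec, map_smul, show (1 : orthGroup (q3 F)).1 w = w from rfl] at e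
    exact (congrFun e j).trans (tens_dd_row h2 k _ j)
  have e0 := key 0 h0
  have e1 := key 1 h1
  set x := g.1 (vecMulVec (ev i) w) j
  have fin : x = -x → x = 0 := fun e => by
    rw [eq_neg_iff_add_eq_zero, ← two_smul F, smul_eq_zero] at e
    exact e.resolve_left h2
  apply fin
  fin_cases i <;> fin_cases j <;> simp at hj e0 e1 ⊢ <;>
    first | exact e0 | exact e0.symm | exact e1 | exact e1.symm | exact absurd rfl hj

/-- Conjugates of the standard frame. -/
theorem Over.cent_frame_conj {g h : orthGroup (qq F)} (hg : g ∈ M) (hh : h ∈ stabOmega F h2)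
    (h0 : g * (h * tens h2 (dd 0) 1 * h⁻¹) = h * tens h2 (dd 0) 1 * h⁻¹ * g)
    (h1 : g * (h * tens h2 (dd 1) 1 * h⁻¹) = h * tens h2 (dd 1) 1 * h⁻¹ * g) : g ∈ stabOmega F h2 := by
  have hconj : ∀ t, g * (h * t * h⁻¹) = h * t * h⁻¹ * g → h⁻¹ * g * h * t = t * (h⁻¹ * g * h) := fun t e => by
    calc h⁻¹ * g * h * t = h⁻¹ * (g * (h * t * h⁻¹)) * h := by group
      _ = h⁻¹ * (h * t * h⁻¹ * g) * h := by rw [e]
      _ = t * (h⁻¹ * g * h) := by group
  have h4 := Over.cent_frame h2 hM (mul_mem (mul_mem (inv_mem (hM.le hh)) hg) (hM.le hh)) (hconj _ h0) (hconj _ h1)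
  have h5 := mul_mem (mul_mem hh h4) (inv_mem hh)
  rwa [show h * (h⁻¹ * g * h) * h⁻¹ = g by group] at h5

/-- Two orthogonal axes of square norm in the first factor. -/
theorem Over.cent_left {g : orthGroup (qq F)} (hg : g ∈ M) {u v : Fin 3 → F} (hu : q3 F u ≠ 0)
    (hus : IsSquare (q3 F u)) (hv : q3 F v ≠ 0) (hvs : IsSquare (q3 F v)) (huv : u ⬝ᵥ v = 0)
    (h0 : g * tens h2 (ax u) 1 = tens h2 (ax u) 1 * g) (h1 : g * tens h2 (ax v) 1 = tens h2 (ax v) 1 * g) :
    g ∈ stabOmega F h2 := by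
  have hnorm : ∀ {x : Fin 3 → F}, q3 F x ≠ 0 → IsSquare (q3 F x) → ∃ r : F, r ≠ 0 ∧ q3 F (r • x) = 1 := by
    intro x hx hxs
    obtain ⟨s, hs⟩ := hxs
    have hs0 : s ≠ 0 := fun e => hx (by rw [hs, e, mul_zero])
    exact ⟨s⁻¹, inv_ne_zero hs0, by rw [quad_smul', hs]; field_simp⟩
  obtain ⟨r, hr, hru⟩ := hnorm hu hus
  obtain ⟨r', hr', hrv⟩ := hnorm hv hvs
  obtain ⟨p, hp, hpu⟩ := exists_move3 h2 (v := ev 0) (v' := r • u) (by rw [q3_single, hru])
    (by rw [q3_single]; exact one_ne_zero)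
  obtain ⟨p', hp', hpu', hpv⟩ := exists_move_perp h2 (u := r • u) (v := p.1 (ev 1)) (v' := r' • v)
    (by rw [hru]; exact one_ne_zero) (by rw [← hpu, dot_isom p _ _ h2, e_dot, if_neg (by decide)])
    (by rw [smul_dotProduct, dotProduct_smul, huv, smul_zero, smul_zero]) (by rw [apply_quad, q3_single, hrv])
    (by rw [apply_quad, q3_single]; exact one_ne_zero)
  obtain ⟨q, hq, -, hqs⟩ := exists_rot (u := ev 0) (by rw [q3_single]; exact one_ne_zero) h2 (ls (p' * p))
  have hmem : tens h2 (p' * p) q ∈ stabOmega F h2 :=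
    tens_pure_mem h2 (by rw [map_mul, hp, hp', one_mul]) hq hqs.symm
  have e0 : tens h2 (p' * p) q * tens h2 (dd 0) 1 * (tens h2 (p' * p) q)⁻¹ = tens h2 (ax u) 1 := by
    rw [tens_conj, mul_one, mul_inv_cancel, ax_conj, apply_mul, hpu, hpu', ax_smul hr]
  have e1 : tens h2 (p' * p) q * tens h2 (dd 1) 1 * (tens h2 (p' * p) q)⁻¹ = tens h2 (ax v) 1 := by
    rw [tens_conj, mul_one, mul_inv_cancel, ax_conj, apply_mul, hpv, ax_smul hr']
  exact Over.cent_frame_conj h2 hM hg hmem (by rw [e0]; exact h0) (by rw [e1]; exact h1)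

omit hM in
/-- The swap. -/
theorem exists_swap : ∃ σ ∈ stabOmega F h2, ∀ x y : orthGroup (q3 F),
    σ * tens h2 x y * σ⁻¹ = tens h2 y (rho * x * rho⁻¹) := by
  classical
  refine ⟨trp F * tens h2 (negO * rho) 1, ⟨(mem_omega h2 _).2 ⟨?_, ?_⟩, _, _, .inr rfl⟩, fun x y => ?_⟩
  · rw [map_mul, dt_trp h2, dt_tens, map_one, mul_one, map_mul, dt_negO,
      show dt (rho (F := F)) = 1 from dt_ax (by rw [q3_ev_sub h2 (by decide)]; exact h2)]
    ring
  · have h12 : q3 F (ev 1 - ev 2) ≠ 0 := by rw [q3_ev_sub h2 (by decide)]; exact h2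
    rw [map_mul, ls_tens, map_one, mul_one, trp_refl h2, map_mul, map_mul, rho, ax, ← mul_assoc negO, negO_mul_self,
      one_mul, levelSign_refl (q3 F) h2 one_ne_zero h12, q3_ev_sub h2 (by decide)]
    have ha : ∀ {i j : Fin 3}, i ≠ j → ls (refl (qq F) (anti i j)) = if IsSquare ((1 : F) * 2) then -1 else 1 :=
      fun hij => by rw [levelSign_refl (qq F) h2 one_ne_zero (by rw [qq_anti h2 hij]; exact h2)]; simp only [qq_anti h2 hij]
    rw [ha (by decide), ha (by decide), ha (by decide)]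
    split_ifs <;> decide
  · rw [_root_.mul_inv_rev, trp_inv]
    have e : (negO : orthGroup (q3 F)) * rho * x * (negO * rho)⁻¹ = rho * x * rho⁻¹ := by
      calc (negO : orthGroup (q3 F)) * rho * x * (negO * rho)⁻¹ = negO * (rho * x * rho⁻¹) * negO⁻¹ := by group
        _ = rho * x * rho⁻¹ := by rw [negO_comm, mul_inv_cancel_right]
    calc trp F * tens h2 (negO * rho) 1 * tens h2 x y * ((tens h2 (negO * rho) 1)⁻¹ * trp F)
        = trp F * (tens h2 (negO * rho) 1 * tens h2 x y * (tens h2 (negO * rho) 1)⁻¹) * trp F := by group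
      _ = trp F * tens h2 (rho * x * rho⁻¹) y * trp F := by rw [tens_conj, e, one_mul, inv_one, mul_one]
      _ = tens h2 y (rho * x * rho⁻¹) := by rw [trp_tens, mul_assoc, trp_mul_self, mul_one]

/-- Two orthogonal axes of square norm in the second factor. -/
theorem Over.cent_right {g : orthGroup (qq F)} (hg : g ∈ M) {u v : Fin 3 → F} (hu : q3 F u ≠ 0)
    (hus : IsSquare (q3 F u)) (hv : q3 F v ≠ 0) (hvs : IsSquare (q3 F v)) (huv : u ⬝ᵥ v = 0)
    (h0 : g * tens h2 1 (ax u) = tens h2 1 (ax u) * g) (h1 : g * tens h2 1 (ax v) = tens h2 1 (ax v) * g) :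
    g ∈ stabOmega F h2 := by
  obtain ⟨σ, hσ, hconj⟩ := exists_swap (F := F) h2
  have key : ∀ x : Fin 3 → F, g * tens h2 1 (ax x) = tens h2 1 (ax x) * g →
      σ * g * σ⁻¹ * tens h2 (ax x) 1 = tens h2 (ax x) 1 * (σ * g * σ⁻¹) := fun x e => by
    have e' : tens h2 (ax x) (1 : orthGroup (q3 F)) = σ * tens h2 1 (ax x) * σ⁻¹ := by
      rw [hconj, mul_one, mul_inv_cancel]
    calc σ * g * σ⁻¹ * tens h2 (ax x) 1 = σ * (g * tens h2 1 (ax x)) * σ⁻¹ := by rw [e']; group
      _ = σ * (tens h2 1 (ax x) * g) * σ⁻¹ := by rw [e]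
      _ = tens h2 (ax x) 1 * (σ * g * σ⁻¹) := by rw [e']; group
  have h4 := Over.cent_left h2 hM (mul_mem (mul_mem (hM.le hσ) hg) (inv_mem (hM.le hσ))) hu hus hv hvs huv
    (key u h0) (key v h1)
  have h5 := mul_mem (mul_mem (inv_mem hσ) h4) hσ
  rwa [show σ⁻¹ * (σ * g * σ⁻¹) * σ = g by group] at h5

end CfsgLib.Classical.TensorSquare3
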