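import Mathlib

/-!
# Two involutions whose product has even order
-/

set_option autoImplicit false

namespace CfsgLib.Classical.TensorSquare3

/-- The data of two involutions with product of even order: the central involution `z` is either a square
root away from conjugating `v z` to `v`, or conjugates `v z` to `u`. -/
structure Dih {G : Type*} [Group G] (v u z : G) : Prop where
  ne : z ≠ 1
  sq : z * z = 1
  comm_left : z * v = v * z
  comm_right : z * u = u * z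
  comm : ∀ g : G, g * v = v * g → g * u = u * g → g * z = z * g
  split : (∃ j : ℕ, z = (v * u) ^ (2 * j) ∧ (v * u) ^ j * v * ((v * u) ^ j)⁻¹ = v * z ∧
        (v * u) ^ j * u * ((v * u) ^ j)⁻¹ = u * z) ∨
      (∃ k : ℕ, Odd k ∧ z = (v * u) ^ k ∧
        ∃ i : ℕ, ((v * u) * z) ^ i * (v * z) * (((v * u) * z) ^ i)⁻¹ = u)

theorem dih_of_even {G : Type*} [Group G] [Finite G] {v u : G} (hv : v * v = 1) (hu : u * u = 1)
    (h : Even (orderOf (v * u))) : ∃ z, Dih v u z := by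
  set y := v * u with hy
  obtain ⟨k, hk⟩ := h
  have hpos : 0 < orderOf y := orderOf_pos y
  have hvi : v⁻¹ = v := inv_eq_of_mul_eq_one_left hv
  have hui : u⁻¹ = u := inv_eq_of_mul_eq_one_left hu
  have hvy : v * y * v⁻¹ = y⁻¹ := by rw [hvi, hy, mul_inv_rev, hvi, hui, ← mul_assoc v v, hv, one_mul]
  have hinv : ∀ n : ℕ, v * y ^ n = (y ^ n)⁻¹ * v := fun n => by
    have e := map_pow (MulAut.conj v) y n
    simp only [MulAut.conj_apply, hvy] at e
    rw [← inv_pow, ← e, inv_mul_cancel_right]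
  have hsq : y ^ k * y ^ k = 1 := by rw [← pow_add, ← hk, pow_orderOf_eq_one]
  have hzi : (y ^ k)⁻¹ = y ^ k := inv_eq_of_mul_eq_one_left hsq
  have hzv : y ^ k * v = v * y ^ k := by rw [hinv, hzi]
  have hyu : u = v * y := by rw [hy, ← mul_assoc, hv, one_mul]
  have hconj : ∀ n : ℕ, y ^ n * v * (y ^ n)⁻¹ = v * (y ^ (2 * n))⁻¹ := fun n => by
    have e := hinv n
    have h1 : y ^ n * v = v * (y ^ n)⁻¹ := by
      calc y ^ n * v = y ^ n * (v * y ^ n) * (y ^ n)⁻¹ := by group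
        _ = y ^ n * ((y ^ n)⁻¹ * v) * (y ^ n)⁻¹ := by rw [e]
        _ = v * (y ^ n)⁻¹ := by group
    rw [h1, two_mul, pow_add, mul_inv_rev, mul_assoc]
  refine ⟨y ^ k, fun e => ?_, hsq, hzv, ?_, fun g h1 h3 => ?_, ?_⟩
  · have := Nat.le_of_dvd (by omega) (orderOf_dvd_of_pow_eq_one e)
    omega
  · rw [hyu, ← mul_assoc, hzv, mul_assoc, mul_assoc, ← pow_succ, ← pow_succ']
  · exact (Commute.pow_right (Commute.mul_right h1 h3) k)
  rcases Nat.even_or_odd k with ⟨j, hj⟩ | hodd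
  · left
    refine ⟨j, by rw [hj, two_mul], ?_, ?_⟩
    · rw [hconj, two_mul, ← hj, hzi]
    · show y ^ j * u * (y ^ j)⁻¹ = u * y ^ k
      rw [hyu]
      calc y ^ j * (v * y) * (y ^ j)⁻¹ = y ^ j * v * (y ^ j)⁻¹ * y := by group
        _ = v * y * y ^ k := by rw [hconj, two_mul, ← hj, hzi, mul_assoc, ← pow_succ, pow_succ', ← mul_assoc]
  · right
    obtain ⟨l, hl⟩ := hodd
    refine ⟨k, ⟨l, hl⟩, rfl, l, ?_⟩
    show (y * y ^ k) ^ l * (v * y ^ k) * ((y * y ^ k) ^ l)⁻¹ = u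
    have hc : Commute (y ^ k) y := (Commute.pow_self y k)
    have hp : (y * y ^ k) ^ l * (v * y ^ k) * ((y * y ^ k) ^ l)⁻¹ = y ^ l * v * (y ^ l)⁻¹ * y ^ k := by
      have h1 : (y * y ^ k) ^ l = y ^ l * (y ^ k) ^ l := (hc.symm).mul_pow l
      have h3 : Commute ((y ^ k) ^ l) (v * y ^ k) :=
        (Commute.mul_right (show Commute (y ^ k) v from hzv) (Commute.refl _)).pow_left l
      have h4 : Commute ((y ^ l)⁻¹) (y ^ k) := ((Commute.pow_pow_self y l k)).inv_left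
      rw [h1]
      calc y ^ l * (y ^ k) ^ l * (v * y ^ k) * (y ^ l * (y ^ k) ^ l)⁻¹
          = y ^ l * ((y ^ k) ^ l * (v * y ^ k)) * ((y ^ k) ^ l)⁻¹ * (y ^ l)⁻¹ := by group
        _ = y ^ l * v * (y ^ k * (y ^ l)⁻¹) := by rw [h3.eq]; group
        _ = y ^ l * v * (y ^ l)⁻¹ * y ^ k := by rw [← h4.eq]; group
    rw [hp, hconj, hyu, mul_assoc]
    congr 1
    rw [inv_mul_eq_iff_eq_mul, ← pow_succ]
    congr 1

end CfsgLib.Classical.TensorSquare3
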