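import Cfsg.Agent.Lib.Classical.TensorSquare3.CentK
import Cfsg.Agent.Lib.Classical.TensorSquare3.Dihedral

/-!
# The centraliser of a half turn of one factor
-/

set_option autoImplicit false
set_option linter.unusedSectionVars false

namespace CfsgLib.Classical.TensorSquare3

open Matrix Module QuadraticMap CfsgLib.Orth

variable {F : Type*} [Field F] [Fintype F] (h2 : (2 : F) ≠ 0)

instance : Finite (orthGroup (qq F)) :=
  Finite.of_injective (fun g : orthGroup (qq F) => ((fun X => g.1 X) : Matrix (Fin 3) (Fin 3) F → Matrix (Fin 3) (Fin 3) F))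
    fun _ _ h => Subtype.ext (LinearEquiv.ext (congrFun h))

theorem trace_mat_ne (h : (1 : F) = -3) (h2 : (2 : F) ≠ 0) : False := two_ne' h2 (by linear_combination h)

theorem mat_one_trace : (mat (1 : orthGroup (q3 F))).trace = 3 := by
  rw [mat_one, Matrix.trace_one]; simp

/-- The elements of `M` centralising `tens (dd 0) 1` and fixing the first row. -/
def fixRow (h2 : (2 : F) ≠ 0) (M : Subgroup (orthGroup (qq F))) : Subgroup (orthGroup (qq F)) where
  carrier := {g | g ∈ M ∧ g * tens h2 (dd 0) 1 = tens h2 (dd 0) 1 * g ∧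
    ∀ w, g.1 (vecMulVec (ev 0) w) = vecMulVec (ev 0) w}
  one_mem' := ⟨one_mem _, by rw [one_mul, mul_one], fun w => rfl⟩
  mul_mem' := by
    rintro g k ⟨hg, hg', hg''⟩ ⟨hk, hk', hk''⟩
    refine ⟨mul_mem hg hk, (Commute.mul_left hg' hk'), fun w => ?_⟩
    show g.1 (k.1 _) = _
    rw [hk'', hg'']
  inv_mem' := by
    rintro g ⟨hg, hg', hg''⟩
    exact ⟨inv_mem hg, (Commute.inv_left hg'), fun w => g.1.symm_apply_eq.2 (hg'' w).symm⟩

theorem tens_lft_comm {a b : orthGroup (q3 F)} (hc : a * b = b * a) :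
    tens h2 a 1 * tens h2 b 1 = tens h2 b 1 * tens h2 a 1 := by rw [tens_mul, tens_mul, hc]

theorem fin3_two (j x a b : Fin 3) (hx : x ≠ j) (ha : a ≠ j) (hb : b ≠ j) (hab : b ≠ a) : x = a ∨ x = b := by
  revert j x a b; decide

theorem fin3_one (j a b : Fin 3) (h1 : (1 : Fin 3) ≠ j) (ha : a ≠ j) (hb : b ≠ j) (hab : b ≠ a) : b = 1 ↔ ¬ a = 1 := by
  revert j a b; decide

theorem fin3_pair (a b i l i' l' j : Fin 3) (hj : (1 : Fin 3) ≠ j) (ha : a ≠ 0)
    (hz : (a = 1 ↔ b = 1) ↔ (i = 1 ↔ l = 1)) (hi : i ≠ 0) (hbj : b ≠ j) (hl : l ≠ j) (hi' : i' ≠ 0) (hii : i' ≠ i)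
    (hl' : l' ≠ j) (hll : l' ≠ l) : (a = i ∧ b = l) ∨ (a = i' ∧ b = l') := by
  have e1 := fin3_one 0 i i' (by decide) hi hi' hii
  have e2 := fin3_one j l l' hj hl hl' hll
  rcases fin3_two 0 a i i' ha hi hi' hii with rfl | rfl <;> rcases fin3_two j b l l' hbj hl hl' hll with rfl | rfl <;>
    simp_all

theorem fin3_cases (i l j k : Fin 3) (hi : i ≠ 0) (hl : l ≠ j) (hk : k ≠ j) (hk1 : k ≠ 1) (h1j : (1 : Fin 3) ≠ j) :
    (i = 1 ∨ i = 2) ∧ (l = 1 ∨ l = k) := by
  revert i l j k; decide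

theorem dd_comm (i j : Fin 3) : (dd i : orthGroup (q3 F)) * dd j = dd j * dd i :=
  mat_injective (by rw [mat_mul, mat_mul, mat_dd, mat_dd, diagonal_mul_diagonal, diagonal_mul_diagonal]; congr 1; funext k; ring)

/-- The entries with both indices of the kind fixed by `dd 1`, away from the first row. -/
noncomputable def posPart : Matrix (Fin 3) (Fin 3) F →ₗ[F] Matrix (Fin 3) (Fin 3) F :=
  (4 : F)⁻¹ • ((LinearMap.id - (tens h2 (dd 0) 1).1.toLinearMap) ∘ₗ (LinearMap.id + (tens h2 (dd 1) (dd 1)).1.toLinearMap))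

theorem posPart_apply (X : Matrix (Fin 3) (Fin 3) F) (i j : Fin 3) :
    posPart h2 X i j = if i ≠ 0 ∧ (i = 1 ↔ j = 1) then X i j else 0 := by
  have h4 := two_ne' h2
  simp only [posPart, LinearMap.smul_apply, LinearMap.comp_apply, LinearMap.sub_apply, LinearMap.add_apply,
    LinearMap.id_coe, id_eq, LinearEquiv.coe_coe, tens_apply, mat_one, mat_dd, transpose_one, Matrix.mul_one,
    diagonal_transpose, Matrix.smul_apply, Matrix.sub_apply, Matrix.add_apply, Matrix.mul_diagonal,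
    Matrix.diagonal_mul, smul_eq_mul]
  fin_cases i <;> fin_cases j <;> simp <;> field_simp <;> ring

/-- The map acting as `x` on the positive part and as the identity elsewhere. -/
noncomputable def resPart (x : orthGroup (qq F)) : Matrix (Fin 3) (Fin 3) F →ₗ[F] Matrix (Fin 3) (Fin 3) F :=
  x.1.toLinearMap ∘ₗ posPart h2 + (LinearMap.id - posPart h2)

theorem posPart_comm {x : orthGroup (qq F)} (h0 : x * tens h2 (dd 0) 1 = tens h2 (dd 0) 1 * x)
    (hZ : x * tens h2 (dd 1) (dd 1) = tens h2 (dd 1) (dd 1) * x) (X : Matrix (Fin 3) (Fin 3) F) :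
    x.1 (posPart h2 X) = posPart h2 (x.1 X) := by
  have e0 : ∀ Y, x.1 ((tens h2 (dd 0) 1).1 Y) = (tens h2 (dd 0) 1).1 (x.1 Y) :=
    LinearEquiv.congr_fun (congrArg Subtype.val h0)
  have eZ : ∀ Y, x.1 ((tens h2 (dd 1) (dd 1)).1 Y) = (tens h2 (dd 1) (dd 1)).1 (x.1 Y) :=
    LinearEquiv.congr_fun (congrArg Subtype.val hZ)
  simp only [posPart, LinearMap.smul_apply, LinearMap.comp_apply, LinearMap.sub_apply, LinearMap.add_apply,
    LinearMap.id_coe, id_eq, LinearEquiv.coe_coe, map_smul, map_sub, map_add, e0, eZ]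

theorem posPart_idem (X : Matrix (Fin 3) (Fin 3) F) : posPart h2 (posPart h2 X) = posPart h2 X := by
  ext i j
  rw [posPart_apply, posPart_apply]
  split_ifs <;> rfl

/-- An isometry acting on an orthonormal pair as a signed permutation has fourth power the identity there. -/
theorem plane_pow_four {V : Type*} [AddCommGroup V] [Module F V] {Q : QuadraticForm F V} (h2 : (2 : F) ≠ 0)
    (x : orthGroup Q) {e e' : V} (he : Q e = 1) (he' : Q e' = 1) (hee : polar Q e e' = 0) {p q r s : F}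
    (hxe : x.1 e = p • e + q • e') (hxe' : x.1 e' = r • e + s • e') (hpq : p * q = 0) :
    (x ^ 4).1 e = e ∧ (x ^ 4).1 e' = e' := by
  have hn := apply_quad x e
  rw [hxe, quad_add', quad_smul', quad_smul', he, he', polar_smul_l', polar_smul_r', hee] at hn
  have hn' := apply_quad x e'
  rw [hxe', quad_add', quad_smul', quad_smul', he, he', polar_smul_l', polar_smul_r', hee] at hn'
  have hp := polar_isom x e e'
  rw [hxe, hxe', polar_add_left, polar_add_right, polar_add_right] at hp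
  simp only [polar_smul_l', polar_smul_r', polar_self', he, he', hee, polar_comm Q e' e] at hp
  have hps : p * r + q * s = 0 := mul_left_cancel₀ h2 (by linear_combination hp)
  have e4 : ∀ z, (x ^ 4).1 z = x.1 (x.1 (x.1 (x.1 z))) := fun z => rfl
  rcases mul_eq_zero.1 hpq with rfl | rfl
  · have hq : q * q = 1 := by linear_combination hn
    have hs : s = 0 := by linear_combination q * hps - s * hq
    subst hs
    have hr : r * r = 1 := by linear_combination hn'
    constructor <;> rw [e4] <;> simp only [hxe, hxe', zero_smul, zero_add, add_zero, map_smul, smul_smul]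
    · rw [show q * r * q * r = (q * q) * (r * r) by ring, hq, hr, one_mul, one_smul]
    · rw [show r * q * r * q = (q * q) * (r * r) by ring, hq, hr, one_mul, one_smul]
  · have hq : p * p = 1 := by linear_combination hn
    have hr : r = 0 := by linear_combination p * hps - r * hq
    subst hr
    have hs : s * s = 1 := by linear_combination hn'
    constructor <;> rw [e4] <;> simp only [hxe, hxe', zero_smul, zero_add, add_zero, map_smul, smul_smul]
    · rw [show p * p * p * p = (p * p) * (p * p) by ring, hq, one_mul, one_smul]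
    · rw [show s * s * s * s = (s * s) * (s * s) by ring, hs, one_mul, one_smul]

/-- Two isometries agreeing on the unit matrices are equal. -/
theorem orth_ext_ev {g k : orthGroup (qq F)}
    (h : ∀ i l, g.1 (vecMulVec (ev i) (ev l)) = k.1 (vecMulVec (ev i) (ev l))) : g = k :=
  orth_ext_rows fun i w => by
    have hw : vecMulVec (ev i) w = ∑ l, w l • vecMulVec (ev i : Fin 3 → F) (ev l) := by
      ext a b
      rw [Matrix.sum_apply, Fin.sum_univ_three]
      fin_cases b <;> simp [vecMulVec_apply, mul_comm]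
    rw [hw, map_sum, map_sum]
    exact Finset.sum_congr rfl fun l _ => by rw [map_smul, map_smul, h]

variable {M : Subgroup (orthGroup (qq F))} (hM : Over h2 M)
include hM

omit hM in
theorem mem_fixRow_iff {g : orthGroup (qq F)} : g ∈ fixRow h2 M ↔ g ∈ M ∧
    g * tens h2 (dd 0) 1 = tens h2 (dd 0) 1 * g ∧ ∀ w, g.1 (vecMulVec (ev 0) w) = vecMulVec (ev 0) w := Iff.rfl

omit hM in
theorem cr_ev : cr (ev 0) (ev 1) = (ev 2 : Fin 3 → F) := by ext j; fin_cases j <;> simp [cr]

omit hM in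
/-- Factors commuting with the standard frame and fixing the first vector. -/
theorem cases_fix0 {a : orthGroup (q3 F)} (ha : dt a = 1) (h0 : a.1 (ev 0) = ev 0)
    (h1 : a * dd 1 = dd 1 * a) (h2 : (2 : F) ≠ 0) : a = 1 ∨ a = dd 0 := by
  have hq : ∀ i : Fin 3, q3 F (ev i) ≠ 0 := fun i => by rw [q3_single]; exact one_ne_zero
  rcases cases_of_comm_two h2 (hq 0) (hq 1) (by rw [e_dot, if_neg (by decide)]) ha
    (comm_of_apply (.inl h0)) h1 with e | e | e | e
  · exact .inl e
  · exact .inr e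
  all_goals
    exfalso
    rw [e] at h0
    first | rw [cr_ev] at h0 | skip
    rw [show ∀ i, (ax (ev i) : orthGroup (q3 F)) = dd i from fun i => rfl, dd_ev, if_neg (by decide),
      neg_one_smul] at h0
    have := congrFun h0 0
    simp at this
    exact neg_one_ne_one h2 this

/-- The centraliser of a half turn orthogonal to the first axis meets `fixRow` in the obvious elements. -/
theorem Over.fixRow_inf_cent {g : orthGroup (qq F)} (hg : g ∈ fixRow h2 M)
    (h1 : g * tens h2 (dd 1) 1 = tens h2 (dd 1) 1 * g) : g = 1 ∨ g = tens h2 (dd 0) 1 := by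
  obtain ⟨hgM, h0, hfix⟩ := hg
  obtain ⟨a, rfl, ha, ha0, -⟩ := eq_lft_of_fix_row h2 (Over.cent_frame h2 hM hgM h0 h1) hfix
  rw [tens_mul, tens_mul] at h1
  have hc := (tens_inj h2 h1 (by rw [map_mul, ha, dt_dd, one_mul]) (by rw [map_mul, ha, dt_dd, one_mul])).1
  rcases cases_fix0 ha ha0 hc h2 with e | e <;> rw [e]
  · exact .inl (tens_one h2)
  · exact .inr rfl

/-- An element fixing the first row and one further column, inverted by the half turns. -/
theorem Over.col_fixed {x : orthGroup (qq F)} (hx : x ∈ fixRow h2 M)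
    (hZ : x * tens h2 (dd 1) (dd 1) = tens h2 (dd 1) (dd 1) * x) (hodd : Odd (orderOf x)) {j k : Fin 3}
    (hj : (j = 0 ∧ k = 2) ∨ (j = 2 ∧ k = 0)) (hJ : x * tens h2 1 (dd j) = tens h2 1 (dd j) * x) : x = 1 := by
  classical
  obtain ⟨n, hn⟩ := hodd
  have hxn : x ^ (2 * n + 1) = 1 := by rw [← hn, pow_orderOf_eq_one]
  have hj1 : j ≠ 1 ∧ k ≠ 1 ∧ j ≠ k := by rcases hj with ⟨rfl, rfl⟩ | ⟨rfl, rfl⟩ <;> decide
  -- entries of the images
  have hsupp : ∀ i l, i ≠ (0 : Fin 3) → ∀ a b, x.1 (vecMulVec (ev i) (ev l)) a b ≠ 0 →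
      a ≠ 0 ∧ (b = j ↔ l = j) ∧ ((a = 1 ↔ b = 1) ↔ (i = 1 ↔ l = 1)) := by
    intro i l hi a b hab
    set X := x.1 (vecMulVec (ev i) (ev l)) with hX
    have sgn : ∀ (p q : orthGroup (q3 F)) (sp sq : F), p.1 (ev i) = sp • ev i → q.1 (ev l) = sq • ev l →
        x * tens h2 p q = tens h2 p q * x → ((tens h2 p q).1 X) a b = sp * sq * X a b := by
      intro p q sp sq hp hq hc
      have e := LinearEquiv.congr_fun (congrArg Subtype.val hc) (vecMulVec (ev i) (ev l))
      change x.1 ((tens h2 p q).1 _) = (tens h2 p q).1 (x.1 _) at e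
      rw [tens_pure, hp, hq, smul_vecMulVec, vecMulVec_smul, smul_smul, map_smul, ← hX] at e
      rw [← e]; rfl
    have one_ev : ∀ m, (1 : orthGroup (q3 F)).1 (ev m) = (1 : F) • ev m := fun m => (one_smul _ _).symm
    have e0 := sgn _ _ _ _ (dd_ev 0 i) (one_ev l) hx.2.1
    have eJ := sgn _ _ _ _ (one_ev i) (dd_ev j l) hJ
    have eZ := sgn _ _ _ _ (dd_ev 1 i) (dd_ev 1 l) hZ
    simp only [tens_apply, mat_one, mat_dd, transpose_one, Matrix.mul_one, Matrix.one_mul, diagonal_transpose,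
      Matrix.mul_diagonal, Matrix.diagonal_mul] at e0 eJ eZ
    have hne := neg_one_ne_one h2
    refine ⟨fun ha => ?_, ?_, ?_⟩
    · rw [if_pos ha, if_neg hi] at e0
      exact hne (mul_right_cancel₀ hab (by linear_combination -e0))
    · by_cases hb : b = j <;> by_cases hl : l = j <;> simp only [hb, hl, if_true, if_false] at eJ ⊢
      · exact absurd (mul_right_cancel₀ hab (show (-1 : F) * X a b = 1 * X a b by subst hb; linear_combination -eJ)) hne
      · exact absurd (mul_right_cancel₀ hab (show (-1 : F) * X a b = 1 * X a b by linear_combination eJ)) hne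
    · by_cases ha : a = 1 <;> by_cases hb : b = 1 <;> by_cases hi' : i = 1 <;> by_cases hl : l = 1 <;>
        simp [ha, hb, hi', hl] at eZ ⊢ <;>
        first
          | exact hne (mul_right_cancel₀ (by simpa [ha, hb, hi', hl] using hab) (by simpa using eZ))
          | exact hne (mul_right_cancel₀ (by simpa [ha, hb, hi', hl] using hab) (by simpa using eZ.symm))
  -- the column is fixed
  have hcol : ∀ i, x.1 (vecMulVec (ev i) (ev j)) = vecMulVec (ev i) (ev j) := by
    intro i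
    rcases eq_or_ne i 0 with rfl | hi
    · exact hx.2.2 _
    set X := x.1 (vecMulVec (ev i) (ev j)) with hX
    have hXe : X = X i j • vecMulVec (ev i) (ev j) := by
      ext a b
      rw [Matrix.smul_apply, vecMulVec_ev_ev]
      by_cases h : X a b = 0
      · split_ifs with hab
        · rw [← hab.1, ← hab.2]; simp
        · simp [h]
      · obtain ⟨ha, hb, hz⟩ := hsupp i j hi a b h
        obtain rfl := hb.2 rfl
        have : a = i := by
          rcases fin3_two 0 a i (if i = 1 then 2 else 1) ha hi (by split_ifs <;> decide) (by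
            split_ifs with e <;> [(rw [e]; decide); exact Ne.symm e]) with e | e
          · exact e
          · exfalso
            simp only [hj1.1, iff_false] at hz
            split_ifs at e with e' <;> rw [e] at hz <;> simp [e'] at hz
        rw [if_pos ⟨this, rfl⟩, smul_eq_mul, mul_one, this]
    set c := X i j
    have hc2 : c * c = 1 := by
      have h := apply_quad x (vecMulVec (ev i) (ev j))
      rwa [← hX, hXe, quad_smul', qq_pure, q3_single, q3_single, mul_one, mul_one] at h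
    have hp : ∀ m : ℕ, (x ^ m).1 (vecMulVec (ev i) (ev j)) = c ^ m • vecMulVec (ev i) (ev j) := fun m => by
      induction m with
      | zero => rw [pow_zero, pow_zero, one_smul]; rfl
      | succ m ih =>
        rw [pow_succ']
        show x.1 ((x ^ m).1 _) = _
        rw [ih, map_smul, ← hX, hXe, smul_smul, pow_succ]
    have h1 := hp (2 * n + 1)
    rw [hxn, pow_succ, pow_mul, pow_two, hc2, one_pow, one_mul] at h1
    have h3 := congrFun (congrFun h1 i) j
    change vecMulVec (ev i) (ev j) i j = _ at h3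
    rw [Matrix.smul_apply, vecMulVec_ev_ev, if_pos ⟨rfl, rfl⟩, smul_eq_mul, mul_one] at h3
    rw [hXe, ← h3, one_smul]
  -- the four remaining entries
  have hplane : ∀ i l, i ≠ (0 : Fin 3) → l ≠ j → ∀ i' l', i' ≠ (0 : Fin 3) → i' ≠ i → l' ≠ j → l' ≠ l →
      ∃ p q : F, x.1 (vecMulVec (ev i) (ev l)) =
        p • vecMulVec (ev i) (ev l) + q • vecMulVec (ev i') (ev l') := by
    intro i l hi hl i' l' hi' hii hl' hll
    set X := x.1 (vecMulVec (ev i) (ev l)) with hX
    refine ⟨X i l, X i' l', ?_⟩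
    ext a b
    rw [Matrix.add_apply, Matrix.smul_apply, Matrix.smul_apply, vecMulVec_ev_ev, vecMulVec_ev_ev]
    by_cases h : X a b = 0
    · split_ifs with h1 h3 h3
      · exact absurd (h1.1.symm.trans h3.1).symm hii
      · rw [← h1.1, ← h1.2]; simp
      · rw [← h3.1, ← h3.2]; simp
      · simp [h]
    · obtain ⟨ha, hb, hz⟩ := hsupp i l hi a b h
      have hbj : b ≠ j := fun e => hl (hb.1 e)
      have hcase := fin3_pair a b i l i' l' j hj1.1.symm ha hz hi hbj hl hi' hii hl' hll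
      rcases hcase with ⟨rfl, rfl⟩ | ⟨rfl, rfl⟩
      · rw [if_pos ⟨rfl, rfl⟩, if_neg fun e => hii e.1.symm]; simp
      · rw [if_neg fun e => hii e.1, if_pos ⟨rfl, rfl⟩]; simp
  obtain ⟨hk1, hk⟩ : k ≠ 1 ∧ k ≠ j := ⟨hj1.2.1, hj1.2.2.symm⟩
  have h1j : (1 : Fin 3) ≠ j := hj1.1.symm
  obtain ⟨α, β, h11⟩ := hplane 1 1 (by decide) h1j 2 k (by decide) (by decide) hk hk1
  obtain ⟨μ, ν, h2k⟩ : ∃ μ ν : F, x.1 (vecMulVec (ev 2) (ev k)) =
      μ • vecMulVec (ev 1) (ev 1) + ν • vecMulVec (ev 2) (ev k) := by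
    obtain ⟨p, q, e⟩ := hplane 2 k (by decide) hk 1 1 (by decide) (by decide) h1j hk1.symm
    exact ⟨q, p, by rw [e, add_comm]⟩
  obtain ⟨γ, δ, h1k⟩ := hplane 1 k (by decide) hk 2 1 (by decide) (by decide) h1j hk1.symm
  obtain ⟨ε, ζ, h21⟩ : ∃ ε ζ : F, x.1 (vecMulVec (ev 2) (ev 1)) =
      ε • vecMulVec (ev 1) (ev k) + ζ • vecMulVec (ev 2) (ev 1) := by
    obtain ⟨p, q, e⟩ := hplane 2 1 (by decide) h1j 1 k (by decide) (by decide) hk hk1
    exact ⟨q, p, by rw [e, add_comm]⟩
  have hq1 : ∀ a b : Fin 3, qq F (vecMulVec (ev a) (ev b)) = 1 := fun a b => by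
    rw [qq_pure, q3_single, q3_single, one_mul]
  have hp0 : ∀ a b c d : Fin 3, a ≠ c → polar (qq F) (vecMulVec (ev a) (ev b)) (vecMulVec (ev c) (ev d)) = 0 :=
    fun a b c d hac => by rw [polar_pure, e_dot, if_neg hac, zero_mul, mul_zero]
  have h12 : (1 : Fin 3) ≠ 2 := by decide
  have hn₁ : α * α + β * β = 1 := by
    have h := apply_quad x (vecMulVec (ev 1) (ev 1))
    rw [h11, quad_add', quad_smul', quad_smul', hq1, hq1, polar_smul_l', polar_smul_r', hp0 _ _ _ _ h12] at h
    linear_combination h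
  have hn₂ : γ * γ + δ * δ = 1 := by
    have h := apply_quad x (vecMulVec (ev 1) (ev k))
    rw [h1k, quad_add', quad_smul', quad_smul', hq1, hq1, polar_smul_l', polar_smul_r', hp0 _ _ _ _ h12] at h
    linear_combination h
  suffices hprod : α * β = 0 ∧ γ * δ = 0 by
    have hx4 : x ^ 4 = 1 := by
      obtain ⟨r11, r2k⟩ := plane_pow_four h2 x (hq1 1 1) (hq1 2 k) (hp0 _ _ _ _ h12) h11 h2k hprod.1
      obtain ⟨r1k, r21⟩ := plane_pow_four h2 x (hq1 1 k) (hq1 2 1) (hp0 _ _ _ _ h12) h1k h21 hprod.2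
      refine orth_ext_ev fun i l => ?_
      have fixed : ∀ z, x.1 z = z → (x ^ 4).1 z = z := fun z hz => by
        show x.1 (x.1 (x.1 (x.1 z))) = z
        rw [hz, hz, hz, hz]
      show _ = vecMulVec (ev i) (ev l)
      rcases eq_or_ne l j with rfl | hl
      · exact fixed _ (hcol i)
      rcases eq_or_ne i 0 with rfl | hi
      · exact fixed _ (hx.2.2 _)
      have hcases := fin3_cases i l j k hi hl hk hk1 h1j
      rcases hcases.1 with rfl | rfl <;> rcases hcases.2 with rfl | rfl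
      · exact r11
      · exact r1k
      · exact r21
      · exact r2k
    have h7 : Nat.Coprime (orderOf x) 2 := Nat.coprime_two_right.2 ⟨n, hn⟩
    exact orderOf_eq_one_iff.1 (Nat.eq_one_of_dvd_coprimes (Nat.Coprime.mul_right h7 h7) dvd_rfl
      (orderOf_dvd_of_pow_eq_one hx4))
  by_cases hcs : ∃ c s : F, c ≠ 0 ∧ s ≠ 0 ∧ c * c + s * s ≠ 0 ∧ IsSquare (c * c + s * s)
  swap
  · push Not at hcs
    constructor
    · by_contra h
      rw [mul_eq_zero] at h
      push Not at h
      exact hcs α β h.1 h.2 (by rw [hn₁]; exact one_ne_zero) (by rw [hn₁]; exact IsSquare.one)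
    · by_contra h
      rw [mul_eq_zero] at h
      push Not at h
      exact hcs γ δ h.1 h.2 (by rw [hn₂]; exact one_ne_zero) (by rw [hn₂]; exact IsSquare.one)
  obtain ⟨c, s, hc, hs, hq0, hqs⟩ := hcs
  -- the group fixing the column
  let Y : Subgroup (orthGroup (qq F)) :=
    { carrier := {g | g ∈ fixRow h2 M ∧ g * tens h2 1 (dd j) = tens h2 1 (dd j) * g ∧
        ∀ i, g.1 (vecMulVec (ev i) (ev j)) = vecMulVec (ev i) (ev j)}
      one_mem' := ⟨one_mem _, by rw [one_mul, mul_one], fun i => rfl⟩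
      mul_mem' := by
        rintro g l ⟨hg, hg', hg''⟩ ⟨hl, hl', hl''⟩
        refine ⟨mul_mem hg hl, Commute.mul_left hg' hl', fun i => ?_⟩
        show g.1 (l.1 _) = _
        rw [hl'', hg'']
      inv_mem' := by
        rintro g ⟨hg, hg', hg''⟩
        exact ⟨inv_mem hg, Commute.inv_left hg', fun i => g.1.symm_apply_eq.2 (hg'' i).symm⟩ }
  have hxY : x ∈ Y := ⟨hx, hJ, hcol⟩
  have hYcol : ∀ {g}, g ∈ Y → ∀ w : Fin 3 → F, g.1 (vecMulVec w (ev j)) = vecMulVec w (ev j) := fun {g} hg w => by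
    have hw : vecMulVec w (ev j) = ∑ i, w i • vecMulVec (ev i) (ev j) := by
      ext a b
      rw [Matrix.sum_apply, Fin.sum_univ_three]
      fin_cases a <;> simp [vecMulVec_apply]
    rw [hw, map_sum]
    exact Finset.sum_congr rfl fun i _ => by rw [map_smul, hg.2.2 i]
  have hYone : ∀ {g}, g ∈ Y → g ∈ stabOmega F h2 → g = 1 := fun {g} hg hgS => by
    obtain ⟨a, e, -⟩ := eq_lft_of_fix_row h2 hgS hg.1.2.2
    subst e
    have ha : a = 1 := Subtype.ext (LinearEquiv.ext fun w => funext fun i => by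
      have h := congrFun (congrFun (hYcol hg w) i) j
      rw [tens_pure] at h
      simpa [vecMulVec_apply] using h)
    rw [ha, tens_one]
  -- involutions inverting the whole group
  have hinv : ∀ (p q : orthGroup (q3 F)), tens h2 p q ∈ M → p * p = 1 → q * q = 1 →
      p * dd 0 = dd 0 * p → q * dd j = dd j * q → (∃ s : F, p.1 (ev 0) = s • ev 0) →
      (∃ s : F, q.1 (ev j) = s • ev j) → (∀ g ∈ Y, g * tens h2 p q = tens h2 p q * g → g ∈ stabOmega F h2) →
      x * tens h2 p q = tens h2 p q * x⁻¹ := by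
    intro p q hAM hpp hqq' hp hq hps hqs hfp
    obtain ⟨A, hA⟩ : ∃ A, A = tens h2 p q := ⟨_, rfl⟩
    rw [← hA] at hAM hfp ⊢
    have hAA : A * A = 1 := by rw [hA, tens_mul, hpp, hqq', tens_one]
    have hcT : Commute A (tens h2 (dd 0) 1) := by
      show A * _ = _ * A
      rw [hA, tens_mul, tens_mul, hp, one_mul, mul_one]
    have hcJ : Commute A (tens h2 1 (dd j)) := by
      show A * _ = _ * A
      rw [hA, tens_mul, tens_mul, hq, one_mul, mul_one]
    have hst : ∀ l ∈ Y, A * l * A ∈ Y := by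
      rintro l hlY
      obtain ⟨⟨hlM, hl0, hlr⟩, hlJ, hlc⟩ := hlY
      refine ⟨⟨mul_mem (mul_mem hAM hlM) hAM, (hcT.mul_left hl0).mul_left hcT, fun w => ?_⟩,
        (hcJ.mul_left hlJ).mul_left hcJ, fun i => ?_⟩
      · show A.1 (l.1 (A.1 _)) = _
        obtain ⟨u, hu⟩ : ∃ u', A.1 (vecMulVec (ev 0) w) = vecMulVec (ev 0) u' := by
          obtain ⟨t, ht⟩ := hps
          exact ⟨t • q.1 w, by rw [hA, tens_pure, ht, smul_vecMulVec, vecMulVec_smul]⟩
        rw [hu, hlr, ← hu]
        exact LinearEquiv.congr_fun (congrArg Subtype.val hAA) _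
      · show A.1 (l.1 (A.1 _)) = _
        obtain ⟨t, ht⟩ := hqs
        have e1 : A.1 (vecMulVec (ev i) (ev j)) = vecMulVec (t • p.1 (ev i)) (ev j) := by
          rw [hA, tens_pure, ht, smul_vecMulVec, vecMulVec_smul]
        rw [e1, hYcol ⟨⟨hlM, hl0, hlr⟩, hlJ, hlc⟩, ← e1]
        exact LinearEquiv.congr_fun (congrArg Subtype.val hAA) _
    let φ : Y →* Y :=
      { toFun := fun l => ⟨A * l.1 * A, hst l.1 l.2⟩
        map_one' := Subtype.ext (by show A * 1 * A = 1; rw [mul_one, hAA])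
        map_mul' := fun a b => Subtype.ext (by
          show A * (a.1 * b.1) * A = A * a.1 * A * (A * b.1 * A)
          calc A * (a.1 * b.1) * A = A * a.1 * (A * A) * b.1 * A := by rw [hAA]; group
            _ = _ := by group) }
    have hfix : MonoidHom.FixedPointFree φ := fun l hl => Subtype.ext (hYone l.2 (hfp l.1 l.2 (by
      have e : A * l.1 * A = l.1 := congrArg Subtype.val hl
      calc l.1 * A = A * l.1 * A * A := by rw [e]
        _ = A * l.1 := by rw [mul_assoc, hAA, mul_one])))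
    have h3 : A * x * A = x⁻¹ := congrArg Subtype.val
      (congrFun (hfix.coe_eq_inv_of_involutive fun l => Subtype.ext (by
        show A * (A * l.1 * A) * A = l.1
        calc A * (A * l.1 * A) * A = A * A * l.1 * (A * A) := by group
          _ = l.1 := by rw [hAA, one_mul, mul_one])) ⟨x, hxY⟩)
    rw [← h3, ← mul_assoc, ← mul_assoc, hAA, one_mul]
  have hpair : ∀ A B : orthGroup (qq F), x * A = A * x⁻¹ → x * B = B * x⁻¹ → ∀ X, x.1 ((A * B).1 X) = (A * B).1 (x.1 X) := by
    intro A B hA hB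
    refine LinearEquiv.congr_fun (congrArg Subtype.val (show x * (A * B) = A * B * x from ?_))
    rw [← mul_assoc, hA, mul_assoc, mul_assoc]
    congr 1
    rw [inv_mul_eq_iff_eq_mul, ← mul_assoc, hB, mul_assoc, inv_mul_cancel, mul_one]
  have hsq1 : ∀ i : Fin 3, q3 F (ev i) ≠ 0 ∧ IsSquare (q3 F (ev i)) := fun i =>
    ⟨by rw [q3_single]; exact one_ne_zero, by rw [q3_single]; exact IsSquare.one⟩
  have hd0 : ∀ i : Fin 3, ∃ t : F, (dd i : orthGroup (q3 F)).1 (ev 0) = t • ev 0 := fun i => ⟨_, dd_ev i 0⟩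
  have one_ev : ∀ m, ∃ t : F, (1 : orthGroup (q3 F)).1 (ev m) = t • ev m := fun m => ⟨1, (one_smul _ _).symm⟩
  have hS1 : ∀ z : orthGroup (q3 F), ls z = 1 → dt z = 1 → tens h2 z 1 ∈ M ∧ tens h2 1 z ∈ M := fun z hl hd =>
    ⟨hM.le (tens_pure_mem h2 hd (map_one _) (by rw [hl, map_one])),
      hM.le (tens_pure_mem h2 (map_one _) hd (by rw [hl, map_one]))⟩
  -- half turns of the first factor
  set v : Fin 3 → F := c • ev 1 + s • ev 2 with hv
  set w : Fin 3 → F := c • ev 1 + s • ev k with hw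
  have hqv : q3 F v = c * c + s * s := by
    rw [hv, quad_add', quad_smul', quad_smul', q3_single, q3_single, polar_q3, smul_dotProduct, dotProduct_smul,
      e_dot, if_neg h12]; simp
  have hqw : q3 F w = c * c + s * s := by
    rw [hw, quad_add', quad_smul', quad_smul', q3_single, q3_single, polar_q3, smul_dotProduct, dotProduct_smul,
      e_dot, if_neg hk1.symm]; simp
  have hv0 : ev 0 ⬝ᵥ v = 0 := by
    rw [hv, dotProduct_add, dotProduct_smul, dotProduct_smul, e_dot, e_dot, if_neg (by decide), if_neg (by decide)]; simp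
  have hwj : ev j ⬝ᵥ w = 0 := by
    rw [hw, dotProduct_add, dotProduct_smul, dotProduct_smul, e_dot, e_dot, if_neg h1j.symm, if_neg hk.symm]; simp
  have hdd : ∀ i : Fin 3, ∀ z : Fin 3 → F, ev i ⬝ᵥ z = 0 → (ax z).1 (ev i) = -ev i := fun i z hz =>
    ax_perp (by rw [dot_comm', hz])
  have IA : x * tens h2 (ax v) 1 = tens h2 (ax v) 1 * x⁻¹ := hinv _ _
    (hS1 _ ((ls_ax h2 (hqv ▸ hq0)).2 (hqv ▸ hqs)) (dt_ax (hqv ▸ hq0))).1 (ax_mul_self _) (one_mul _)
    (comm_of_apply (.inr (hdd _ _ hv0))) (by rw [one_mul, mul_one]) ⟨-1, by rw [hdd _ _ hv0, neg_one_smul]⟩ (one_ev j)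
    fun g hg e => Over.cent_left h2 hM hg.1.1 (hsq1 0).1 (hsq1 0).2 (hqv ▸ hq0) (hqv ▸ hqs) hv0 hg.1.2.1 e
  have Ir : x * tens h2 (dd 1) 1 = tens h2 (dd 1) 1 * x⁻¹ := hinv _ _
    (hS1 _ (ls_dd h2 1) (dt_dd 1)).1 (ax_mul_self _) (one_mul _) (dd_comm 1 0) (by rw [one_mul, mul_one]) (hd0 1)
    (one_ev j) fun g hg e => Over.cent_frame h2 hM hg.1.1 hg.1.2.1 e
  have IB : x * tens h2 1 (ax w) = tens h2 1 (ax w) * x⁻¹ := hinv _ _
    (hS1 _ ((ls_ax h2 (hqw ▸ hq0)).2 (hqw ▸ hqs)) (dt_ax (hqw ▸ hq0))).2 (one_mul _) (ax_mul_self _)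
    (by rw [one_mul, mul_one]) (comm_of_apply (.inr (hdd _ _ hwj))) (one_ev 0) ⟨-1, by rw [hdd _ _ hwj, neg_one_smul]⟩
    fun g hg e => Over.cent_right h2 hM hg.1.1 (hsq1 j).1 (hsq1 j).2 (hqw ▸ hq0) (hqw ▸ hqs) hwj hg.2.1 e
  have Id : x * tens h2 1 (dd 1) = tens h2 1 (dd 1) * x⁻¹ := hinv _ _
    (hS1 _ (ls_dd h2 1) (dt_dd 1)).2 (one_mul _) (ax_mul_self _) (by rw [one_mul, mul_one]) (dd_comm 1 j) (one_ev 0)
    ⟨_, dd_ev 1 j⟩ fun g hg e => Over.cent_right h2 hM hg.1.1 (hsq1 j).1 (hsq1 j).2 (hsq1 1).1 (hsq1 1).2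
      (by rw [e_dot, if_neg h1j.symm]) hg.2.1 e
  -- the rotations
  set C : F := (c * c - s * s) / (c * c + s * s) with hC
  set S : F := 2 * (c * s) / (c * c + s * s) with hS
  have hS0 : S ≠ 0 := div_ne_zero (mul_ne_zero h2 (mul_ne_zero hc hs)) hq0
  have rot : ∀ m : Fin 3, m ≠ 1 → (ax (c • ev 1 + s • ev m) : orthGroup (q3 F)).1 ((dd 1 : orthGroup (q3 F)).1 (ev 1)) = C • ev 1 + S • ev m ∧
      (ax (c • ev 1 + s • ev m) : orthGroup (q3 F)).1 ((dd 1 : orthGroup (q3 F)).1 (ev m)) = (-S) • ev 1 + C • ev m := by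
    intro m hm
    have hq : q3 F (c • ev 1 + s • ev m) = c * c + s * s := by
      rw [quad_add', quad_smul', quad_smul', q3_single, q3_single, polar_q3, smul_dotProduct, dotProduct_smul,
        e_dot, if_neg hm.symm]; simp
    rw [dd_ev, dd_ev, if_pos rfl, if_neg hm, one_smul, neg_one_smul, map_neg, ax_apply, ax_apply, hq]
    simp only [add_dotProduct, smul_dotProduct, e_dot, if_pos, if_neg hm, if_neg hm.symm, smul_eq_mul, mul_one,
      mul_zero, add_zero, zero_add]
    have hqi := mul_inv_cancel₀ hq0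
    have k1 : (c * c + s * s)⁻¹ * (2 * c) * c - 1 = C := by rw [hC, div_eq_mul_inv]; linear_combination hqi
    have k2 : (c * c + s * s)⁻¹ * (2 * c) * s = S := by rw [hS]; field_simp
    have k3 : 1 - (c * c + s * s)⁻¹ * (2 * s) * s = C := by rw [hC, div_eq_mul_inv]; linear_combination -hqi
    constructor <;> ext i <;> rcases eq_or_ne i 1 with rfl | hi
    · simp [hm.symm]
      linear_combination k1
    · rcases eq_or_ne i m with rfl | him
      · simp [hi]
        linear_combination k2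
      · simp [hi, him]
    · simp [hm.symm]
      linear_combination -k2
    · rcases eq_or_ne i m with rfl | him
      · simp [hi]
        linear_combination k3
      · simp [hi, him]
  have hR : ∀ a b : Fin 3 → F, (tens h2 (ax v) 1 * tens h2 (dd 1) 1).1 (vecMulVec a b) =
      vecMulVec ((ax v).1 ((dd 1 : orthGroup (q3 F)).1 a)) b := fun a b => by rw [tens_mul, tens_pure, apply_mul, mul_one]; rfl
  have hR' : ∀ a b : Fin 3 → F, (tens h2 1 (ax w) * tens h2 1 (dd 1)).1 (vecMulVec a b) =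
      vecMulVec a ((ax w).1 ((dd 1 : orthGroup (q3 F)).1 b)) := fun a b => by rw [tens_mul, one_mul, tens_pure, apply_mul]; rfl
  have coord : ∀ {X Y : Matrix (Fin 3) (Fin 3) F}, X = Y → ∀ a b, X a b = Y a b := fun h a b => by rw [h]
  obtain ⟨v1, v2⟩ := rot 2 (by decide)
  obtain ⟨w1, w2⟩ := rot k hk1
  rw [← hv] at v1 v2
  rw [← hw] at w1 w2
  have eA := hpair _ _ IA Ir (vecMulVec (ev 1) (ev 1))
  have eB := hpair _ _ IA Ir (vecMulVec (ev 1) (ev k))
  have eC := hpair _ _ IB Id (vecMulVec (ev 1) (ev 1))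
  simp only [hR, hR', h11, h1k, h21, h2k, v1, v2, w1, w2, add_vecMulVec, vecMulVec_add, smul_vecMulVec, vecMulVec_smul,
    map_add, map_smul, smul_add, smul_smul] at eA eB eC
  have hA1 := coord eA 2 1
  have hA2 := coord eA 1 k
  have hB1 := coord eB 2 k
  have hB2 := coord eB 1 1
  have hC1 := coord eC 1 k
  have hC2 := coord eC 2 1
  simp only [Matrix.add_apply, Matrix.smul_apply, vecMulVec_ev_ev, smul_eq_mul, h12, h12.symm, hk1, hk1.symm, and_self,
    and_false, false_and, and_true, true_and, if_false, if_true, mul_one, mul_zero, add_zero, zero_add] at hA1 hA2 hB1 hB2 hC1 hC2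
  have e_ζ : ζ = α := mul_left_cancel₀ hS0 (by linear_combination hA1)
  have e_ε : ε = -β := mul_left_cancel₀ hS0 (by linear_combination hA2)
  have e_ν : ν = γ := mul_left_cancel₀ hS0 (by linear_combination hB1)
  have e_μ : μ = -δ := mul_left_cancel₀ hS0 (by linear_combination hB2)
  have e_γ : γ = α := mul_left_cancel₀ hS0 (by linear_combination hC1)
  have e_δ : δ = -β := mul_left_cancel₀ hS0 (by linear_combination hC2)
  have hp := polar_isom x (vecMulVec (ev 1) (ev 1)) (vecMulVec (ev 2) (ev k))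
  rw [h11, h2k, polar_add_left, polar_add_right, polar_add_right] at hp
  simp only [polar_smul_l', polar_smul_r', polar_self', hq1, hp0 _ _ _ _ h12, hp0 _ _ _ _ h12.symm] at hp
  rw [e_μ, e_ν, e_γ, e_δ] at hp
  have hab : α * β = 0 := mul_left_cancel₀ (two_ne' h2) (by linear_combination hp)
  exact ⟨hab, by rw [e_γ, e_δ, mul_neg, hab, neg_zero]⟩

omit hM in
include h2 in
theorem dt_sq9 (g : orthGroup (qq F)) : dt g * dt g = 1 := by
  have hg : g ∈ reflGroup (qq F) := by
    rw [reflGroup_eq_top (nondeg9 h2) (good_of_two_ne h2)]; trivial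
  refine MonoidHom.eqOn_closure (f := dt * dt) (g := (1 : orthGroup (qq F) →* F)) ?_ hg
  rintro _ ⟨v, rfl⟩
  rcases eq_or_ne (qq F v) 0 with e | e
  · simp [refl_of_singular e]
  · show dt (refl (qq F) v) * dt (refl (qq F) v) = 1
    rw [dt_refl e]; ring

omit hM in
theorem polar_posPart (X Y : Matrix (Fin 3) (Fin 3) F) :
    polar (qq F) (posPart h2 Y) (X - posPart h2 X) = 0 := by
  rw [polar_qq, Matrix.trace, Fin.sum_univ_three]
  simp only [Matrix.diag_apply, Matrix.mul_apply, Fin.sum_univ_three, transpose_apply, Matrix.sub_apply, posPart_apply]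
  simp

/-- The elements of `fixRow` commuting with `tens (dd 1) (dd 1)`. -/
noncomputable def fixPart (M : Subgroup (orthGroup (qq F))) : Subgroup (orthGroup (qq F)) :=
  fixRow h2 M ⊓ Subgroup.centralizer {tens h2 (dd 1) (dd 1)}

omit hM in
theorem fixPart_comm {x : orthGroup (qq F)} (hx : x ∈ fixPart h2 M) :
    x * tens h2 (dd 0) 1 = tens h2 (dd 0) 1 * x ∧
      x * tens h2 (dd 1) (dd 1) = tens h2 (dd 1) (dd 1) * x :=
  ⟨hx.1.2.1, Subgroup.mem_centralizer_singleton_iff.1 hx.2⟩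

omit hM in
theorem fixPart_posPart {x : orthGroup (qq F)} (hx : x ∈ fixPart h2 M) (X : Matrix (Fin 3) (Fin 3) F) :
    x.1 (posPart h2 X) = posPart h2 (x.1 X) :=
  posPart_comm h2 (fixPart_comm h2 hx).1 (fixPart_comm h2 hx).2 X

omit hM in
/-- The action on the positive part, as a homomorphism. -/
noncomputable def resHom (M : Subgroup (orthGroup (qq F))) : fixPart h2 M →* orthGroup (qq F) where
  toFun x :=
    ⟨{ resPart h2 x.1 with
        invFun := resPart h2 (x⁻¹).1
        left_inv := fun X => by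
          show resPart h2 (x⁻¹).1 (resPart h2 x.1 X) = X
          simp only [resPart, LinearMap.add_apply, LinearMap.comp_apply, LinearMap.sub_apply, LinearMap.id_coe, id_eq,
            LinearEquiv.coe_coe, map_add, map_sub, ← fixPart_posPart h2 x.2, posPart_idem, sub_self, add_zero]
          rw [show ((x⁻¹ : fixPart h2 M) : orthGroup (qq F)).1 (x.1.1 (posPart h2 X)) = posPart h2 X from
            x.1.1.symm_apply_apply _]
          abel
        right_inv := fun X => by
          show resPart h2 x.1 (resPart h2 (x⁻¹).1 X) = X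
          simp only [resPart, LinearMap.add_apply, LinearMap.comp_apply, LinearMap.sub_apply, LinearMap.id_coe, id_eq,
            LinearEquiv.coe_coe, map_add, map_sub, ← fixPart_posPart h2 (x⁻¹).2, posPart_idem, sub_self, add_zero]
          rw [show x.1.1 (((x⁻¹ : fixPart h2 M) : orthGroup (qq F)).1 (posPart h2 X)) = posPart h2 X from
            x.1.1.apply_symm_apply _]
          abel },
      fun X => by
        show qq F (resPart h2 x.1 X) = qq F X
        simp only [resPart, LinearMap.add_apply, LinearMap.comp_apply, LinearMap.sub_apply, LinearMap.id_coe, id_eq,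
          LinearEquiv.coe_coe]
        have h1 := quad_add' (Q := qq F) (posPart h2 X) (X - posPart h2 X)
        rw [add_sub_cancel, polar_posPart] at h1
        rw [quad_add', fixPart_posPart h2 x.2, polar_posPart, ← fixPart_posPart h2 x.2, apply_quad, h1]⟩
  map_one' := Subtype.ext (LinearEquiv.ext fun X => by
    show resPart h2 (1 : orthGroup (qq F)) X = X
    simp only [resPart, LinearMap.add_apply, LinearMap.comp_apply, LinearMap.sub_apply, LinearMap.id_coe, id_eq,
      LinearEquiv.coe_coe]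
    show posPart h2 X + _ = X
    abel)
  map_mul' x y := Subtype.ext (LinearEquiv.ext fun X => by
    show resPart h2 (x.1 * y.1) X = resPart h2 x.1 (resPart h2 y.1 X)
    simp only [resPart, LinearMap.add_apply, LinearMap.comp_apply, LinearMap.sub_apply, LinearMap.id_coe, id_eq,
      LinearEquiv.coe_coe, map_add, map_sub, ← fixPart_posPart h2 y.2, posPart_idem, sub_self, add_zero]
    rw [apply_mul']
    abel)
where
  apply_mul' {g k : orthGroup (qq F)} {Z : Matrix (Fin 3) (Fin 3) F} : (g * k).1 Z = g.1 (k.1 Z) := rfl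

omit hM in
theorem resHom_apply (x : fixPart h2 M) (X : Matrix (Fin 3) (Fin 3) F) :
    (resHom h2 M x).1 X = x.1.1 (posPart h2 X) + (X - posPart h2 X) := rfl

omit hM in
theorem tens_dd0_row (w : Fin 3 → F) :
    (tens h2 (dd 0) 1).1 (vecMulVec (ev 0) w) = vecMulVec (ev 0) w := by
  rw [tens_pure, dd_ev, if_pos rfl, one_smul]; rfl

omit hM in
theorem neg_left_pure (a b : Fin 3 → F) : vecMulVec (-a) b = -vecMulVec a b := by
  ext i j; simp [vecMulVec_apply]

omit hM in
theorem neg_right_pure (a b : Fin 3 → F) : vecMulVec a (-b) = -vecMulVec a b := by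
  ext i j; simp [vecMulVec_apply]

omit hM in
/-- A conjugate of an element of `fixRow` by a tensor map preserving the first row. -/
theorem conj_fixRow {g : orthGroup (qq F)} (hg : g ∈ fixRow h2 M) {a b : orthGroup (q3 F)}
    (hab : tens h2 a b ∈ M) (ha : a * dd 0 = dd 0 * a) {t : F} (hat : a.1 (ev 0) = t • ev 0) :
    tens h2 a b * g * (tens h2 a b)⁻¹ ∈ fixRow h2 M := by
  obtain ⟨k, hk⟩ : ∃ k, k = tens h2 a b := ⟨_, rfl⟩
  rw [← hk] at hab ⊢
  have hkT : Commute k (tens h2 (dd 0) 1) := by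
    show k * _ = _ * k
    rw [hk, tens_mul, tens_mul, ha, one_mul, mul_one]
  refine ⟨mul_mem (mul_mem hab hg.1) (inv_mem hab), (hkT.mul_left hg.2.1).mul_left hkT.inv_left, fun w => ?_⟩
  show k.1 (g.1 (k.1.symm _)) = _
  have hkw : k.1 (vecMulVec (ev 0) (t • (b⁻¹).1 w)) = vecMulVec (ev 0) w := by
    rw [hk, tens_pure, map_smul, Orth.inv_apply, hat, vecMulVec_smul, smul_vecMulVec, smul_smul]
    have := apply_quad a (ev 0)
    rw [hat, quad_smul', q3_single, mul_one] at this
    rw [this, one_smul]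
  rw [← hkw, k.1.symm_apply_apply, hg.2.2]

/-- The fixed elements of `fixPart` are trivial modulo the defining half turn. -/
theorem Over.fixPart_cases {x : orthGroup (qq F)} (hx : x ∈ fixPart h2 M) : x = 1 ∨ x = tens h2 (dd 0) 1 := by
  classical
  set T := tens h2 (dd 0) (1 : orthGroup (q3 F)) with hT
  have hddM : ∀ i : Fin 3, tens h2 (dd i) (1 : orthGroup (q3 F)) ∈ M ∧ tens h2 (1 : orthGroup (q3 F)) (dd i) ∈ M :=
    fun i => ⟨hM.le (tens_pure_mem h2 (dt_dd i) (map_one _) (by rw [ls_dd h2, map_one])),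
      hM.le (tens_pure_mem h2 (map_one _) (dt_dd i) (by rw [ls_dd h2, map_one]))⟩
  have hTX : T ∈ fixPart h2 M := by
    refine ⟨⟨(hddM 0).1, rfl, tens_dd0_row h2⟩, Subgroup.mem_centralizer_singleton_iff.2 ?_⟩
    rw [hT, tens_mul, tens_mul, dd_comm 0 1, one_mul, mul_one]
  let χ : fixPart h2 M →* F := dt.comp (resHom h2 M)
  have hχT : χ ⟨T, hTX⟩ = -1 := by
    have hres : resHom h2 M ⟨T, hTX⟩ = refl (qq F) (vecMulVec (ev 1) (ev 1)) * refl (qq F) (vecMulVec (ev 2) (ev 0)) *
        refl (qq F) (vecMulVec (ev 2) (ev 2)) := by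
      refine orth_ext_ev fun i l => ?_
      have hq1 : ∀ a b : Fin 3, qq F (vecMulVec (ev a) (ev b)) = 1 := fun a b => by
        rw [qq_pure, q3_single, q3_single, one_mul]
      show _ = (refl (qq F) _).1 ((refl (qq F) _).1 ((refl (qq F) _).1 _))
      rw [resHom_apply]
      simp only [refl_apply, hq1, inv_one, one_mul, map_sub, map_smul, polar_pure, e_dot]
      ext a b
      simp only [Matrix.add_apply, Matrix.sub_apply, Matrix.smul_apply, hT, tens_apply, mat_dd, mat_one, transpose_one,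
        Matrix.mul_one, Matrix.diagonal_mul, posPart_apply, vecMulVec_ev_ev, smul_eq_mul]
      fin_cases i <;> fin_cases l <;> fin_cases a <;> fin_cases b <;> simp <;> ring
    have hq : ∀ a b : Fin 3, qq F (vecMulVec (ev a) (ev b)) ≠ 0 := fun a b => by
      rw [qq_pure, q3_single, q3_single, one_mul]; exact one_ne_zero
    show dt (resHom h2 M ⟨T, hTX⟩) = -1
    rw [hres, dt_three (hq 1 1) (hq 2 0) (hq 2 2)]
  suffices hO : ∀ y : fixPart h2 M, χ y = 1 → y = 1 by
    rcases mul_self_eq_one_iff.1 (show χ ⟨x, hx⟩ * χ ⟨x, hx⟩ = 1 from dt_sq9 h2 _) with e | e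
    · exact .inl (congrArg Subtype.val (hO _ e))
    · refine .inr ?_
      have h1 := hO (⟨x, hx⟩ * ⟨T, hTX⟩) (by rw [map_mul, e, hχT]; ring)
      have h3 : x * T = 1 := congrArg Subtype.val h1
      rw [eq_inv_of_mul_eq_one_left h3, hT, tens_inv, inv_one, inv_eq_of_mul_eq_one_left (ax_mul_self _)]
  -- conjugation by a tensor map of the stabiliser
  have conjX : ∀ (a b : orthGroup (q3 F)) (t : F), tens h2 a b ∈ M → a * a = 1 → b * b = 1 → a * dd 0 = dd 0 * a →
      a.1 (ev 0) = t • ev 0 → a * dd 1 = dd 1 * a → b * dd 1 = dd 1 * b →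
      ∀ y : fixPart h2 M, χ y = 1 → ∃ y' : fixPart h2 M, χ y' = 1 ∧ y'.1 = tens h2 a b * y.1 * tens h2 a b := by
    intro a b t hab ha hb ha0 hat ha1 hb1 y hy
    obtain ⟨k, hk⟩ : ∃ k, k = tens h2 a b := ⟨_, rfl⟩
    rw [← hk] at hab ⊢
    have hki : k⁻¹ = k := inv_eq_of_mul_eq_one_left (by rw [hk, tens_mul, ha, hb, tens_one])
    have hkT : k * T = T * k := by rw [hk, hT, tens_mul, tens_mul, ha0, one_mul, mul_one]
    have hkZ : k * tens h2 (dd 1) (dd 1) = tens h2 (dd 1) (dd 1) * k := by rw [hk, tens_mul, tens_mul, ha1, hb1]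
    have h1 : k * y.1 * k⁻¹ ∈ fixRow h2 M := by rw [hk]; exact conj_fixRow h2 y.2.1 (hk ▸ hab) ha0 hat
    have hY : k * y.1 * k⁻¹ ∈ fixPart h2 M := ⟨h1, Subgroup.mem_centralizer_singleton_iff.2
      (((show Commute k _ from hkZ).mul_left (fixPart_comm h2 y.2).2).mul_left (Commute.inv_left hkZ))⟩
    refine ⟨⟨_, hY⟩, ?_, by show k * y.1 * k⁻¹ = k * y.1 * k; rw [hki]⟩
    rw [← hy]
    show dt (resHom h2 M ⟨_, hY⟩) = dt (resHom h2 M y)
    have he : resHom h2 M ⟨_, hY⟩ = k * resHom h2 M y * k⁻¹ := by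
      refine Subtype.ext (LinearEquiv.ext fun X => ?_)
      have hkp : ∀ Z, k.1 (posPart h2 Z) = posPart h2 (k.1 Z) := posPart_comm h2 (hT ▸ hkT) hkZ
      show k.1 (y.1.1 (k⁻¹.1 (posPart h2 X))) + (X - posPart h2 X) = k.1 ((resHom h2 M y).1 (k⁻¹.1 X))
      rw [resHom_apply, hki, map_add, map_sub, ← hkp]
      have : ∀ Z, k.1 (k.1 Z) = Z := fun Z => by
        conv_lhs => rw [show k.1 (k.1 Z) = k.1 (k⁻¹.1 Z) by rw [hki]]
        exact k.1.apply_symm_apply Z
      simp only [this]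
    rw [he, map_mul, map_mul, mul_right_comm, ← map_mul, mul_inv_cancel, map_one, one_mul]
  -- half turns of the first factor invert the kernel
  obtain ⟨r, hr⟩ : ∃ r, r = tens h2 (dd 1) (1 : orthGroup (q3 F)) := ⟨_, rfl⟩
  have hrr : r * r = 1 := by rw [hr, tens_mul, ax_mul_self, one_mul, tens_one]
  let O : Subgroup (fixPart h2 M) := χ.ker
  choose φ₀ hφ₀ hφ₀' using conjX (dd 1) 1 (-1) (hddM 1).1 (ax_mul_self _) (one_mul _) (dd_comm 1 0)
    (by rw [dd_ev, if_neg (by decide)]) rfl (by rw [one_mul, mul_one])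
  let φ : O →* O :=
    { toFun := fun y => ⟨φ₀ y.1 y.2, hφ₀ y.1 y.2⟩
      map_one' := Subtype.ext (Subtype.ext (by
        refine (hφ₀' _ _).trans ?_
        rw [← hr]
        show r * 1 * r = 1
        rw [mul_one, hrr]))
      map_mul' := fun a b => Subtype.ext (Subtype.ext (by
        refine (hφ₀' _ _).trans (Eq.trans ?_ (congrArg₂ (· * ·) (hφ₀' a.1 a.2) (hφ₀' b.1 b.2)).symm)
        rw [← hr]
        show r * (a.1.1 * b.1.1) * r = r * a.1.1 * r * (r * b.1.1 * r)
        calc r * (a.1.1 * b.1.1) * r = r * a.1.1 * (r * r) * b.1.1 * r := by rw [hrr]; group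
          _ = _ := by group)) }
  have hφ : ∀ y : O, (φ y).1.1 = r * y.1.1 * r := fun y => by rw [hr]; exact hφ₀' _ _
  have hinvol : Function.Involutive φ := fun y => Subtype.ext (Subtype.ext (by
    rw [hφ, hφ]
    calc r * (r * y.1.1 * r) * r = r * r * y.1.1 * (r * r) := by group
      _ = y.1.1 := by rw [hrr, one_mul, mul_one]))
  have hfix : MonoidHom.FixedPointFree φ := fun y hy => by
    have e : r * y.1.1 * r = y.1.1 := (hφ y).symm.trans (congrArg (fun z : O => z.1.1) hy)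
    have hc : y.1.1 * tens h2 (dd 1) 1 = tens h2 (dd 1) 1 * y.1.1 := by
      rw [← hr]
      calc y.1.1 * r = r * y.1.1 * r * r := by rw [e]
        _ = r * y.1.1 := by rw [mul_assoc, hrr, mul_one]
    rcases Over.fixRow_inf_cent h2 hM y.1.2.1 hc with h | h
    · exact Subtype.ext (Subtype.ext h)
    · exfalso
      have h1 : χ y.1 = 1 := y.2
      rw [show y.1 = ⟨T, hTX⟩ from Subtype.ext h, hχT] at h1
      exact neg_one_ne_one h2 h1
  intro y hy
  -- the second factor
  obtain ⟨y', hy', e'⟩ := conjX 1 (dd 0) 1 (hddM 0).2 (one_mul _) (ax_mul_self _) (by rw [one_mul, mul_one])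
    (one_smul _ _).symm (by rw [one_mul, mul_one]) (dd_comm 0 1) y hy
  obtain ⟨b, hb⟩ : ∃ b, b = tens h2 (1 : orthGroup (q3 F)) (dd 0) := ⟨_, rfl⟩
  rw [← hb] at e'
  have hbb : b * b = 1 := by rw [hb, tens_mul, ax_mul_self, one_mul, tens_one]
  set Y : O := ⟨y, hy⟩
  set Y' : O := ⟨y', hy'⟩
  have hab : Y * Y' = Y' * Y := hfix.commute_all_of_involutive hinvol Y Y'
  have hrinv : ∀ z : O, r * z.1.1 * r = z.1.1⁻¹ := fun z => by
    rw [← hφ]
    exact congrArg (fun w : O => w.1.1) (congrFun (hfix.coe_eq_inv_of_involutive hinvol) z)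
  have hodd : ∀ z : O, Odd (orderOf z.1.1) := fun z => by
    rw [Subgroup.orderOf_coe, Subgroup.orderOf_coe]
    exact hfix.odd_orderOf_of_involutive hinvol z
  have hcomm : y.1 * y'.1 = y'.1 * y.1 := congrArg (fun w : O => w.1.1) hab
  have hby : b * y.1 * b = y'.1 := e'.symm
  have hby' : b * y'.1 * b = y.1 := by
    rw [e']
    calc b * (b * y.1 * b) * b = b * b * y.1 * (b * b) := by group
      _ = y.1 := by rw [hbb, one_mul, mul_one]
  have hconj : ∀ p q : orthGroup (qq F), b * (p * q) * b = b * p * b * (b * q * b) := fun p q => by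
    calc b * (p * q) * b = b * p * (b * b) * q * b := by rw [hbb]; group
      _ = _ := by group
  have z1 : y.1 * y'.1 = 1 := by
    refine Over.col_fixed h2 hM (x := y.1 * y'.1) (mul_mem y.2.1 y'.2.1) (fixPart_comm h2 (mul_mem y.2 y'.2)).2
      (hodd (Y * Y')) (j := 0) (k := 2) (.inl ⟨rfl, rfl⟩) ?_
    rw [← hb]
    have : b * (y.1 * y'.1) * b = y.1 * y'.1 := by rw [hconj, hby, hby', hcomm]
    calc y.1 * y'.1 * b = b * (y.1 * y'.1) * b * b := by rw [this]
      _ = b * (y.1 * y'.1) := by rw [mul_assoc, hbb, mul_one]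
  have z2 : y.1 * y'.1⁻¹ = 1 := by
    have hzz : tens h2 (dd 1) (dd 1) * tens h2 (dd 1) (dd 1) = (1 : orthGroup (qq F)) := by
      rw [tens_mul, ax_mul_self, tens_one]
    have hd2 : tens h2 (1 : orthGroup (q3 F)) (dd 2) = r * b * tens h2 (dd 1) (dd 1) := by
      rw [hr, hb, tens_mul, tens_mul, mul_one, ax_mul_self, one_mul]
      congr 1
      refine mat_injective ?_
      rw [mat_mul, mat_dd, mat_dd, mat_dd, diagonal_mul_diagonal]
      congr 1
      funext i
      fin_cases i <;> simp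
    refine Over.col_fixed h2 hM (x := y.1 * y'.1⁻¹) (mul_mem y.2.1 (inv_mem y'.2.1))
      (fixPart_comm h2 (mul_mem y.2 (inv_mem y'.2))).2
      (hodd (Y * Y'⁻¹)) (j := 2) (k := 0) (.inr ⟨rfl, rfl⟩) ?_
    set w := y.1 * y'.1⁻¹ with hw
    have hwb : b * w * b = w⁻¹ := by
      have hi : b * y'.1⁻¹ * b = y.1⁻¹ := by
        rw [← hby', _root_.mul_inv_rev, _root_.mul_inv_rev, inv_eq_of_mul_eq_one_left hbb, mul_assoc]
      rw [hw, hconj, hby, hi, _root_.mul_inv_rev, inv_inv]
    have hwr : r * w * r = w⁻¹ := hrinv (Y * Y'⁻¹)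
    have hwr' : w⁻¹ * r = r * w := by
      rw [← hwr, mul_assoc, hrr, mul_one]
    have hwb' : w * b = b * w⁻¹ := by
      rw [← hwb, ← mul_assoc, ← mul_assoc, hbb, one_mul]
    have hwr'' : w * r = r * w⁻¹ := by
      rw [← hwr, ← mul_assoc, ← mul_assoc, hrr, one_mul]
    have hwbi : w⁻¹ * b = b * w := by
      rw [← hwb, mul_assoc, hbb, mul_one]
    have hwz : w * tens h2 (dd 1) (dd 1) = tens h2 (dd 1) (dd 1) * w :=
      (fixPart_comm h2 (mul_mem y.2 (inv_mem y'.2))).2
    rw [hd2, ← mul_assoc, ← mul_assoc, hwr'', mul_assoc r, hwbi, ← mul_assoc r b, mul_assoc (r * b), hwz, ← mul_assoc]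
  have hy2 : y.1 * y.1 = 1 := by
    have e : y.1 = y'.1 := mul_inv_eq_one.1 z2
    rwa [← e] at z1
  obtain ⟨n, hn⟩ := hodd Y
  refine Subtype.ext ?_
  have h1 := pow_orderOf_eq_one y.1
  rw [show orderOf y.1 = 2 * n + 1 from hn, pow_succ, pow_mul, pow_two, hy2, one_pow, one_mul] at h1
  exact h1

/-- The centraliser of the second half turn contains `fixRow`. -/
theorem Over.fixRow_comm_dd {g : orthGroup (qq F)} (hg : g ∈ fixRow h2 M) :
    g * tens h2 1 (dd 1) = tens h2 1 (dd 1) * g := by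
  classical
  obtain ⟨D, hD⟩ : ∃ D, D = tens h2 (1 : orthGroup (q3 F)) (dd 1) := ⟨_, rfl⟩
  obtain ⟨r, hr⟩ : ∃ r, r = tens h2 (dd 1) (1 : orthGroup (q3 F)) := ⟨_, rfl⟩
  obtain ⟨T, hT⟩ : ∃ T, T = tens h2 (dd 0) (1 : orthGroup (q3 F)) := ⟨_, rfl⟩
  rw [← hD]
  have hgT : g * T = T * g := by rw [hT]; exact hg.2.1
  have hDM : D ∈ M := hD ▸ hM.le (tens_pure_mem h2 (map_one _) (dt_dd 1) (by rw [ls_dd h2, map_one]))
  have hrM : r ∈ M := hr ▸ hM.le (tens_pure_mem h2 (dt_dd 1) (map_one _) (by rw [ls_dd h2, map_one]))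
  obtain ⟨u, hu⟩ : ∃ u, u = g * D * g⁻¹ := ⟨_, rfl⟩
  have huM : u ∈ M := hu ▸ mul_mem (mul_mem hg.1 hDM) (inv_mem hg.1)
  have hDD : D * D = 1 := by rw [hD, tens_mul, ax_mul_self, one_mul, tens_one]
  have hrr : r * r = 1 := by rw [hr, tens_mul, ax_mul_self, one_mul, tens_one]
  have huu : u * u = 1 := by
    rw [hu]
    calc g * D * g⁻¹ * (g * D * g⁻¹) = g * (D * D) * g⁻¹ := by group
      _ = 1 := by rw [hDD, mul_one, mul_inv_cancel]
  have hDT : Commute D T := by show D * T = T * D; rw [hD, hT, tens_mul, tens_mul, mul_one, one_mul, mul_one, one_mul]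
  have hrT : Commute r T := by show r * T = T * r; rw [hr, hT, tens_mul, tens_mul, dd_comm 1 0]
  have huT : Commute u T := hu ▸ ((show Commute g T from hgT).mul_left hDT).mul_left (Commute.inv_left hgT)
  -- the product on the first row
  obtain ⟨e₁, he₁⟩ : ∃ e₁ : orthGroup (q3 F), e₁ = negO * dd 1 := ⟨_, rfl⟩
  have hu0 : ∀ w, u.1 (vecMulVec (ev 0) w) = vecMulVec (ev 0) ((dd 1 : orthGroup (q3 F)).1 w) := fun w => by
    show _ = _
    rw [hu]
    show g.1 (D.1 (g.1.symm _)) = _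
    rw [show g.1.symm (vecMulVec (ev 0) w) = vecMulVec (ev 0) w from g.1.symm_apply_eq.2 (hg.2.2 w).symm, hD,
      tens_pure, show (1 : orthGroup (q3 F)).1 (ev 0) = ev 0 from rfl, hg.2.2]
  have hy0 : ∀ (n : ℕ) w, ((r * u) ^ n).1 (vecMulVec (ev 0) w) = vecMulVec (ev 0) ((e₁ ^ n).1 w) := by
    intro n
    induction n with
    | zero => intro w; rfl
    | succ n ih =>
      intro w
      rw [pow_succ, pow_succ]
      show ((r * u) ^ n).1 (r.1 (u.1 _)) = vecMulVec (ev 0) ((e₁ ^ n).1 (e₁.1 w))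
      rw [hu0, hr, tens_pure, dd_ev, if_neg (by decide), neg_one_smul, neg_left_pure, ← neg_right_pure, ← hr, ih,
        he₁, apply_mul, negO_apply]
      rfl
  have he₁' : e₁ * e₁ = 1 := by
    rw [he₁, mul_assoc, ← mul_assoc (dd 1), ← negO_comm, mul_assoc, ax_mul_self, mul_one, negO_mul_self]
  have he₁'' : e₁ ≠ 1 := fun e => neg_one_ne_one h2 (by
    have h := congrArg dt e
    rw [he₁, map_mul, dt_negO, dt_dd, map_one, mul_one] at h
    exact h)
  have heven : Even (orderOf (r * u)) := by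
    rw [← Nat.not_odd_iff_even]
    rintro ⟨n, hn⟩
    refine he₁'' (Subtype.ext (LinearEquiv.ext fun w => ?_))
    have h := hy0 (2 * n + 1) w
    rw [← hn, pow_orderOf_eq_one, hn, pow_succ, pow_mul, pow_two, he₁', one_pow, one_mul] at h
    have h' := congrFun h 0
    rw [pure_row_self] at h'
    change vecMulVec (ev 0) w 0 = _ at h'
    rw [pure_row_self] at h'
    exact h'.symm
  obtain ⟨z, hz⟩ := dih_of_even hrr huu heven
  have hzM : z ∈ M := by
    rcases hz.split with ⟨j, e, -⟩ | ⟨k, -, e, -⟩ <;> rw [e] <;> exact pow_mem (mul_mem hrM huM) _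
  have hzT : z * T = T * z := (hz.comm T hrT.eq.symm huT.eq.symm).symm
  have hzS : z ∈ stabOmega F h2 := Over.cent_frame h2 hM hzM (hT ▸ hzT) (hr ▸ hz.comm_left)
  have hP : IsPure h2 z := (stab_cases h2 hzS).resolve_right fun ⟨a, b, e⟩ => by
    have h := hzT
    rw [e, hT, mul_assoc, tens_mul, ← mul_assoc, ← trp_tens, mul_assoc, tens_mul, mul_left_cancel_iff, mul_one] at h
    have ha : dt (a * dd 0) = dt a := by rw [map_mul, dt_dd, mul_one]
    have h1 : tens h2 (a * dd 0 * a⁻¹) 1 = tens h2 1 (dd 0) := by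
      have := congrArg (· * (tens h2 a b)⁻¹) h
      simp only [tens_inv, tens_mul, one_mul, mul_one, mul_inv_cancel] at this
      simpa [mul_assoc] using this
    exact dd_ne_one h2 0 (tens_inj h2 h1 (by rw [map_mul, ha, ← map_mul, mul_inv_cancel, map_one]) (map_one _)).2.symm
  obtain ⟨a, b, e, ha, hb, -⟩ := hP
  have hcomm : ∀ i, z * tens h2 (dd i) 1 = tens h2 (dd i) 1 * z → a * dd i = dd i * a := fun i h => by
    rw [e, tens_mul, tens_mul] at h
    exact (tens_inj h2 h (by rw [map_mul, ha, dt_dd, one_mul]) (by rw [map_mul, ha, dt_dd, one_mul])).1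
  have hq : ∀ i : Fin 3, q3 F (ev i) ≠ 0 := fun i => by rw [q3_single]; exact one_ne_zero
  have hacases : a = 1 ∨ a = dd 0 ∨ a = dd 1 ∨ a = dd 2 := by
    have := cases_of_comm_two h2 (hq 0) (hq 1) (by rw [e_dot, if_neg (by decide)]) ha
      (hcomm 0 (hT ▸ hzT)) (hcomm 1 (hr ▸ hz.comm_left))
    rwa [cr_ev] at this
  have hz0 : ∀ n, z = (r * u) ^ n → ∀ w, vecMulVec (a.1 (ev 0)) (b.1 w) = vecMulVec (ev 0) ((e₁ ^ n).1 w) := fun n hn w => by
    rw [← tens_pure h2, ← e, hn, hy0]
  have ht1 : (mat (dd 1 : orthGroup (q3 F))).trace = -1 := trace_ax h2 (hq 1)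
  have htD : trc D = -3 := by rw [hD, trc_tens, mat_one_trace, ht1]; ring
  have htu : trc u = -3 := by rw [hu, trc_conj, htD]
  rcases hz.split with ⟨j, hj, -, hju⟩ | ⟨k, hk, hzk, i, hi⟩
  · exfalso
    have h0 : ∀ w, z.1 (vecMulVec (ev 0) w) = vecMulVec (ev 0) w := fun w => by
      rw [hj, hy0, pow_mul, pow_two, he₁', one_pow]; rfl
    obtain ⟨a', e', hda', ha'0, -⟩ := eq_lft_of_fix_row h2 hzS h0
    obtain ⟨rfl, rfl⟩ := tens_inj h2 (e.symm.trans e') ha hda'
    rcases cases_fix0 hda' ha'0 (hcomm 1 (hr ▸ hz.comm_left)) h2 with h | h <;> rw [h] at e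
    · exact hz.ne (by rw [e, tens_one])
    · have h1 := congrArg trc hju
      rw [trc_conj, htu, e, ← hT, hu, show g * D * g⁻¹ * T = g * (D * T) * g⁻¹ by
        rw [mul_assoc _ g⁻¹ T, (Commute.inv_left hgT).eq]; group] at h1
      rw [trc_conj, hD, hT, tens_mul, one_mul, mul_one, trc_tens, ht1,
        show (mat (dd 0 : orthGroup (q3 F))).trace = -1 from trace_ax h2 (hq 0)] at h1
      exact two_ne' h2 (by linear_combination -h1)
  -- the odd case
  have hke : e₁ ^ k = e₁ := by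
    obtain ⟨n, rfl⟩ := hk
    rw [pow_succ, pow_mul, pow_two, he₁', one_pow, one_mul]
  have hb1 : b = dd 1 ∧ (a = dd 1 ∨ a = dd 2) := by
    have key : ∀ t : F, a.1 (ev 0) = t • ev 0 → t = 1 ∨ t = -1 → t = -1 ∧ b = dd 1 := by
      intro t hat ht
      have hbw : ∀ w, t • b.1 w = e₁.1 w := fun w => by
        have := congrFun (hz0 k hzk w) 0
        rw [hat, smul_vecMulVec] at this
        change t • vecMulVec (ev 0) (b.1 w) 0 = _ at this
        rw [pure_row_self, pure_row_self, hke] at this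
        exact this
      rcases ht with rfl | rfl
      · exfalso
        have : b = e₁ := Subtype.ext (LinearEquiv.ext fun w => by simpa using hbw w)
        rw [this, he₁, map_mul, dt_negO, dt_dd, mul_one] at hb
        exact neg_one_ne_one h2 hb
      · refine ⟨rfl, Subtype.ext (LinearEquiv.ext fun w => ?_)⟩
        have := hbw w
        rw [he₁, apply_mul, negO_apply, neg_one_smul, neg_inj] at this
        exact this
    rcases hacases with h | h | h | h
    · exact absurd (key 1 (by rw [h, one_smul]; rfl) (.inl rfl)).1.symm (neg_one_ne_one h2)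
    · exact absurd (key 1 (by rw [h, dd_ev, if_pos rfl]) (.inl rfl)).1.symm (neg_one_ne_one h2)
    · exact ⟨(key (-1) (by rw [h, dd_ev, if_neg (by decide)]) (.inr rfl)).2, .inl h⟩
    · exact ⟨(key (-1) (by rw [h, dd_ev, if_neg (by decide)]) (.inr rfl)).2, .inr h⟩
  obtain ⟨rfl, ha'⟩ := hb1
  rcases ha' with rfl | rfl
  swap
  · exfalso
    have h1 := congrArg trc hi
    rw [trc_conj, htu, hr, e, tens_mul, one_mul, trc_tens, ht1,
      show (dd 1 * dd 2 : orthGroup (q3 F)) = dd 0 from mat_injective (by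
        rw [mat_mul, mat_dd, mat_dd, mat_dd, diagonal_mul_diagonal]; congr 1; funext l; fin_cases l <;> simp),
      show (mat (dd 0 : orthGroup (q3 F))).trace = -1 from trace_ax h2 (hq 0)] at h1
    exact two_ne' h2 (by linear_combination h1)
  obtain ⟨m, hm⟩ : ∃ m, m = (r * u * z) ^ i := ⟨_, rfl⟩
  rw [← hm] at hi
  have hrz : r * z = D := by rw [hr, e, tens_mul, ax_mul_self, one_mul, hD]
  rw [hrz] at hi
  have hmX : m ∈ fixPart h2 M := by
    refine ⟨⟨hm ▸ pow_mem (mul_mem (mul_mem hrM huM) hzM) _, ?_, fun w => ?_⟩, Subgroup.mem_centralizer_singleton_iff.2 ?_⟩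
    · rw [← hT, hm]
      exact ((hrT.mul_left huT).mul_left hzT).pow_left i
    · rw [hm, hzk, ← pow_succ', ← pow_mul, hy0, pow_mul, pow_succ, hke, he₁', one_pow]
      rfl
    · rw [← e, hm]
      exact ((Commute.mul_left (hz.comm_left.symm) (hz.comm_right.symm)).mul_left (Commute.refl z)).pow_left i
  have hmD : m * D = D * m := by
    rcases Over.fixPart_cases h2 hM hmX with h | h
    · rw [h, one_mul, mul_one]
    · rw [h, ← hT]; exact hDT.eq.symm
  rw [hmD, mul_inv_cancel_right, hu] at hi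
  conv_rhs => rw [hi, inv_mul_cancel_right]

/-- The elements fixing the first row lie in the stabiliser. -/
theorem Over.fixRow_le {g : orthGroup (qq F)} (hg : g ∈ fixRow h2 M) : g ∈ stabOmega F h2 := by
  have hq : ∀ i : Fin 3, q3 F (ev i) ≠ 0 ∧ IsSquare (q3 F (ev i)) := fun i =>
    ⟨by rw [q3_single]; exact one_ne_zero, by rw [q3_single]; exact IsSquare.one⟩
  refine Over.cent_right h2 hM hg.1 (hq 1).1 (hq 1).2 (hq 2).1 (hq 2).2 (by rw [e_dot, if_neg (by decide)])
    (Over.fixRow_comm_dd h2 hM hg) ?_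
  obtain ⟨τ, hτ⟩ : ∃ τ, τ = tens h2 (1 : orthGroup (q3 F)) cyc⁻¹ := ⟨_, rfl⟩
  have hci : dt ((cyc (F := F))⁻¹) = 1 ∧ ls ((cyc (F := F))⁻¹) = 1 :=
    (mem_omega3 h2 _).1 (inv_mem (cyc_mem3 h2))
  have hτM : τ ∈ M := hτ ▸ hM.le (tens_pure_mem h2 (map_one _) hci.1 (by rw [hci.2, map_one]))
  have h := Over.fixRow_comm_dd h2 hM (g := τ * g * τ⁻¹)
    (hτ ▸ conj_fixRow h2 hg (hτ ▸ hτM) (by rw [one_mul, mul_one]) (one_smul _ _).symm)
  have hD2 : tens h2 1 (dd 2) = τ⁻¹ * tens h2 1 (dd 1) * τ := by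
    have e : τ⁻¹ * tens h2 1 (dd 1) * (τ⁻¹)⁻¹ = tens h2 1 (dd 2) := by
      rw [hτ, tens_inv, inv_one, inv_inv, tens_conj, ax_conj, cyc_ev h2, one_mul, inv_one, one_mul]
      rfl
    rw [← e, inv_inv]
  calc g * tens h2 1 (dd 2) = τ⁻¹ * (τ * g * τ⁻¹ * tens h2 1 (dd 1)) * τ := by rw [hD2]; group
    _ = τ⁻¹ * (tens h2 1 (dd 1) * (τ * g * τ⁻¹)) * τ := by rw [h]
    _ = tens h2 1 (dd 2) * g := by rw [hD2]; group

/-- The centraliser of the first half turn lies in the stabiliser. -/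
theorem Over.cent_T {g : orthGroup (qq F)} (hg : g ∈ M) (hgT : g * tens h2 (dd 0) 1 = tens h2 (dd 0) 1 * g) :
    g ∈ stabOmega F h2 := by
  have hrow : ∀ w, g.1 (vecMulVec (ev 0) w) ∈ row F 0 := fun w j hj => by
    have e := LinearEquiv.congr_fun (congrArg Subtype.val hgT) (vecMulVec (ev 0) w)
    change g.1 ((tens h2 (dd 0) 1).1 _) = (tens h2 (dd 0) 1).1 _ at e
    rw [tens_dd0_row] at e
    have e' := congrFun e j
    rw [tens_dd_row, if_neg hj, neg_one_smul] at e'
    funext k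
    have e'' := congrFun e' k
    simp only [Pi.neg_apply] at e''
    exact (mul_eq_zero.1 (show (2 : F) * _ = 0 by linear_combination e'')).resolve_left h2
  obtain ⟨g1, hg1⟩ : ∃ y : orthGroup (q3 F), ∀ w, y.1 w = g.1 (vecMulVec (ev 0) w) 0 := by
    refine exists_of_preserving (nondeg3 h2) (LinearMap.proj 0 ∘ₗ g.1.toLinearMap ∘ₗ vecMulVecBilin F F (ev 0)) fun w => ?_
    show q3 F (g.1 (vecMulVec (ev 0) w) 0) = q3 F w
    have h1 := apply_quad g (vecMulVec (ev 0) w)
    rw [qq_pure, q3_single, one_mul] at h1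
    rw [← h1]
    conv_rhs => rw [eq_pure_of_mem (hrow w), qq_pure, q3_single, one_mul]
  have hgw : ∀ w, g.1 (vecMulVec (ev 0) w) = vecMulVec (ev 0) (g1.1 w) := fun w => by
    rw [hg1]; exact eq_pure_of_mem (hrow w)
  obtain ⟨a, b, t, ha, hb, hab, hat, htb⟩ : ∃ (a b : orthGroup (q3 F)) (t : F), dt a = 1 ∧ dt b = 1 ∧ ls a = ls b ∧
      a.1 (ev 0) = t • ev 0 ∧ ∀ w, t • b.1 w = g1.1 w := by
    rcases dt_cases h2 g1 with h | h
    · obtain ⟨a, ha, ha0, has⟩ := exists_rot (u := ev 0) (by rw [q3_single]; exact one_ne_zero) h2 (ls g1)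
      exact ⟨a, g1, 1, ha, h, has, by rw [ha0, one_smul], fun w => one_smul _ _⟩
    · obtain ⟨a, ha, ha0, has⟩ := exists_rot (u := ev 0) (by rw [q3_single]; exact one_ne_zero) h2 (ls (negO * g1))
      refine ⟨dd 1 * a, negO * g1, -1, by rw [map_mul, dt_dd, ha, one_mul],
        by rw [map_mul, dt_negO, h]; ring, by rw [map_mul, ls_dd h2, one_mul, has], ?_, fun w => ?_⟩
      · rw [apply_mul, ha0, dd_ev, if_neg (by decide)]
      · rw [apply_mul, negO_apply, neg_one_smul, neg_neg]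
  have hS : tens h2 a b ∈ stabOmega F h2 := tens_pure_mem h2 ha hb hab
  have hT : Commute (tens h2 a b) (tens h2 (dd 0) 1) := by
    show _ * _ = _ * _
    rw [tens_mul, tens_mul, one_mul, mul_one]
    congr 1
    refine comm_of_apply ?_
    have := apply_quad a (ev 0)
    rw [hat, quad_smul', q3_single, mul_one] at this
    rcases mul_self_eq_one_iff.1 this with e | e <;> rw [hat, e] <;> simp
  have hfix : (tens h2 a b)⁻¹ * g ∈ fixRow h2 M := by
    refine ⟨mul_mem (inv_mem (hM.le hS)) hg, hT.inv_left.mul_left hgT, fun w => ?_⟩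
    show (tens h2 a b).1.symm (g.1 _) = _
    rw [LinearEquiv.symm_apply_eq, hgw, tens_pure, hat, ← htb, vecMulVec_smul, smul_vecMulVec]
  have h := mul_mem hS (Over.fixRow_le h2 hM hfix)
  rwa [mul_inv_cancel_left] at h

omit hM in
/-- A proper isometry carrying the first axis to a given one, with a partner of the same sign. -/
theorem exists_axis_tens {v : Fin 3 → F} (hv : q3 F v ≠ 0) (hvs : IsSquare (q3 F v)) :
    ∃ k ∈ stabOmega F h2, k * tens h2 (dd 0) 1 * k⁻¹ = tens h2 (ax v) 1 := by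
  obtain ⟨t, ht⟩ := hvs
  have ht0 : t ≠ 0 := fun e => hv (by rw [ht, e, mul_zero])
  obtain ⟨a, ha, hav⟩ := exists_move3 h2 (v := ev 0) (v' := t⁻¹ • v)
    (by rw [q3_single, quad_smul', ht]; field_simp) (by rw [q3_single]; exact one_ne_zero)
  obtain ⟨b, hb, -, hbs⟩ := exists_rot (u := ev 0) (by rw [q3_single]; exact one_ne_zero) h2 (ls a)
  refine ⟨tens h2 a b, tens_pure_mem h2 ha hb hbs.symm, ?_⟩
  rw [tens_conj, mul_one, mul_inv_cancel, ax_conj, hav, ax_smul (inv_ne_zero ht0)]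

/-- The centraliser of a half turn of square norm in the first factor. -/
theorem Over.cent_ax_left {g : orthGroup (qq F)} (hg : g ∈ M) {v : Fin 3 → F} (hv : q3 F v ≠ 0)
    (hvs : IsSquare (q3 F v)) (h : g * tens h2 (ax v) 1 = tens h2 (ax v) 1 * g) : g ∈ stabOmega F h2 := by
  obtain ⟨k, hk, e⟩ := exists_axis_tens h2 hv hvs
  have h4 := Over.cent_T h2 hM (mul_mem (mul_mem (inv_mem (hM.le hk)) hg) (hM.le hk)) (g := k⁻¹ * g * k) (by
    calc k⁻¹ * g * k * tens h2 (dd 0) 1 = k⁻¹ * (g * (k * tens h2 (dd 0) 1 * k⁻¹)) * k := by group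
      _ = k⁻¹ * (k * tens h2 (dd 0) 1 * k⁻¹ * g) * k := by rw [e, h]
      _ = tens h2 (dd 0) 1 * (k⁻¹ * g * k) := by group)
  have h5 := mul_mem (mul_mem hk h4) (inv_mem hk)
  rwa [show k * (k⁻¹ * g * k) * k⁻¹ = g by group] at h5

/-- The centraliser of a half turn of square norm in the second factor. -/
theorem Over.cent_ax_right {g : orthGroup (qq F)} (hg : g ∈ M) {v : Fin 3 → F} (hv : q3 F v ≠ 0)
    (hvs : IsSquare (q3 F v)) (h : g * tens h2 1 (ax v) = tens h2 1 (ax v) * g) : g ∈ stabOmega F h2 := by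
  obtain ⟨σ, hσ, hconj⟩ := exists_swap (F := F) h2
  have e : tens h2 (ax v) (1 : orthGroup (q3 F)) = σ * tens h2 1 (ax v) * σ⁻¹ := by
    rw [hconj, mul_one, mul_inv_cancel]
  have h4 := Over.cent_ax_left h2 hM (mul_mem (mul_mem (hM.le hσ) hg) (inv_mem (hM.le hσ))) hv hvs (by
    calc σ * g * σ⁻¹ * tens h2 (ax v) 1 = σ * (g * tens h2 1 (ax v)) * σ⁻¹ := by rw [e]; group
      _ = σ * (tens h2 1 (ax v) * g) * σ⁻¹ := by rw [h]
      _ = tens h2 (ax v) 1 * (σ * g * σ⁻¹) := by rw [e]; group)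
  have h5 := mul_mem (mul_mem (inv_mem hσ) h4) hσ
  rwa [show σ⁻¹ * (σ * g * σ⁻¹) * σ = g by group] at h5

end CfsgLib.Classical.TensorSquare3
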