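import Cfsg.Agent.Lib.Classical.TensorSquare3.CentT

/-!
# Centralisers of products of two half turns and the maximality
-/

set_option autoImplicit false
set_option linter.unusedSectionVars false

namespace CfsgLib.Classical.TensorSquare3

open Matrix Module QuadraticMap CfsgLib.Orth

variable {F : Type*} [Field F] [Fintype F] (h2 : (2 : F) ≠ 0)

theorem comm_of_conj_eq {G : Type*} [Group G] {c a b : G} (e : c * a * c⁻¹ = b) {x : G} (h : x * b = b * x) :
    c⁻¹ * x * c * a = a * (c⁻¹ * x * c) := by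
  calc c⁻¹ * x * c * a = c⁻¹ * (x * (c * a * c⁻¹)) * c := by group
    _ = c⁻¹ * (c * a * c⁻¹ * x) * c := by rw [e, h]
    _ = a * (c⁻¹ * x * c) := by group

theorem mem_of_conj_comm {G : Type*} [Group G] {H : Subgroup G} {c x : G} (hc : c ∈ H) (h : c⁻¹ * x * c ∈ H) : x ∈ H := by
  have := mul_mem (mul_mem hc h) (inv_mem hc)
  rwa [show c * (c⁻¹ * x * c) * c⁻¹ = x by group] at this

theorem exists_conj_of_odd {G : Type*} [Group G] {v u : G} (hv : v * v = 1) (hu : u * u = 1)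
    (h : Odd (orderOf (v * u))) : ∃ n : ℕ, (v * u) ^ n * v * ((v * u) ^ n)⁻¹ = u := by
  obtain ⟨n, hn⟩ := h
  have hvi : v⁻¹ = v := inv_eq_of_mul_eq_one_left hv
  have hui : u⁻¹ = u := inv_eq_of_mul_eq_one_left hu
  set y := v * u with hy
  have hinv : v * y ^ n * v⁻¹ = (y ^ n)⁻¹ := by
    rw [← MulAut.conj_apply, map_pow, MulAut.conj_apply, ← inv_pow, hy, _root_.mul_inv_rev, hvi, hui, ← mul_assoc v v,
      hv, one_mul]
  refine ⟨n, ?_⟩
  have h1 := pow_orderOf_eq_one y
  rw [hn, pow_succ, two_mul, pow_add] at h1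
  calc y ^ n * v * (y ^ n)⁻¹ = v * (v * y ^ n * v⁻¹) * (y ^ n)⁻¹ := by
        rw [hvi, ← mul_assoc, ← mul_assoc, hv, one_mul]
    _ = v * ((y ^ n)⁻¹ * (y ^ n)⁻¹) := by rw [hinv, mul_assoc]
    _ = v * y := by rw [← _root_.mul_inv_rev]; congr 1; exact inv_eq_of_mul_eq_one_right h1
    _ = u := by rw [hy, ← mul_assoc, hv, one_mul]

theorem dd_sq_norm (i : Fin 3) : q3 F (ev i) ≠ 0 ∧ IsSquare (q3 F (ev i)) :=
  ⟨by rw [q3_single]; exact one_ne_zero, by rw [q3_single]; exact IsSquare.one⟩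

theorem dd_mem_stab (i : Fin 3) : tens h2 (dd i) (1 : orthGroup (q3 F)) ∈ stabOmega F h2 :=
  tens_pure_mem h2 (dt_dd i) (map_one _) (by rw [ls_dd h2, map_one])

theorem trc_left {v : Fin 3 → F} (hv : q3 F v ≠ 0) : trc (tens h2 (ax v) 1) = -3 := by
  rw [trc_tens, trace_ax h2 hv, mat_one_trace]; ring

theorem trc_right {v : Fin 3 → F} (hv : q3 F v ≠ 0) : trc (tens h2 1 (ax v)) = -3 := by
  rw [trc_tens, trace_ax h2 hv, mat_one_trace]; ring

theorem trc_both {v v' : Fin 3 → F} (hv : q3 F v ≠ 0) (hv' : q3 F v' ≠ 0) : trc (tens h2 (ax v) (ax v')) = 1 := by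
  rw [trc_tens, trace_ax h2 hv, trace_ax h2 hv']; ring

include h2 in
theorem three_ne_one : ¬ (-3 : F) = 1 := fun h => two_ne' h2 (by linear_combination -h)

/-- A pure involution. -/
theorem invol_pure {z : orthGroup (qq F)} (hP : IsPure h2 z) (hz : z * z = 1) (hne : z ≠ 1) :
    (∃ v, q3 F v ≠ 0 ∧ IsSquare (q3 F v) ∧ z = tens h2 (ax v) 1) ∨
    (∃ v, q3 F v ≠ 0 ∧ IsSquare (q3 F v) ∧ z = tens h2 1 (ax v)) ∨
    (∃ v v', q3 F v ≠ 0 ∧ q3 F v' ≠ 0 ∧ (IsSquare (q3 F v) ↔ IsSquare (q3 F v')) ∧ z = tens h2 (ax v) (ax v')) := by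
  obtain ⟨a, b, rfl, ha, hb, hab⟩ := hP
  rw [tens_mul] at hz
  obtain ⟨haa, hbb⟩ := tens_eq_one' h2 hz (by rw [map_mul, ha, one_mul])
  by_cases ha1 : a = 1
  · subst ha1
    obtain ⟨v, hv, rfl⟩ := exists_eq_ax h2 hbb hb fun e => hne (by rw [e, tens_one])
    rw [map_one] at hab
    exact .inr (.inl ⟨v, hv, (ls_ax h2 hv).1 hab.symm, rfl⟩)
  obtain ⟨v, hv, rfl⟩ := exists_eq_ax h2 haa ha ha1
  by_cases hb1 : b = 1
  · subst hb1
    rw [map_one] at hab
    exact .inl ⟨v, hv, (ls_ax h2 hv).1 hab, rfl⟩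
  obtain ⟨v', hv', rfl⟩ := exists_eq_ax h2 hbb hb hb1
  exact .inr (.inr ⟨v, v', hv, hv', by rw [← ls_ax h2 hv, ← ls_ax h2 hv', hab], rfl⟩)

/-- An element of the stabiliser commuting with a half turn of the first factor does not swap. -/
theorem pure_of_comm_left {z : orthGroup (qq F)} (hz : z ∈ stabOmega F h2) {x : orthGroup (q3 F)} (hx : x ≠ 1)
    (h : z * tens h2 x 1 = tens h2 x 1 * z) (hdx : dt x = 1) : IsPure h2 z :=
  (stab_cases h2 hz).resolve_right fun ⟨a, b, e⟩ => by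
    rw [e, mul_assoc, tens_mul, ← mul_assoc, ← trp_tens, mul_assoc, tens_mul, mul_left_cancel_iff, mul_one] at h
    have ha : dt (a * x) = dt a := by rw [map_mul, hdx, mul_one]
    have h1 : tens h2 (a * x * a⁻¹) 1 = tens h2 1 x := by
      have := congrArg (· * (tens h2 a b)⁻¹) h
      simp only [tens_inv, tens_mul, one_mul, mul_one, mul_inv_cancel] at this
      simpa [mul_assoc] using this
    exact hx (tens_inj h2 h1 (by rw [map_mul, ha, ← map_mul, mul_inv_cancel, map_one]) (map_one _)).2.symm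

/-- An involution of the stabiliser with trace different from `-3` does not swap. -/
theorem pure_of_trc {z : orthGroup (qq F)} (hz : z ∈ stabOmega F h2) (hsq : z * z = 1) (ht : trc z ≠ -3) :
    IsPure h2 z :=
  (stab_cases h2 hz).resolve_right fun ⟨a, b, e⟩ => ht (e ▸ trc_swap h2 (e ▸ hz.1) (e ▸ hsq))

include h2 in
theorem exists_ratio {a b : F} (ha : a ≠ 0) (hb : b ≠ 0) (h : IsSquare a ↔ IsSquare b) :
    ∃ t : F, t ≠ 0 ∧ t * t * a = b := by
  classical
  have hr : IsSquare (b / a) := by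
    by_cases hs : IsSquare a
    · exact (h.1 hs).div hs
    · refine (quadraticChar_one_iff_isSquare (div_ne_zero hb ha)).1 ?_
      have : b / a = b * a * (a⁻¹ * a⁻¹) := by field_simp
      rw [this, map_mul, map_mul, map_mul, quadraticChar_neg_one_iff_not_isSquare.2 hs,
        quadraticChar_neg_one_iff_not_isSquare.2 (fun e => hs (h.2 e)), ← sq (quadraticChar F a⁻¹),
        quadraticChar_sq_one (inv_ne_zero ha)]
      norm_num
  obtain ⟨t, ht⟩ := hr
  refine ⟨t, fun e => div_ne_zero hb ha (by rw [ht, e, mul_zero]), ?_⟩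
  rw [← ht, div_mul_cancel₀ b ha]

/-- The products of two half turns with axes of one square class are conjugate in the stabiliser. -/
theorem exists_conj_both {n v v' : Fin 3 → F} (hn : q3 F n ≠ 0) (hv : q3 F v ≠ 0) (hv' : q3 F v' ≠ 0)
    (hnv : IsSquare (q3 F n) ↔ IsSquare (q3 F v)) (hnv' : IsSquare (q3 F n) ↔ IsSquare (q3 F v')) :
    ∃ k ∈ stabOmega F h2, k * tens h2 (ax n) (ax n) * k⁻¹ = tens h2 (ax v) (ax v') := by
  obtain ⟨t, ht, htq⟩ := exists_ratio h2 hn hv hnv
  obtain ⟨t', ht', htq'⟩ := exists_ratio h2 hn hv' hnv'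
  obtain ⟨a, ha, hav⟩ := exists_move3 h2 (v := t • n) (v' := v) (by rw [quad_smul', htq]) (by rw [quad_smul', htq]; exact hv)
  obtain ⟨b, hb, hbv⟩ := exists_move3 h2 (v := t' • n) (v' := v') (by rw [quad_smul', htq']) (by rw [quad_smul', htq']; exact hv')
  obtain ⟨s, hs, hsn, hsl⟩ := exists_rot hn h2 (ls a * ls b)
  refine ⟨tens h2 (a * s) b, tens_pure_mem h2 (by rw [map_mul, ha, hs, one_mul]) hb
    (by rw [map_mul, hsl, ← mul_assoc, Int.units_mul_self, one_mul]), ?_⟩
  rw [tens_conj, ax_conj, ax_conj, apply_mul, hsn, ← ax_smul ht (a.1 n), ← map_smul, hav, ← ax_smul ht' (b.1 n),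
    ← map_smul, hbv]

variable {M : Subgroup (orthGroup (qq F))} (hM : Over h2 M)
include hM

/-- An element carrying a half turn of square norm to another one lies in the stabiliser. -/
theorem Over.mem_of_conj_left {g : orthGroup (qq F)} (hg : g ∈ M) {v : Fin 3 → F} (hv : q3 F v ≠ 0)
    (hvs : IsSquare (q3 F v)) (hu : IsPure h2 (g * tens h2 (ax v) 1 * g⁻¹)) : g ∈ stabOmega F h2 := by
  obtain ⟨u, hu'⟩ : ∃ u, u = g * tens h2 (ax v) 1 * g⁻¹ := ⟨_, rfl⟩
  rw [← hu'] at hu
  have hA1 : tens h2 (ax v) (1 : orthGroup (q3 F)) ≠ 1 := fun e => by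
    have := trace_ax h2 hv
    rw [(tens_eq_one' h2 e (dt_ax hv)).1, mat_one_trace] at this
    exact two_ne' h2 (by linear_combination this)
  have huu : u * u = 1 := by
    rw [hu']
    calc _ = g * (tens h2 (ax v) 1 * tens h2 (ax v) 1) * g⁻¹ := by group
      _ = 1 := by rw [tens_mul, ax_mul_self, one_mul, tens_one, mul_one, mul_inv_cancel]
  have hune : u ≠ 1 := fun e => hA1 (conj_eq_one_iff.1 (hu'.symm.trans e))
  have htu : trc u = -3 := by rw [hu', trc_conj, trc_left h2 hv]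
  obtain ⟨k, hk, hk'⟩ := exists_axis_tens h2 hv hvs
  have main : ∀ {w : Fin 3 → F} (h' : orthGroup (qq F)), q3 F w ≠ 0 → IsSquare (q3 F w) → h' ∈ M →
      h' * tens h2 (ax v) 1 * h'⁻¹ = tens h2 (ax w) 1 → h' ∈ stabOmega F h2 := by
    intro w h' hw hws hh e
    obtain ⟨l, hl, hl'⟩ := exists_axis_tens h2 hw hws
    have h4 := Over.cent_T h2 hM (g := l⁻¹ * h' * k) (mul_mem (mul_mem (inv_mem (hM.le hl)) hh) (hM.le hk)) (by
      calc l⁻¹ * h' * k * tens h2 (dd 0) 1 = l⁻¹ * (h' * (k * tens h2 (dd 0) 1 * k⁻¹) * h'⁻¹) * h' * k := by group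
        _ = l⁻¹ * (l * tens h2 (dd 0) 1 * l⁻¹) * h' * k := by rw [hk', e, hl']
        _ = tens h2 (dd 0) 1 * (l⁻¹ * h' * k) := by group)
    have := mul_mem (mul_mem hl h4) (inv_mem hk)
    rwa [show l * (l⁻¹ * h' * k) * k⁻¹ = h' by group] at this
  rcases invol_pure h2 hu huu hune with ⟨w, hw, hws, e⟩ | ⟨w, hw, hws, e⟩ | ⟨w, w', hw, hw', -, e⟩
  · exact main g hw hws hg (hu'.symm.trans e)
  · obtain ⟨σ, hσ, hconj⟩ := exists_swap (F := F) h2
    have h4 := main (σ * g) hw hws (mul_mem (hM.le hσ) hg) (by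
      calc σ * g * tens h2 (ax v) 1 * (σ * g)⁻¹ = σ * (g * tens h2 (ax v) 1 * g⁻¹) * σ⁻¹ := by group
        _ = σ * tens h2 1 (ax w) * σ⁻¹ := by rw [← hu', e]
        _ = tens h2 (ax w) 1 := by rw [hconj, mul_one, mul_inv_cancel])
    have := mul_mem (inv_mem hσ) h4
    rwa [inv_mul_cancel_left] at this
  · rw [e, trc_both h2 hw hw'] at htu
    exact absurd htu.symm (three_ne_one h2)

/-- The centraliser of `tens (dd 0) (dd 0)`. -/
theorem Over.cent_W {g : orthGroup (qq F)} (hg : g ∈ M)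
    (hgW : g * tens h2 (dd 0) (dd 0) = tens h2 (dd 0) (dd 0) * g) : g ∈ stabOmega F h2 := by
  classical
  have hq := fun i => dd_sq_norm (F := F) i
  obtain ⟨W, hW⟩ : ∃ W, W = tens h2 (dd 0 : orthGroup (q3 F)) (dd 0) := ⟨_, rfl⟩
  obtain ⟨T, hT⟩ : ∃ T, T = tens h2 (dd 0 : orthGroup (q3 F)) 1 := ⟨_, rfl⟩
  obtain ⟨r, hr⟩ : ∃ r, r = tens h2 (dd 1 : orthGroup (q3 F)) 1 := ⟨_, rfl⟩
  rw [← hW] at hgW
  have hTM : T ∈ M := hT ▸ hM.le (dd_mem_stab h2 0)
  have hrM : r ∈ M := hr ▸ hM.le (dd_mem_stab h2 1)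
  have hTW : Commute T W := by show T * W = W * T; rw [hT, hW, tens_mul, tens_mul, one_mul, mul_one]
  have hrW : Commute r W := by show r * W = W * r; rw [hr, hW, tens_mul, tens_mul, one_mul, mul_one, dd_comm 1 0]
  have hWW : W * W = 1 := by rw [hW, tens_mul, ax_mul_self, tens_one]
  obtain ⟨u, hu⟩ : ∃ u, u = g * r * g⁻¹ := ⟨_, rfl⟩
  have huM : u ∈ M := hu ▸ mul_mem (mul_mem hg hrM) (inv_mem hg)
  have huW : Commute u W := hu ▸ ((show Commute g W from hgW).mul_left hrW).mul_left (Commute.inv_left hgW)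
  have hrr : r * r = 1 := by rw [hr, tens_mul, ax_mul_self, one_mul, tens_one]
  have hTT : T * T = 1 := by rw [hT, tens_mul, ax_mul_self, one_mul, tens_one]
  have huu : u * u = 1 := by
    rw [hu]
    calc g * r * g⁻¹ * (g * r * g⁻¹) = g * (r * r) * g⁻¹ := by group
      _ = 1 := by rw [hrr, mul_one, mul_inv_cancel]
  have hdd : (dd 1 * dd 0 : orthGroup (q3 F)) = dd 2 := mat_injective (by
    rw [mat_mul, mat_dd, mat_dd, mat_dd, diagonal_mul_diagonal]; congr 1; funext l; fin_cases l <;> simp)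
  have t1 : trc u = -3 := by rw [hu, trc_conj, hr, trc_left h2 (hq 1).1]
  have t2 : trc (u * W) = 1 := by
    rw [hu, mul_assoc _ g⁻¹ W, (Commute.inv_left hgW).eq,
      show g * r * (W * g⁻¹) = g * (r * W) * g⁻¹ by group, trc_conj, hr, hW, tens_mul, hdd, one_mul,
      trc_both h2 (hq 2).1 (hq 0).1]
  have t3 : trc T = -3 := by rw [hT, trc_left h2 (hq 0).1]
  have t4 : trc (T * W) = -3 := by rw [hT, hW, tens_mul, ax_mul_self, one_mul, trc_right h2 (hq 0).1]
  -- conjugates inside the centraliser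
  have hconjW : ∀ {m a b : orthGroup (qq F)}, Commute m W → m * a * m⁻¹ = b → trc (b * W) = trc (a * W) :=
    fun {m a b} hm e => by
      rw [← e, show m * a * m⁻¹ * W = m * a * (m⁻¹ * W) by group, hm.inv_left.eq,
        show m * a * (W * m⁻¹) = m * (a * W) * m⁻¹ by group, trc_conj]
  suffices huS : u ∈ stabOmega F h2 by
    have huP : IsPure h2 u := (stab_cases h2 huS).resolve_right fun ⟨a, b, e⟩ => by
      refine three_ne_one h2 (Eq.trans ?_ t2)
      have hS : u * W ∈ commutator (orthGroup (qq F)) :=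
        mul_mem huS.1 (hW ▸ (tens_pure_mem h2 (dt_dd 0) (dt_dd 0) rfl).1)
      have hsq : u * W * (u * W) = 1 := by
        calc u * W * (u * W) = u * (W * u) * W := by group
          _ = u * u * (W * W) := by rw [← huW.eq]; group
          _ = 1 := by rw [huu, hWW, one_mul]
      rw [e, hW, mul_assoc (trp F) (tens h2 a b), tens_mul] at hS hsq ⊢
      exact (trc_swap h2 hS hsq).symm
    exact Over.mem_of_conj_left h2 hM hg (hq 1).1 (hq 1).2 (by rw [show ax (ev 1) = (dd 1 : orthGroup (q3 F)) from rfl, ← hr, ← hu]; exact huP)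
  have heven : Even (orderOf (T * u)) := by
    rw [← Nat.not_odd_iff_even]
    intro ho
    obtain ⟨n, hn⟩ := exists_conj_of_odd hTT huu ho
    have := hconjW ((hTW.mul_left huW).pow_left n) hn
    rw [t2, t4] at this
    exact three_ne_one h2 this.symm
  obtain ⟨z, hz⟩ := dih_of_even hTT huu heven
  have hzM : z ∈ M := by
    rcases hz.split with ⟨j, e, -⟩ | ⟨k, -, e, -⟩ <;> rw [e] <;> exact pow_mem (mul_mem hTM huM) _
  have hzW : z * W = W * z := (hz.comm W hTW.eq.symm huW.eq.symm).symm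
  have hzS : z ∈ stabOmega F h2 := Over.cent_T h2 hM hzM (hT ▸ hz.comm_left)
  obtain ⟨a, b, e, ha, hb, hab⟩ := pure_of_comm_left h2 hzS (dd_ne_one h2 0) (hT ▸ hz.comm_left) (dt_dd 0)
  have haa : a * a = 1 ∧ b * b = 1 := tens_eq_one' h2 (by rw [← tens_mul, ← e, hz.sq]) (by rw [map_mul, ha, one_mul])
  have hac : a * dd 0 = dd 0 * a ∧ b * dd 0 = dd 0 * b := by
    have h := hzW
    rw [e, hW, tens_mul, tens_mul] at h
    exact tens_inj h2 h (by rw [map_mul, ha, dt_dd, one_mul]) (by rw [map_mul, ha, dt_dd, one_mul])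
  have commz : ∀ {y : orthGroup (qq F)}, y = z ∨ y = z * W → u * y = y * u := by
    rintro y (rfl | rfl)
    · exact hz.comm_right.symm
    · exact ((show Commute u z from hz.comm_right.symm).mul_right huW).eq
  have hzW' : z * W = tens h2 (a * dd 0) (b * dd 0) := by rw [e, hW, tens_mul]
  have hleft : ∀ {v : Fin 3 → F}, q3 F v ≠ 0 → IsSquare (q3 F v) →
      (tens h2 (ax v) 1 = z ∨ tens h2 (ax v) 1 = z * W) → u ∈ stabOmega F h2 := fun hv hvs h =>
    Over.cent_ax_left h2 hM huM hv hvs (commz h)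
  have hright : ∀ {v : Fin 3 → F}, q3 F v ≠ 0 → IsSquare (q3 F v) →
      (tens h2 1 (ax v) = z ∨ tens h2 1 (ax v) = z * W) → u ∈ stabOmega F h2 := fun hv hvs h =>
    Over.cent_ax_right h2 hM huM hv hvs (commz h)
  rcases invol_pure h2 ⟨a, b, e, ha, hb, hab⟩ hz.sq hz.ne with ⟨v, hv, hvs, e'⟩ | ⟨v, hv, hvs, e'⟩ | ⟨v, v', hv, hv', hvv, e'⟩
  · exact hleft hv hvs (.inl e'.symm)
  · exact hright hv hvs (.inl e'.symm)
  obtain ⟨rfl, rfl⟩ := tens_inj h2 (e.symm.trans e') ha (dt_ax hv)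
  -- the position of the axes
  have hperp : ∀ {x : Fin 3 → F}, q3 F x ≠ 0 → ax x * dd 0 = dd 0 * ax x →
      (ax x = dd 0) ∨ (∃ y, q3 F y ≠ 0 ∧ (IsSquare (q3 F y) ↔ IsSquare (q3 F x)) ∧ ax x * dd 0 = ax y) := by
    intro x hx hc
    rcases apply_of_comm h2 (hq 0).1 hc with h | h
    · left
      rcases invol_comm_cases h2 (hq 0).1 (ax_mul_self x) (dt_ax hx) hc with h' | h' | ⟨y, hy, hy0, h'⟩
      · exfalso
        have := trace_ax h2 hx
        rw [h', mat_one_trace] at this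
        exact two_ne' h2 (by linear_combination this)
      · exact h'
      · exfalso
        rw [h', ax_perp (by rw [dot_comm', hy0])] at h
        have := congrFun h 0
        simp at this
        exact neg_one_ne_one h2 this
    · right
      have hx0 : ev 0 ⬝ᵥ x = 0 := by
        rw [ax_apply, sub_eq_iff_eq_add, neg_add_cancel, smul_eq_zero] at h
        rcases h with h | h
        · rw [dot_comm']
          exact (mul_eq_zero.1 ((mul_eq_zero.1 h).resolve_left (inv_ne_zero hx))).resolve_left h2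
        · exact absurd (by rw [h, QuadraticMap.map_zero]) hx
      have hy : q3 F (cr (ev 0) x) = q3 F x := by rw [q3_cr, q3_single, hx0, one_mul, mul_zero, sub_zero]
      refine ⟨cr (ev 0) x, hy ▸ hx, by rw [hy], ?_⟩
      rcases cases_of_comm_two h2 (hq 0).1 hx hx0 (show dt (ax x * dd 0) = 1 by rw [map_mul, dt_ax hx, dt_dd, one_mul])
        ((show Commute (ax x) (dd 0) from hc).mul_left (Commute.refl _)).eq
        ((Commute.refl (ax x)).mul_left (show Commute (ax x) (dd 0) from hc).symm).eq with h' | h' | h' | h'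
      · exfalso
        have : ax x = dd 0 := by rw [← mul_one (ax x), ← ax_mul_self (ev 0), ← mul_assoc, h', one_mul]
        rw [this, dd_ev, if_pos rfl, one_smul] at h
        have := congrFun h 0
        simp at this
        exact neg_one_ne_one h2 this.symm
      · exfalso
        have h'' : ax x = 1 := mul_right_cancel (b := dd 0) (by rw [h', one_mul])
        have := trace_ax h2 hx
        rw [h'', mat_one_trace] at this
        exact two_ne' h2 (by linear_combination this)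
      · exfalso
        exact dd_ne_one h2 0 (mul_left_cancel (a := ax x) (by rw [h', mul_one]))
      · exact h'
  have hcases := hz.split
  rcases hperp hv hac.1 with hA | ⟨y, hy, hys, hA⟩ <;> rcases hperp hv' hac.2 with hB | ⟨y', hy', hys', hB⟩
  · -- `z = W`
    have hzW1 : z = W := by rw [e', hW, hA, hB]
    exfalso
    rcases hcases with ⟨j, -, -, hj⟩ | ⟨k, -, -, i, hi⟩
    · have := congrArg trc hj
      rw [trc_conj, hzW1, t1, t2] at this
      exact three_ne_one h2 this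
    · have hm : Commute ((T * u * z) ^ i) W := ((hTW.mul_left huW).mul_left hzW).pow_left i
      have := hconjW hm hi
      rw [t2, hzW1, mul_assoc, hWW, mul_one, t3] at this
      exact three_ne_one h2 this.symm
  · refine hright hy' ?_ (.inr ?_)
    · rw [hys', ← hvv, ← ls_ax h2 hv, hA]; exact ls_dd h2 0
    · rw [hzW', hA, ax_mul_self, hB]
  · refine hleft hy ?_ (.inr ?_)
    · rw [hys, hvv, ← ls_ax h2 hv', hB]; exact ls_dd h2 0
    · rw [hzW', hA, hB, ax_mul_self]
  · exfalso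
    have hTz : trc (T * z) = 1 := by
      rw [hT, e', tens_mul, one_mul, ← hac.1, hA, trc_both h2 hy hv']
    rcases hcases with ⟨j, -, hj, -⟩ | ⟨k, -, -, i, hi⟩
    · have := congrArg trc hj
      rw [trc_conj, t3, hTz] at this
      exact three_ne_one h2 this
    · have := congrArg trc hi
      rw [trc_conj, t1, hTz] at this
      exact three_ne_one h2 this.symm

/-- Products of two half turns with axes of square norm. -/
theorem Over.cent_both {g : orthGroup (qq F)} (hg : g ∈ M) {v v' : Fin 3 → F} (hv : q3 F v ≠ 0) (hv' : q3 F v' ≠ 0)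
    (hvs : IsSquare (q3 F v)) (hvs' : IsSquare (q3 F v'))
    (h : g * tens h2 (ax v) (ax v') = tens h2 (ax v) (ax v') * g) : g ∈ stabOmega F h2 := by
  obtain ⟨k, hk, e⟩ := exists_conj_both h2 (n := ev 0) (dd_sq_norm 0).1 hv hv' (iff_of_true (dd_sq_norm 0).2 hvs)
    (iff_of_true (dd_sq_norm 0).2 hvs')
  exact mem_of_conj_comm hk (Over.cent_W h2 hM (mul_mem (mul_mem (inv_mem (hM.le hk)) hg) (hM.le hk))
    (comm_of_conj_eq e h))

/-- The centraliser of a product of two half turns with one axis, orthogonal to the first unit vector, of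
non-square norm. -/
theorem Over.cent_N {g : orthGroup (qq F)} (hg : g ∈ M) {n : Fin 3 → F} (hn : q3 F n ≠ 0)
    (hns : ¬ IsSquare (q3 F n)) (hn0 : ev 0 ⬝ᵥ n = 0)
    (hgN : g * tens h2 (ax n) (ax n) = tens h2 (ax n) (ax n) * g) : g ∈ stabOmega F h2 := by
  classical
  have hq := fun i => dd_sq_norm (F := F) i
  obtain ⟨N, hN⟩ : ∃ N, N = tens h2 (ax n) (ax n) := ⟨_, rfl⟩
  obtain ⟨W, hW⟩ : ∃ W, W = tens h2 (dd 0 : orthGroup (q3 F)) (dd 0) := ⟨_, rfl⟩
  obtain ⟨T, hT⟩ : ∃ T, T = tens h2 (dd 0 : orthGroup (q3 F)) 1 := ⟨_, rfl⟩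
  rw [← hN] at hgN
  have hnd : ax n * dd 0 = dd 0 * ax n :=
    comm_of_apply (.inr (ax_perp (by rw [dot_comm', hn0])))
  -- the product of the half turns
  obtain ⟨n1, hn1, hn1q, hn1e⟩ : ∃ m, q3 F m ≠ 0 ∧ ¬ IsSquare (q3 F m) ∧ dd 0 * ax n = ax m := by
    refine ⟨cr (ev 0) n, ?_, ?_, ?_⟩
    · rw [q3_cr, q3_single, hn0, one_mul, mul_zero, sub_zero]; exact hn
    · rw [q3_cr, q3_single, hn0, one_mul, mul_zero, sub_zero]; exact hns
    · rcases cases_of_comm_two h2 (hq 0).1 hn hn0 (show dt (dd 0 * ax n) = 1 by rw [map_mul, dt_ax hn, dt_dd, one_mul])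
        (by rw [mul_assoc, hnd]) (by rw [mul_assoc, ← mul_assoc (ax n), hnd, mul_assoc]) with h | h | h | h
      · exfalso
        have : ax n = dd 0 := by
          rw [← one_mul (ax n), ← ax_mul_self (ev 0), mul_assoc, h, mul_one]
        exact hns ((ls_ax h2 hn).1 (this ▸ ls_dd h2 0))
      · exfalso
        have h'' : ax n = 1 := mul_left_cancel (a := dd 0) (by rw [h, mul_one])
        have := trace_ax h2 hn
        rw [h'', mat_one_trace] at this
        exact two_ne' h2 (by linear_combination this)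
      · exfalso
        exact dd_ne_one h2 0 (mul_right_cancel (b := ax n) (by rw [h, one_mul]))
      · exact h
  have hTM : T ∈ M := hT ▸ hM.le (dd_mem_stab h2 0)
  have hWM : W ∈ M := hW ▸ hM.le (tens_pure_mem h2 (dt_dd 0) (dt_dd 0) rfl)
  have hTN : Commute T N := by show T * N = N * T; rw [hT, hN, tens_mul, tens_mul, one_mul, mul_one, hnd]
  have hWN : Commute W N := by show W * N = N * W; rw [hW, hN, tens_mul, tens_mul, hnd]
  have hNN : N * N = 1 := by rw [hN, tens_mul, ax_mul_self, tens_one]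
  have hTT : T * T = 1 := by rw [hT, tens_mul, ax_mul_self, one_mul, tens_one]
  obtain ⟨r', hr'⟩ : ∃ u, u = g * W * g⁻¹ := ⟨_, rfl⟩
  obtain ⟨u, hu⟩ : ∃ u, u = g * T * g⁻¹ := ⟨_, rfl⟩
  have hgc : Commute g N := hgN
  have hrN : Commute r' N := hr' ▸ (hgc.mul_left hWN).mul_left (Commute.inv_left hgc)
  have huN : Commute u N := hu ▸ (hgc.mul_left hTN).mul_left (Commute.inv_left hgc)
  have hrM : r' ∈ M := hr' ▸ mul_mem (mul_mem hg hWM) (inv_mem hg)
  have huM : u ∈ M := hu ▸ mul_mem (mul_mem hg hTM) (inv_mem hg)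
  have conjsq : ∀ {x : orthGroup (qq F)}, x * x = 1 → g * x * g⁻¹ * (g * x * g⁻¹) = 1 := fun {x} hx => by
    calc g * x * g⁻¹ * (g * x * g⁻¹) = g * (x * x) * g⁻¹ := by group
      _ = 1 := by rw [hx, mul_one, mul_inv_cancel]
  have hrr : r' * r' = 1 := hr' ▸ conjsq (by rw [hW, tens_mul, ax_mul_self, tens_one])
  have huu : u * u = 1 := hu ▸ conjsq hTT
  have hconjN : ∀ {m a b : orthGroup (qq F)}, Commute m N → m * a * m⁻¹ = b → trc (b * N) = trc (a * N) :=
    fun {m a b} hm e => by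
      rw [← e, show m * a * m⁻¹ * N = m * a * (m⁻¹ * N) by group, hm.inv_left.eq,
        show m * a * (N * m⁻¹) = m * (a * N) * m⁻¹ by group, trc_conj]
  have tT : trc T = -3 := by rw [hT, trc_left h2 (hq 0).1]
  have tTN : trc (T * N) = 1 := by rw [hT, hN, tens_mul, hn1e, one_mul, trc_both h2 hn1 hn]
  have tr : trc r' = 1 := by rw [hr', trc_conj, hW, trc_both h2 (hq 0).1 (hq 0).1]
  have trN : trc (r' * N) = 1 := by
    rw [hconjN hgc hr'.symm, hW, hN, tens_mul, hn1e, trc_both h2 hn1 hn1]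
  have hrS : r' ∈ stabOmega F h2 := by
    have heven : Even (orderOf (T * r')) := by
      rw [← Nat.not_odd_iff_even]
      intro ho
      obtain ⟨i, hi⟩ := exists_conj_of_odd hTT hrr ho
      have := congrArg trc hi
      rw [trc_conj, tT, tr] at this
      exact three_ne_one h2 this
    obtain ⟨z, hz⟩ := dih_of_even hTT hrr heven
    have hzM : z ∈ M := by
      rcases hz.split with ⟨j, e, -⟩ | ⟨k, -, e, -⟩ <;> rw [e] <;> exact pow_mem (mul_mem hTM hrM) _
    have hzN : z * N = N * z := (hz.comm N hTN.eq.symm hrN.eq.symm).symm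
    have hzS : z ∈ stabOmega F h2 := Over.cent_T h2 hM hzM (hT ▸ hz.comm_left)
    have hzP := pure_of_comm_left h2 hzS (dd_ne_one h2 0) (hT ▸ hz.comm_left) (dt_dd 0)
    -- an element of the stabiliser of known kind centralised by `r'`
    have kind : ∀ {y : orthGroup (qq F)}, r' * y = y * r' → IsPure h2 y → y * y = 1 → y ≠ 1 →
        r' ∈ stabOmega F h2 ∨ ∃ v v', q3 F v ≠ 0 ∧ q3 F v' ≠ 0 ∧ ¬ IsSquare (q3 F v) ∧ ¬ IsSquare (q3 F v') ∧
          y = tens h2 (ax v) (ax v') := by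
      intro y hy hP hyy hy1
      rcases invol_pure h2 hP hyy hy1 with ⟨v, hv, hvs, e⟩ | ⟨v, hv, hvs, e⟩ | ⟨v, v', hv, hv', hvv, e⟩
      · exact .inl (Over.cent_ax_left h2 hM hrM hv hvs (e ▸ hy))
      · exact .inl (Over.cent_ax_right h2 hM hrM hv hvs (e ▸ hy))
      · by_cases hvs : IsSquare (q3 F v)
        · exact .inl (Over.cent_both h2 hM hrM hv hv' hvs (hvv.1 hvs) (e ▸ hy))
        · exact .inr ⟨v, v', hv, hv', hvs, fun h => hvs (hvv.2 h), e⟩
    by_cases hzN1 : z = N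
    · exfalso
      rcases hz.split with ⟨j, -, hj, -⟩ | ⟨k, -, -, i, hi⟩
      · have := congrArg trc hj
        rw [trc_conj, tT, hzN1, tTN] at this
        exact three_ne_one h2 this
      · have := hconjN (((hTN.mul_left hrN).mul_left hzN).pow_left i) hi
        rw [trN, hzN1, mul_assoc, hNN, mul_one, tT] at this
        exact three_ne_one h2 this.symm
    rcases kind hz.comm_right.symm hzP hz.sq hz.ne with h | ⟨v, v', hv, hv', hvs, hvs', e⟩
    · exact h
    have hzN' : z * N = tens h2 (ax v * ax n) (ax v' * ax n) := by rw [e, hN, tens_mul]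
    obtain ⟨a, b, e1, ha, hb, hab⟩ : IsPure h2 (z * N) := ⟨_, _, hzN', by rw [map_mul, dt_ax hv, dt_ax hn, one_mul],
      by rw [map_mul, dt_ax hv', dt_ax hn, one_mul], by
        rw [map_mul, map_mul]
        congr 1
        rw [Int.units_eq_one_or (ls (ax v)) |>.resolve_left fun h => hvs ((ls_ax h2 hv).1 h),
          Int.units_eq_one_or (ls (ax v')) |>.resolve_left fun h => hvs' ((ls_ax h2 hv').1 h)]⟩
    rcases kind ((Commute.mul_right hz.comm_right.symm hrN).eq) ⟨a, b, e1, ha, hb, hab⟩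
      (by rw [mul_assoc, ← mul_assoc N z, ← hzN, mul_assoc z N, ← mul_assoc, hNN, mul_one, hz.sq])
      (fun h => hzN1 (by rw [← mul_one z, ← hNN, ← mul_assoc, h, one_mul])) with h | ⟨w, w', hw, hw', hws, hws', e2⟩
    · exact h
    · exfalso
      have h0 := (tens_inj h2 (hzN'.symm.trans e2) (by rw [map_mul, dt_ax hv, dt_ax hn, one_mul]) (dt_ax hw)).1
      have h1 := congrArg ls h0
      rw [map_mul] at h1
      have hneg : ∀ {x : Fin 3 → F}, q3 F x ≠ 0 → ¬ IsSquare (q3 F x) → ls (ax x) = -1 := fun hx hxs =>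
        (Int.units_eq_one_or _).resolve_left fun h => hxs ((ls_ax h2 hx).1 h)
      rw [hneg hv hvs, hneg hn hns, hneg hw hws] at h1
      exact absurd h1 (by decide)
  -- now the half turn
  have huS : u ∈ stabOmega F h2 := by
    have hur : u * r' = r' * u := by
      rw [hu, hr']
      calc g * T * g⁻¹ * (g * W * g⁻¹) = g * (T * W) * g⁻¹ := by group
        _ = g * (W * T) * g⁻¹ := by rw [show T * W = W * T by rw [hT, hW, tens_mul, tens_mul, one_mul, mul_one]]
        _ = _ := by group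
    rcases invol_pure h2 (pure_of_trc h2 hrS hrr (by rw [tr]; exact (three_ne_one h2).comp Eq.symm)) hrr
      (fun e => by rw [e, ← tens_one h2, trc_tens, mat_one_trace] at tr
                   exact mul_ne_zero h2 (two_ne' h2) (by linear_combination tr)) with
      ⟨v, hv, hvs, e⟩ | ⟨v, hv, hvs, e⟩ | ⟨v, v', hv, hv', hvv, e⟩
    · exact Over.cent_ax_left h2 hM huM hv hvs (e ▸ hur)
    · exact Over.cent_ax_right h2 hM huM hv hvs (e ▸ hur)
    by_cases hvs : IsSquare (q3 F v)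
    · exact Over.cent_both h2 hM huM hv hv' hvs (hvv.1 hvs) (e ▸ hur)
    have hvs' : ¬ IsSquare (q3 F v') := fun h => hvs (hvv.2 h)
    have hsame : ∀ {x : Fin 3 → F}, q3 F x ≠ 0 → ¬ IsSquare (q3 F x) → ls (ax x * ax n) = 1 := fun hx hxs => by
      rw [map_mul, (Int.units_eq_one_or _).resolve_left fun h => hxs ((ls_ax h2 hx).1 h),
        (Int.units_eq_one_or _).resolve_left fun h => hns ((ls_ax h2 hn).1 h)]
      decide
    have hP : IsPure h2 (r' * N) := ⟨ax v * ax n, ax v' * ax n, by rw [e, hN, tens_mul],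
      by rw [map_mul, dt_ax hv, dt_ax hn, one_mul], by rw [map_mul, dt_ax hv', dt_ax hn, one_mul],
      by rw [hsame hv hvs, hsame hv' hvs']⟩
    have hurN : u * (r' * N) = r' * N * u := ((show Commute u r' from hur).mul_right huN).eq
    have hne : r' * N ≠ 1 := fun h => by
      have h' : r' = N := by rw [← mul_one r', ← hNN, ← mul_assoc, h, one_mul]
      have hgW : W = N := by
        rw [show W = g⁻¹ * r' * g by rw [hr']; group, h', mul_assoc, ← hgc.eq, inv_mul_cancel_left]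
      rw [hW, hN] at hgW
      exact hns ((ls_ax h2 hn).1 ((tens_inj h2 hgW (dt_dd 0) (dt_ax hn)).1 ▸ ls_dd h2 0))
    have hsq : r' * N * (r' * N) = 1 := by
      calc r' * N * (r' * N) = r' * (N * r') * N := by group
        _ = r' * r' * (N * N) := by rw [← hrN.eq]; group
        _ = 1 := by rw [hrr, hNN, one_mul]
    rcases invol_pure h2 hP hsq hne with ⟨w, hw, hws, e'⟩ | ⟨w, hw, hws, e'⟩ | ⟨w, w', hw, hw', hww, e'⟩
    · exact Over.cent_ax_left h2 hM huM hw hws (e' ▸ hurN)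
    · exact Over.cent_ax_right h2 hM huM hw hws (e' ▸ hurN)
    · have h0 := (tens_inj h2 ((show tens h2 (ax v * ax n) (ax v' * ax n) = r' * N by rw [e, hN, tens_mul]).trans e')
        (by rw [map_mul, dt_ax hv, dt_ax hn, one_mul]) (dt_ax hw)).1
      have hws : IsSquare (q3 F w) := (ls_ax h2 hw).1 (h0 ▸ hsame hv hvs)
      exact Over.cent_both h2 hM huM hw hw' hws (hww.1 hws) (e' ▸ hurN)
  have huP : IsPure h2 u := (stab_cases h2 huS).resolve_right fun ⟨a, b, e⟩ => by
    refine three_ne_one h2 (Eq.trans ?_ ((hconjN hgc hu.symm).trans tTN))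
    have hS : u * N ∈ commutator (orthGroup (qq F)) :=
      mul_mem huS.1 (hN ▸ (tens_pure_mem h2 (dt_ax hn) (dt_ax hn) rfl).1)
    have hsq : u * N * (u * N) = 1 := by
      calc u * N * (u * N) = u * (N * u) * N := by group
        _ = u * u * (N * N) := by rw [← huN.eq]; group
        _ = 1 := by rw [huu, hNN, one_mul]
    rw [e, hN, mul_assoc (trp F) (tens h2 a b), tens_mul] at hS hsq ⊢
    exact (trc_swap h2 hS hsq).symm
  exact Over.mem_of_conj_left h2 hM hg (hq 0).1 (hq 0).2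
    (by rw [show ax (ev 0) = (dd 0 : orthGroup (q3 F)) from rfl, ← hT, ← hu]; exact huP)

/-- The centraliser of a pure involution lies in the stabiliser. -/
theorem Over.cent_invol {g z : orthGroup (qq F)} (hg : g ∈ M) (hP : IsPure h2 z) (hz : z * z = 1) (hne : z ≠ 1)
    (h : g * z = z * g) : g ∈ stabOmega F h2 := by
  rcases invol_pure h2 hP hz hne with ⟨v, hv, hvs, e⟩ | ⟨v, hv, hvs, e⟩ | ⟨v, v', hv, hv', hvv, e⟩
  · exact Over.cent_ax_left h2 hM hg hv hvs (e ▸ h)
  · exact Over.cent_ax_right h2 hM hg hv hvs (e ▸ h)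
  by_cases hvs : IsSquare (q3 F v)
  · exact Over.cent_both h2 hM hg hv hv' hvs (hvv.1 hvs) (e ▸ h)
  obtain ⟨c, hc⟩ := FiniteField.exists_nonsquare (F := F) fun e => h2 (by
    haveI := ringChar.of_eq e; exact CharTwo.two_eq_zero)
  obtain ⟨n, hn0, hnq⟩ := exists_value_perp h2 (dd_sq_norm (F := F) 0).1 c
  have hc0 : c ≠ 0 := fun e => hc (e ▸ IsSquare.zero)
  obtain ⟨k, hk, ek⟩ := exists_conj_both h2 (n := n) (hnq ▸ hc0) hv hv' (iff_of_false (hnq ▸ hc) hvs)
    (iff_of_false (hnq ▸ hc) fun h => hvs (hvv.2 h))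
  exact mem_of_conj_comm hk (Over.cent_N h2 hM (mul_mem (mul_mem (inv_mem (hM.le hk)) hg) (hM.le hk)) (hnq ▸ hc0)
    (hnq ▸ hc) hn0 (comm_of_conj_eq (ek.trans e.symm) h))

/-- The image of a product of two half turns. -/
theorem Over.conj_W {g : orthGroup (qq F)} (hg : g ∈ M) :
    IsPure h2 (g * tens h2 (dd 0) (dd 0) * g⁻¹) := by
  classical
  obtain ⟨T, hT⟩ : ∃ T, T = tens h2 (dd 0 : orthGroup (q3 F)) 1 := ⟨_, rfl⟩
  obtain ⟨u, hu⟩ : ∃ u, u = g * tens h2 (dd 0) (dd 0) * g⁻¹ := ⟨_, rfl⟩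
  rw [← hu]
  have hWM : tens h2 (dd 0 : orthGroup (q3 F)) (dd 0) ∈ M := hM.le (tens_pure_mem h2 (dt_dd 0) (dt_dd 0) rfl)
  have huM : u ∈ M := hu ▸ mul_mem (mul_mem hg hWM) (inv_mem hg)
  have hTM : T ∈ M := hT ▸ hM.le (dd_mem_stab h2 0)
  have hTT : T * T = 1 := by rw [hT, tens_mul, ax_mul_self, one_mul, tens_one]
  have huu : u * u = 1 := by
    rw [hu]
    calc _ = g * (tens h2 (dd 0) (dd 0) * tens h2 (dd 0) (dd 0)) * g⁻¹ := by group
      _ = 1 := by rw [tens_mul, ax_mul_self, tens_one, mul_one, mul_inv_cancel]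
  have tT : trc T = -3 := by rw [hT, trc_left h2 (dd_sq_norm 0).1]
  have tu : trc u = 1 := by rw [hu, trc_conj, trc_both h2 (dd_sq_norm 0).1 (dd_sq_norm 0).1]
  have heven : Even (orderOf (T * u)) := by
    rw [← Nat.not_odd_iff_even]
    intro ho
    obtain ⟨i, hi⟩ := exists_conj_of_odd hTT huu ho
    have := congrArg trc hi
    rw [trc_conj, tT, tu] at this
    exact three_ne_one h2 this
  obtain ⟨z, hz⟩ := dih_of_even hTT huu heven
  have hzM : z ∈ M := by
    rcases hz.split with ⟨j, e, -⟩ | ⟨k, -, e, -⟩ <;> rw [e] <;> exact pow_mem (mul_mem hTM huM) _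
  have hzS : z ∈ stabOmega F h2 := Over.cent_T h2 hM hzM (hT ▸ hz.comm_left)
  have hzP := pure_of_comm_left h2 hzS (dd_ne_one h2 0) (hT ▸ hz.comm_left) (dt_dd 0)
  exact pure_of_trc h2 (Over.cent_invol h2 hM huM hzP hz.sq hz.ne hz.comm_right.symm) huu
    (by rw [tu]; exact fun h => three_ne_one h2 h.symm)

/-- A proper overgroup is the stabiliser. -/
theorem Over.le_stab : M ≤ stabOmega F h2 := by
  intro g hg
  obtain ⟨c, hc⟩ : ∃ c, c = tens h2 (cyc : orthGroup (q3 F)) 1 := ⟨_, rfl⟩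
  have hcM : c ∈ M := hc ▸ Over.cyc_mem h2 hM
  have h0 := Over.conj_W h2 hM hg
  have h1 := Over.conj_W h2 hM (mul_mem hg hcM)
  have e : g * tens h2 (dd 0) (dd 0) * g⁻¹ * (g * c * tens h2 (dd 0) (dd 0) * (g * c)⁻¹) =
      g * tens h2 (dd 2) 1 * g⁻¹ := by
    calc g * tens h2 (dd 0) (dd 0) * g⁻¹ * (g * c * tens h2 (dd 0) (dd 0) * (g * c)⁻¹)
        = g * (tens h2 (dd 0) (dd 0) * (c * tens h2 (dd 0) (dd 0) * c⁻¹)) * g⁻¹ := by group
      _ = _ := by
        rw [hc, tens_conj, one_mul, inv_one, mul_one, tens_mul, ax_mul_self, ax_conj, cyc_ev h2]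
        congr 3
        refine mat_injective ?_
        show mat (dd 0 * dd 1) = _
        rw [mat_mul, mat_dd, mat_dd, mat_dd, diagonal_mul_diagonal]; congr 1; funext l; fin_cases l <;> simp
  refine Over.mem_of_conj_left h2 hM hg (dd_sq_norm 2).1 (dd_sq_norm 2).2 ?_
  show IsPure h2 (g * tens h2 (dd 2) 1 * g⁻¹)
  rw [← e]
  obtain ⟨a, b, ea, ha, hb, hab⟩ := h0
  obtain ⟨a', b', ea', ha', hb', hab'⟩ := h1
  exact ⟨a * a', b * b', by rw [ea, ea', tens_mul], by rw [map_mul, ha, ha', one_mul],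
    by rw [map_mul, hb, hb', one_mul], by rw [map_mul, map_mul, hab, hab']⟩

end CfsgLib.Classical.TensorSquare3
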