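import Cfsg.Agent.Lib.Classical.TensorSquare3.Sign

/-!
# The stabiliser of the tensor square in `Ω`, half turns, traces
-/

set_option autoImplicit false
set_option linter.unusedSectionVars false

namespace CfsgLib.Classical.TensorSquare3

open Matrix Module QuadraticMap CfsgLib.Orth

variable {F : Type*} [Field F] [Fintype F] (h2 : (2 : F) ≠ 0)

include h2 in
theorem two_ne' : (4 : F) ≠ 0 := by
  rw [show (4 : F) = 2 * 2 by norm_num]
  exact mul_ne_zero h2 h2

theorem mat_apply (a : orthGroup (q3 F)) (i j : Fin 3) : mat a i j = a.1 (Pi.single j 1) i := by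
  rw [← mat_mulVec, mulVec_single_one]
  rfl

/-- The kernel of the tensor map. -/
theorem tens_eq_one {a b : orthGroup (q3 F)} (h : tens h2 a b = 1) :
    (a = 1 ∧ b = 1) ∨ (a = negO ∧ b = negO) := by
  have key : ∀ i j k l, mat a i k * mat b j l = if i = k ∧ j = l then 1 else 0 := fun i j k l => by
    have h1 : (tens h2 a b).1 (Matrix.single k l 1) = Matrix.single k l 1 := by rw [h]; rfl
    rw [tens_apply] at h1
    have h2 := congrFun (congrFun h1 i) j
    rw [Matrix.single_apply] at h2
    rw [Matrix.mul_apply, Finset.sum_eq_single l (fun x _ hx => by simp [hx]) (by simp)] at h2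
    simp only [transpose_apply, Matrix.mul_single_apply_same, mul_one] at h2
    rw [h2]
    congr 1
    exact propext ⟨fun e => ⟨e.1.symm, e.2.symm⟩, fun e => ⟨e.1.symm, e.2.symm⟩⟩
  set c := mat a 0 0
  have hc0 : c * mat b 0 0 = 1 := by simpa using key 0 0 0 0
  have hb : mat b = c⁻¹ • 1 := by
    ext j l
    have := key 0 j 0 l
    rw [Matrix.smul_apply, Matrix.one_apply, smul_eq_mul, eq_inv_mul_iff_mul_eq₀ (left_ne_zero_of_mul_eq_one hc0)]
    simpa using this
  have ha : mat a = c • 1 := by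
    ext i k
    have := key i 0 k 0
    rw [hb] at this
    have hc : c ≠ 0 := left_ne_zero_of_mul_eq_one hc0
    simp only [Matrix.smul_apply, Matrix.one_apply, smul_eq_mul, and_true, if_true, mul_one] at this ⊢
    rw [mul_inv_eq_iff_eq_mul₀ hc] at this
    rw [this, mul_comm]
  have hcc : c * c = 1 := by
    have h1 := congrFun (congrFun (mat_orth h2 a) 0) 0
    rw [ha] at h1
    simpa using h1
  rcases mul_self_eq_one_iff.1 hcc with e | e
  · exact .inl ⟨mat_injective (by rw [ha, e, one_smul, mat_one]),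
      mat_injective (by rw [hb, e, inv_one, one_smul, mat_one])⟩
  · refine .inr ⟨mat_injective (by rw [ha, e, mat_negO]; simp), mat_injective (by rw [hb, e, mat_negO, inv_neg]; simp)⟩

include h2 in
theorem neg_one_ne_one : (-1 : F) ≠ 1 := fun h => h2 (by linear_combination -h)

theorem tens_eq_one' {a b : orthGroup (q3 F)} (h : tens h2 a b = 1) (ha : dt a = 1) : a = 1 ∧ b = 1 :=
  (tens_eq_one h2 h).resolve_right fun e => neg_one_ne_one h2 (by rw [← dt_negO (F := F), ← e.1, ha])

theorem tens_inj {a b a' b' : orthGroup (q3 F)} (h : tens h2 a b = tens h2 a' b') (ha : dt a = 1) (ha' : dt a' = 1) :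
    a = a' ∧ b = b' := by
  have h1 : tens h2 (a'⁻¹ * a) (b'⁻¹ * b) = 1 := by rw [← tens_mul, ← tens_inv, h, inv_mul_cancel]
  obtain ⟨e1, e2⟩ := tens_eq_one' h2 h1 (by
    rw [map_mul, ha, mul_one]
    have := map_mul dt a'⁻¹ a'
    rwa [inv_mul_cancel, map_one, ha', mul_one, eq_comm] at this)
  exact ⟨(inv_mul_eq_one.1 e1).symm, (inv_mul_eq_one.1 e2).symm⟩

/-- The first unit vector. -/
noncomputable abbrev ev (i : Fin 3) : Fin 3 → F := Pi.single i 1

/-- The half turns of the standard frame. -/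
noncomputable abbrev dd (i : Fin 3) : orthGroup (q3 F) := ax (ev i)

theorem dt_dd (i : Fin 3) : dt (dd i : orthGroup (q3 F)) = 1 := dt_ax (by rw [q3_single]; exact one_ne_zero)

include h2 in
theorem ls_dd (i : Fin 3) : ls (dd i : orthGroup (q3 F)) = 1 :=
  (ls_ax h2 (by rw [q3_single]; exact one_ne_zero)).2 (by rw [q3_single]; exact IsSquare.one)

theorem dd_apply (i : Fin 3) (x : Fin 3 → F) : (dd i : orthGroup (q3 F)).1 x = fun j => if j = i then x j else -x j := by
  rw [ax_apply, q3_single, inv_one, one_mul, single_dotProduct, one_mul]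
  ext j
  rcases eq_or_ne j i with rfl | h
  · simp; ring
  · simp [h]

theorem mat_dd (i : Fin 3) : mat (dd i : orthGroup (q3 F)) = Matrix.diagonal fun j => if j = i then 1 else -1 := by
  ext j k
  rw [mat_apply, dd_apply, Matrix.diagonal_apply]
  rcases eq_or_ne j k with rfl | h
  · simp
  · simp [h]

include h2 in
theorem dd_ne_one (i : Fin 3) : (dd i : orthGroup (q3 F)) ≠ 1 := by
  intro h
  obtain ⟨j, hj⟩ : ∃ j, j ≠ i := ⟨i + 1, by fin_cases i <;> decide⟩
  have h1 := congrFun (congrFun (congrArg mat h) j) j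
  rw [mat_dd, mat_one] at h1
  simp [hj] at h1
  exact neg_one_ne_one h2 h1

theorem trp_ne_tens (a b : orthGroup (q3 F)) : trp F ≠ tens h2 a b := by
  intro h
  set x : orthGroup (q3 F) := dd 0
  have e := trp_tens h2 x 1
  rw [h, tens_mul, tens_mul, mul_one, one_mul] at e
  have h1 : tens h2 (a⁻¹ * (a * x)) (b⁻¹ * b) = tens h2 (a⁻¹ * a) (b⁻¹ * (x * b)) := by
    rw [← tens_mul, e, tens_mul]
  rw [inv_mul_cancel_left, inv_mul_cancel, inv_mul_cancel] at h1
  exact dd_ne_one h2 0 (tens_inj h2 h1 (dt_dd 0) (map_one dt)).1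

variable (F) in
/-- The tensor maps and their products with the transposition inside `Ω`. -/
noncomputable def stabOmega : Subgroup (orthGroup (qq F)) where
  carrier := {g | g ∈ commutator (orthGroup (qq F)) ∧ ∃ a b, g = tens h2 a b ∨ g = trp F * tens h2 a b}
  one_mem' := ⟨one_mem _, 1, 1, .inl (tens_one h2).symm⟩
  mul_mem' := by
    rintro g k ⟨hg, a, b, hga⟩ ⟨hk, a', b', hka⟩
    refine ⟨mul_mem hg hk, ?_⟩
    rcases hga with rfl | rfl <;> rcases hka with rfl | rfl
    · exact ⟨_, _, .inl (tens_mul h2 _ _ _ _)⟩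
    · refine ⟨b * a', a * b', .inr ?_⟩
      rw [← mul_assoc, ← trp_tens, mul_assoc, tens_mul]
    · exact ⟨a * a', b * b', .inr (by rw [mul_assoc, tens_mul])⟩
    · refine ⟨b * a', a * b', .inl ?_⟩
      rw [trp_tens h2 a b, mul_assoc, ← mul_assoc (trp F), trp_mul_self, one_mul, tens_mul]
  inv_mem' := by
    rintro g ⟨hg, a, b, rfl | rfl⟩
    · exact ⟨inv_mem hg, a⁻¹, b⁻¹, .inl (tens_inv h2 a b)⟩
    · refine ⟨inv_mem hg, b⁻¹, a⁻¹, .inr ?_⟩
      rw [_root_.mul_inv_rev, trp_inv, tens_inv, trp_tens]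

/-- A tensor map of `Ω` with both factors of determinant one. -/
def IsPure (g : orthGroup (qq F)) : Prop :=
  ∃ a b, g = tens h2 a b ∧ dt a = 1 ∧ dt b = 1 ∧ ls a = ls b

theorem isPure_mem {g : orthGroup (qq F)} (h : IsPure h2 g) : g ∈ stabOmega F h2 := by
  obtain ⟨a, b, rfl, ha, hb, hab⟩ := h
  exact ⟨tens_mem h2 (by rw [ha, hb, one_mul]) hab, a, b, .inl rfl⟩

theorem tens_pure_mem {a b : orthGroup (q3 F)} (ha : dt a = 1) (hb : dt b = 1) (hab : ls a = ls b) :
    tens h2 a b ∈ stabOmega F h2 := isPure_mem h2 ⟨a, b, rfl, ha, hb, hab⟩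

theorem isPure_of_mem {g : orthGroup (qq F)} (hg : g ∈ commutator (orthGroup (qq F))) {a b : orthGroup (q3 F)}
    (e : g = tens h2 a b) : IsPure h2 g := by
  obtain ⟨hd, hs⟩ := (mem_omega h2 g).1 hg
  rw [e, dt_tens] at hd
  rw [e, ls_tens] at hs
  have hab : ls a = ls b := by
    rw [← one_mul (ls b), ← hs, mul_assoc, Int.units_mul_self, mul_one]
  rcases dt_cases h2 a with ha | ha
  · exact ⟨a, b, e, ha, by rwa [ha, one_mul] at hd, hab⟩
  · refine ⟨negO * a, negO * b, ?_, ?_, ?_, ?_⟩
    · rw [← tens_mul, tens_negO, one_mul, e]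
    · rw [map_mul, dt_negO, ha]; ring
    · rw [map_mul, dt_negO]
      rw [ha] at hd
      linear_combination hd
    · rw [map_mul, map_mul, hab]

theorem not_pure_swap (a b a' b' : orthGroup (q3 F)) : trp F * tens h2 a b ≠ tens h2 a' b' := fun h =>
  trp_ne_tens h2 (a' * a⁻¹) (b' * b⁻¹) (by rw [← tens_mul, ← h, mul_assoc, tens_mul, mul_inv_cancel, mul_inv_cancel,
    tens_one, mul_one])

/-! ### Traces -/

/-- The trace. -/
noncomputable def trc (g : orthGroup (qq F)) : F :=
  LinearMap.trace F (Matrix (Fin 3) (Fin 3) F) (g.1 : Matrix (Fin 3) (Fin 3) F →ₗ[F] Matrix (Fin 3) (Fin 3) F)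

theorem trc_eq (g : orthGroup (qq F)) : trc g = ∑ i, ∑ j, g.1 (Matrix.single i j 1) i j := by
  rw [trc, LinearMap.trace_eq_matrix_trace F (Matrix.stdBasis F (Fin 3) (Fin 3)), Matrix.trace,
    Fintype.sum_prod_type]
  simp [LinearMap.toMatrix_apply, Matrix.stdBasis_eq_single, Matrix.stdBasis]
  simp only [Matrix.single_eq_of_single_single]

theorem trc_conj (g k : orthGroup (qq F)) : trc (g * k * g⁻¹) = trc k :=
  LinearMap.trace_conj' _ g.1

theorem trc_tens (a b : orthGroup (q3 F)) : trc (tens h2 a b) = (mat a).trace * (mat b).trace := by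
  rw [trc_eq, Matrix.trace, Matrix.trace, Finset.sum_mul_sum]
  refine Finset.sum_congr rfl fun i _ => Finset.sum_congr rfl fun j _ => ?_
  rw [tens_apply, Matrix.mul_apply, Finset.sum_eq_single j (fun x _ hx => by simp [hx]) (by simp)]
  simp

/-- A swap of `Ω` that is an involution has trace `-3`. -/
theorem trc_swap {a b : orthGroup (q3 F)} (hg : trp F * tens h2 a b ∈ commutator (orthGroup (qq F)))
    (hsq : trp F * tens h2 a b * (trp F * tens h2 a b) = 1) : trc (trp F * tens h2 a b) = -3 := by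
  have hd := ((mem_omega h2 _).1 hg).1
  rw [map_mul, dt_trp h2, dt_tens] at hd
  have h1 : tens h2 (b * a) (a * b) = 1 := by
    have e : trp F * tens h2 a b * trp F = tens h2 b a := by rw [trp_tens, mul_assoc, trp_mul_self, mul_one]
    rw [← hsq, ← mul_assoc, e, tens_mul]
  have hne : b * a = negO := by
    refine ((tens_eq_one h2 h1).resolve_left fun e => neg_one_ne_one h2 ?_).1
    have h3 := congrArg dt e.1
    rw [map_mul, map_one] at h3
    linear_combination hd + (1 : F) * h3
  have hT : mat a * mat b = -1 := by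
    have : (-mat a) * mat b = 1 := mul_eq_one_comm.1 (by rw [Matrix.mul_neg, ← mat_mul, hne, mat_negO, neg_neg])
    rw [← neg_neg (mat a * mat b), ← Matrix.neg_mul, this]
  rw [trc_eq]
  have key : ∀ i j, (trp F * tens h2 a b).1 (Matrix.single i j 1) i j = mat a j i * mat b i j := fun i j => by
    show ((tens h2 a b).1 (Matrix.single i j 1))ᵀ i j = _
    rw [tens_apply, transpose_apply, Matrix.mul_apply, Finset.sum_eq_single j (fun x _ hx => by simp [hx]) (by simp)]
    simp
  simp only [key]
  rw [Finset.sum_comm]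
  simp only [← Matrix.mul_apply, hT]
  simp

/-! ### Half turns -/

theorem mat_ax (v : Fin 3 → F) (i j : Fin 3) :
    mat (ax v) i j = (q3 F v)⁻¹ * (2 * v j) * v i - if i = j then 1 else 0 := by
  rw [mat_apply, ax_apply, dotProduct_single, mul_one]
  simp [Pi.single_apply]

include h2 in
theorem trace_ax {v : Fin 3 → F} (hv : q3 F v ≠ 0) : (mat (ax v)).trace = -1 := by
  rw [Matrix.trace_fin_three, mat_ax, mat_ax, mat_ax]
  simp only [if_pos, if_true]
  field_simp
  rw [q3_eq]
  ring

include h2 in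
/-- An involution of determinant one is a half turn. -/
theorem exists_eq_ax {a : orthGroup (q3 F)} (hsq : a * a = 1) (hd : dt a = 1) (hne : a ≠ 1) :
    ∃ v, q3 F v ≠ 0 ∧ a = ax v := by
  set A := mat a with hA
  have hAA : A * A = 1 := by rw [hA, ← mat_mul, hsq, mat_one]
  have hsym : Aᵀ = A := by rw [hA, ← mat_inv h2, inv_eq_of_mul_eq_one_left hsq]
  have hdet : A.det = 1 := by rw [hA, ← dt_eq_det, hd]
  have hadj : A.adjugate = A := by
    calc A.adjugate = A * A * A.adjugate := by rw [hAA, Matrix.one_mul]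
      _ = A := by rw [Matrix.mul_assoc, Matrix.mul_adjugate, hdet, one_smul, Matrix.mul_one]
  have s10 : A 1 0 = A 0 1 := congrFun (congrFun hsym 0) 1
  have s20 : A 2 0 = A 0 2 := congrFun (congrFun hsym 0) 2
  have s21 : A 2 1 = A 1 2 := congrFun (congrFun hsym 1) 2
  rw [Matrix.adjugate_fin_three] at hadj
  have c00 := congrFun (congrFun hadj 0) 0
  have c11 := congrFun (congrFun hadj 1) 1
  have c22 := congrFun (congrFun hadj 2) 2
  have c01 := congrFun (congrFun hadj 0) 1
  have c02 := congrFun (congrFun hadj 0) 2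
  have c12 := congrFun (congrFun hadj 1) 2
  simp [s10, s20, s21] at c00 c11 c22 c01 c02 c12
  have q00 := congrFun (congrFun hAA 0) 0
  have q11 := congrFun (congrFun hAA 1) 1
  have q22 := congrFun (congrFun hAA 2) 2
  have q01 := congrFun (congrFun hAA 0) 1
  have q02 := congrFun (congrFun hAA 0) 2
  have q12 := congrFun (congrFun hAA 1) 2
  simp [Matrix.mul_apply, Fin.sum_univ_three, s10, s20, s21] at q00 q11 q22 q01 q02 q12
  have hT : A 0 0 + A 1 1 + A 2 2 = -1 := by
    by_contra hT
    have hT' : A 0 0 + A 1 1 + A 2 2 + 1 ≠ 0 := fun h => hT (by linear_combination h)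
    have z01 : A 0 1 = 0 := (mul_eq_zero.1 (show (A 0 0 + A 1 1 + A 2 2 + 1) * A 0 1 = 0 by
      linear_combination q01 - c01)).resolve_left hT'
    have z02 : A 0 2 = 0 := (mul_eq_zero.1 (show (A 0 0 + A 1 1 + A 2 2 + 1) * A 0 2 = 0 by
      linear_combination q02 - c02)).resolve_left hT'
    have z12 : A 1 2 = 0 := (mul_eq_zero.1 (show (A 0 0 + A 1 1 + A 2 2 + 1) * A 1 2 = 0 by
      linear_combination q12 - c12)).resolve_left hT'
    rw [z01, z02] at q00
    rw [z01, z12] at q11
    rw [z12] at c00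
    have hx : A 0 0 * A 0 0 = 1 := by linear_combination q00
    have hy : A 1 1 * A 1 1 = 1 := by linear_combination q11
    refine hne (mat_injective ?_)
    rw [mat_one]
    have hz : A 2 2 = A 0 0 * A 1 1 := by linear_combination A 1 1 * c00 - A 2 2 * hy
    rcases mul_self_eq_one_iff.1 hx with e0 | e0 <;> rcases mul_self_eq_one_iff.1 hy with e1 | e1 <;>
      rw [e0, e1] at hz <;> [skip; exact absurd (by rw [e0, e1, hz]; ring) hT; exact absurd (by rw [e0, e1, hz]; ring) hT;
        exact absurd (by rw [e0, e1, hz]; ring) hT]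
    ext i j
    show A i j = _
    fin_cases i <;> fin_cases j <;> simp [e0, e1, hz, z01, z02, z12, s10, s20, s21]
  obtain ⟨i, hi⟩ : ∃ i, A i i + 1 ≠ 0 := by
    by_contra! h
    exact h2 (by linear_combination h 0 + h 1 + h 2 - hT)
  have m0 : (A 1 1 + 1) * (A 2 2 + 1) - A 1 2 * A 1 2 = 0 := by linear_combination c00 + hT
  have m1 : (A 0 0 + 1) * (A 2 2 + 1) - A 0 2 * A 0 2 = 0 := by linear_combination c11 + hT
  have m2 : (A 0 0 + 1) * (A 1 1 + 1) - A 0 1 * A 0 1 = 0 := by linear_combination c22 + hT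
  have m01 : A 0 2 * A 1 2 - A 0 1 * (A 2 2 + 1) = 0 := by linear_combination c01
  have m02 : A 0 1 * A 1 2 - A 0 2 * (A 1 1 + 1) = 0 := by linear_combination c02
  have m12 : A 0 1 * A 0 2 - A 1 2 * (A 0 0 + 1) = 0 := by linear_combination c12
  set v : Fin 3 → F := fun j => A j i + if j = i then 1 else 0 with hv
  have hq : q3 F v = 2 * (A i i + 1) := by
    rw [q3_eq]
    fin_cases i <;> simp [hv, s10, s20, s21]
    · linear_combination q00
    · linear_combination q11
    · linear_combination q22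
  have hv0 : q3 F v ≠ 0 := by rw [hq]; exact mul_ne_zero h2 hi
  refine ⟨v, hv0, mat_injective ?_⟩
  ext j k
  have key : (A i i + 1) * (A j k + if j = k then 1 else 0) = v k * v j := by
    fin_cases i <;> fin_cases j <;> fin_cases k <;> simp [hv, s10, s20, s21] <;>
    first
      | ring1 | linear_combination m0 | linear_combination -m0 | linear_combination m1 | linear_combination -m1
      | linear_combination m2 | linear_combination -m2 | linear_combination m01 | linear_combination -m01
      | linear_combination m02 | linear_combination -m02 | linear_combination m12 | linear_combination -m12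
  rw [mat_ax, hq, show (2 * (A i i + 1))⁻¹ * (2 * v k) * v j = (A i i + 1)⁻¹ * (v k * v j) by field_simp, ← key,
    inv_mul_cancel_left₀ hi, add_sub_cancel_right, hA]

end CfsgLib.Classical.TensorSquare3
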