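import Cfsg.Agent.Lib.Classical.TensorSquare3.CentW
import Cfsg.Agent.Lib.Classical.TensorMaxO.Matrix
import Cfsg.Agent.Lib.Classical.TensorPower.Core

/-!
# The stabiliser of a tensor square is maximal in `Ω₉`
-/

set_option autoImplicit false
set_option linter.unusedSectionVars false
set_option backward.isDefEq.respectTransparency false

namespace CfsgLib.Classical.TensorSquare3

open Matrix Module QuadraticMap CfsgLib.Orth CfsgLib.Classical
open CfsgLib.Classical.TensorPower (ext_pure ActsAs wreath tensorWreath_le_wreath reindex_pure)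

variable {F : Type*} [Field F] [Fintype F] (h2 : (2 : F) ≠ 0)

/-- Some element of `Ω` lies outside the stabiliser. -/
theorem exists_not_mem : ∃ g ∈ commutator (orthGroup (qq F)), g ∉ stabOmega F h2 := by
  classical
  obtain ⟨g, hg⟩ : ∃ g, g = rowE 0 (dd 1 : orthGroup (q3 F)) := ⟨_, rfl⟩
  have hgc : g ∈ commutator (orthGroup (qq F)) := by
    rw [hg]
    have h : rowE 0 (dd 1 : orthGroup (q3 F)) ∈ (commutator (orthGroup (q3 F))).map (rowE 0) :=
      ⟨_, dd_mem3 h2 1, rfl⟩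
    rw [commutator_def, Subgroup.map_commutator] at h
    exact Subgroup.commutator_mono le_top le_top h
  refine ⟨g, hgc, fun hS => ?_⟩
  have hsq : g * g = 1 := by rw [hg, ← map_mul, ax_mul_self, map_one]
  have hrow : ∀ i j : Fin 3, (Matrix.single i j (1 : F)) i = ev j := fun i j => by
    ext k
    simp [Matrix.single_apply, Pi.single_apply, eq_comm]
  have ht : trc g = 5 := by
    rw [trc_eq, Fin.sum_univ_three, hg]
    simp only [rowE_self, rowE_other (show (1 : Fin 3) ≠ 0 by decide), rowE_other (show (2 : Fin 3) ≠ 0 by decide),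
      hrow, dd_apply, Fin.sum_univ_three]
    simp
    ring
  have hP := pure_of_trc h2 hS hsq (by rw [ht]; exact fun h => mul_ne_zero h2 (two_ne' h2) (by linear_combination h))
  by_cases h1 : g = 1
  · rw [h1, ← tens_one h2, trc_tens, mat_one_trace] at ht
    exact two_ne' h2 (by linear_combination ht)
  rcases invol_pure h2 hP hsq h1 with ⟨v, hv, -, e⟩ | ⟨v, hv, -, e⟩ | ⟨v, v', hv, hv', -, e⟩
  · rw [e, trc_left h2 hv] at ht
    exact mul_ne_zero h2 (two_ne' h2) (by linear_combination -ht)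
  · rw [e, trc_right h2 hv] at ht
    exact mul_ne_zero h2 (two_ne' h2) (by linear_combination -ht)
  · rw [e, trc_both h2 hv hv'] at ht
    exact two_ne' h2 (by linear_combination -ht)

/-- The groups of similar forms. -/
def simCongrV {V W : Type*} [AddCommGroup V] [Module F V] [AddCommGroup W] [Module F W] {Qv : QuadraticForm F V}
    {Qw : QuadraticForm F W} {μ : F} (hμ : μ ≠ 0) (L : V ≃ₗ[F] W) (hL : ∀ x, Qw (L x) = μ * Qv x) :
    orthGroup Qv ≃* orthGroup Qw where
  toFun g := ⟨(L.symm.trans g.1).trans L, fun w => by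
    show Qw (L (g.1 (L.symm w))) = Qw w
    rw [hL, apply_quad, ← hL, L.apply_symm_apply]⟩
  invFun g := ⟨(L.trans g.1).trans L.symm, fun x => mul_left_cancel₀ hμ (by
    show μ * Qv (L.symm (g.1 (L x))) = μ * Qv x
    rw [← hL, L.apply_symm_apply, apply_quad, hL])⟩
  left_inv g := Subtype.ext (LinearEquiv.ext fun v => by simp)
  right_inv g := Subtype.ext (LinearEquiv.ext fun v => by simp)
  map_mul' g k := Subtype.ext (LinearEquiv.ext fun v => by
    show L (g.1 (k.1 (L.symm v))) = L (g.1 (L.symm (L (k.1 (L.symm v)))))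
    rw [L.symm_apply_apply])

include h2 in
/-- The matrix of a similitude. -/
theorem sim_matrix {B : Matrix (Fin 3) (Fin 3) F} {β : F} (h : ∀ u, q3 F (B *ᵥ u) = β * q3 F u) : Bᵀ * B = β • 1 := by
  have hp : ∀ u v, (B *ᵥ u) ⬝ᵥ (B *ᵥ v) = β * (u ⬝ᵥ v) := fun u v => by
    refine mul_left_cancel₀ h2 ?_
    rw [← polar_q3, mul_left_comm, ← polar_q3]
    simp only [QuadraticMap.polar, ← mulVec_add, h]
    ring
  ext i j
  have e := hp (ev i) (ev j)
  rw [mulVec_single_one, mulVec_single_one, e_dot] at e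
  rw [Matrix.mul_apply, Matrix.smul_apply, Matrix.one_apply, smul_eq_mul, ← e]
  rfl

/-- An isometry acting factorwise is a tensor map. -/
theorem exists_tens_of_pure {g : orthGroup (qq F)} {B C : Matrix (Fin 3) (Fin 3) F}
    (h : ∀ u w, g.1 (vecMulVec u w) = vecMulVec (B *ᵥ u) (C *ᵥ w)) : ∃ a b, g = tens h2 a b := by
  have hq : ∀ u w, q3 F (B *ᵥ u) * q3 F (C *ᵥ w) = q3 F u * q3 F w := fun u w => by
    rw [← qq_pure, ← qq_pure, ← h, apply_quad]
  set β := q3 F (B *ᵥ ev 0)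
  set γ := q3 F (C *ᵥ ev 0)
  have hβγ : β * γ = 1 := (hq _ _).trans (by rw [q3_single, one_mul])
  have hB : ∀ u, q3 F (B *ᵥ u) = β * q3 F u := fun u => by
    have e := hq u (ev 0)
    rw [q3_single, mul_one] at e
    rw [← e, mul_left_comm, hβγ, mul_one]
  have hC : ∀ w, q3 F (C *ᵥ w) = γ * q3 F w := fun w => by
    have e := hq (ev 0) w
    rw [q3_single, one_mul] at e
    rw [← e, ← mul_assoc, mul_comm γ, hβγ, one_mul]
  have eB := sim_matrix h2 hB
  have eC := sim_matrix h2 hC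
  have hd := congrArg Matrix.det eB
  rw [det_mul, det_transpose, det_smul, det_one, mul_one, Fintype.card_fin] at hd
  have hβ : β ≠ 0 := left_ne_zero_of_mul_eq_one hβγ
  obtain ⟨s, hs, hss⟩ : ∃ s : F, s ≠ 0 ∧ s * s = β :=
    ⟨B.det / β, div_ne_zero (fun e => by rw [e, mul_zero] at hd; exact pow_ne_zero 3 hβ hd.symm) hβ, by
      field_simp; linear_combination hd⟩
  have hA : (s⁻¹ • B)ᵀ * (s⁻¹ • B) = 1 := by
    rw [transpose_smul, Matrix.smul_mul, Matrix.mul_smul, smul_smul, eB, smul_smul, ← hss]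
    rw [show s⁻¹ * s⁻¹ * (s * s) = 1 by field_simp, one_smul]
  have hC' : (s • C)ᵀ * (s • C) = 1 := by
    rw [transpose_smul, Matrix.smul_mul, Matrix.mul_smul, smul_smul, eC, smul_smul, hss, hβγ, one_smul]
  refine ⟨ofMat _ hA, ofMat _ hC', orth_ext_rows fun i w => ?_⟩
  rw [h, tens_pure, ← mat_mulVec, ← mat_mulVec, mat_ofMat, mat_ofMat, smul_mulVec, smul_mulVec, smul_vecMulVec,
    vecMulVec_smul, smul_smul, inv_mul_cancel₀ hs, one_smul]

section Coords

variable {ι : Type} [Fintype ι] [DecidableEq ι] (e : ι ≃ (Fin 2 → Fin 3)) (P : GL ι F)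

/-- Elements acting on the pure tensors factorwise up to a permutation lie in the wreath subgroup. -/
theorem mem_wreath_of_acts {G : GL ι F} {σ : Equiv.Perm (Fin 2)} {gs : Fin 2 → GL (Fin 3) F}
    (h : ActsAs e P G σ gs) : G ∈ Cfsg.Geo.tensorWreathSubgroup 3 2 e P := by
  obtain ⟨x, rfl⟩ : ∃ x, MulAut.conj P (Cfsg.Geo.glReindex e.symm x) = G :=
    ⟨(Cfsg.Geo.glReindex e.symm).symm ((MulAut.conj P).symm G), by simp [mul_assoc]⟩
  refine Subgroup.mem_map.2 ⟨_, Subgroup.mem_map.2 ⟨x, ?_, rfl⟩, rfl⟩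
  have hσ : ∀ l, σ (σ l) = l := by clear h; revert σ; decide
  have hent : ∀ a b : Fin 2 → Fin 3, (x : Matrix (Fin 2 → Fin 3) (Fin 2 → Fin 3) F) a b =
      ∏ l, (gs l : Matrix (Fin 3) (Fin 3) F) (a l) (b (σ l)) := by
    intro a b
    have h1 := h fun l => Pi.single (b l) 1
    rw [reindex_pure, TensorPower.pure] at h1
    have h3 := congrArg (fun y => ((P⁻¹ : GL ι F) : Matrix ι ι F) *ᵥ y) h1
    simp only [mulVec_mulVec, ← Units.val_mul, inv_mul_cancel, Units.val_one, one_mulVec] at h3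
    have h4 := congrFun h3 (e.symm a)
    simp only [Function.comp_apply, Equiv.apply_symm_apply, mulVec_single_one] at h4
    have hbasis : (fun c : Fin 2 → Fin 3 => ∏ l, (Pi.single (b l) 1 : Fin 3 → F) (c l)) = Pi.single b 1 :=
      funext fun c => by
        by_cases hc : c = b
        · subst hc; simp
        · obtain ⟨l, hl⟩ : ∃ l, c l ≠ b l := Function.ne_iff.mp hc
          rw [Pi.single_eq_of_ne hc]
          exact Finset.prod_eq_zero (Finset.mem_univ l) (Pi.single_eq_of_ne hl _)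
    rw [hbasis, mulVec_single_one] at h4
    exact h4
  let pm : Matrix (Fin 2 → Fin 3) (Fin 2 → Fin 3) F := fun a b => if b = a ∘ σ then 1 else 0
  have hpm : pm * pm = 1 := by
    ext a b
    rw [Matrix.mul_apply, Finset.sum_eq_single (a ∘ σ) (fun c _ hc => by simp [pm, hc]) (by simp)]
    have : (a ∘ σ) ∘ σ = a := funext fun l => congrArg a (hσ l)
    simp [pm, this, Matrix.one_apply, eq_comm]
  let p : GL (Fin 2 → Fin 3) F := ⟨pm, pm, hpm, hpm⟩
  have hx : x = x * p * p := by rw [mul_assoc, show p * p = 1 from Units.ext hpm, mul_one]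
  rw [hx]
  refine mul_mem (Subgroup.subset_closure (.inl ⟨gs, fun a b => ?_⟩)) (Subgroup.subset_closure (.inr ⟨σ, fun a b => rfl⟩))
  rw [Units.val_mul, Matrix.mul_apply, Finset.sum_eq_single (b ∘ σ)]
  · show _ * (if b = (b ∘ σ) ∘ σ then (1 : F) else 0) = _
    rw [if_pos (show b = (b ∘ σ) ∘ σ from funext fun l => (congrArg b (hσ l)).symm), mul_one, hent]
    exact Finset.prod_congr rfl fun l _ => by rw [Function.comp_apply, hσ]
  · intro c _ hc
    show _ * (if b = c ∘ σ then (1 : F) else 0) = 0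
    rw [if_neg fun hb => hc (by rw [hb]; funext l; simp [hσ]), mul_zero]
  · simp

include h2 in
/-- The stabiliser of a tensor square decomposition is maximal in `Ω`. -/
theorem omega_isMaximal {Qf : (ι → F) → F} (hQ : Cfsg.Geo.IsNondegenerateQuadraticForm Qf)
    (h5 : 5 ≤ Fintype.card F) {f₁ : (Fin 3 → F) → (Fin 3 → F) → F} (hf₁ : Cfsg.Geo.IsSymmetricForm f₁)
    (hT : Cfsg.Geo.IsTensorPowerFormStructure id (polar Qf) f₁ e P) :
    Cfsg.Geo.IsMaximalIn (Cfsg.Geo.omegaGL Qf) (Cfsg.Geo.tensorWreathSubgroup 3 2 e P ⊓ Cfsg.Geo.omegaGL Qf) := by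
  classical
  obtain ⟨Q, hQf, hQn⟩ := exists_quadOf hQ
  obtain ⟨c, hc, hf⟩ := hT
  have hpolpure : ∀ u w : Fin 2 → Fin 3 → F,
      polar Qf (TensorPower.pure e P u) (TensorPower.pure e P w) = c * (f₁ (u 0) (w 0) * f₁ (u 1) (w 1)) := fun u w => by
    rw [TensorPower.pure, TensorPower.pure, hf]
    congr 1
    have hgr : ∀ x y : Fin 3 → F, f₁ x y = ∑ i, ∑ j, x i * Cfsg.Geo.gramMatrix f₁ i j * y j := fun x y =>
      ((TensorNonMax.gram_expand hf₁.bilinear.add_left hf₁.bilinear.smul_left hf₁.bilinear.add_right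
        (fun t v x => hf₁.bilinear.smul_right t v x) x y).symm).trans rfl
    rw [hgr, hgr, Finset.sum_mul_sum, ← (piFinTwoEquiv fun _ => Fin 3).symm.sum_comp, Fintype.sum_prod_type]
    refine Finset.sum_congr rfl fun i _ => Finset.sum_congr rfl fun i' _ => ?_
    rw [Finset.sum_mul_sum, ← (piFinTwoEquiv fun _ => Fin 3).symm.sum_comp, Fintype.sum_prod_type]
    refine Finset.sum_congr rfl fun j _ => Finset.sum_congr rfl fun j' _ => ?_
    simp [Fin.prod_univ_two, piFinTwoEquiv]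
    ring
  obtain ⟨μ, L, hμ, hL⟩ := exists_similar3 h2 (TensorMaxO.nondeg_quadSym h2 one_ne_zero hf₁)
    (finrank_fin_fun F)
  have hLp : ∀ x y, f₁ (L x) (L y) = μ * (2 * (x ⬝ᵥ y)) := fun x y => by
    rw [← polar_q3, ← one_mul (f₁ (L x) (L y)), ← TensorMaxO.polar_quadSym h2 1 hf₁]
    simp only [QuadraticMap.polar, ← map_add, hL]
    ring
  obtain ⟨A, hA⟩ : ∃ A : GL (Fin 3) F, ∀ x, (A : Matrix (Fin 3) (Fin 3) F) *ᵥ x = L x :=
    ⟨⟨LinearMap.toMatrix' L.toLinearMap, LinearMap.toMatrix' L.symm.toLinearMap,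
      by rw [← LinearMap.toMatrix'_comp]; simp,
      by rw [← LinearMap.toMatrix'_comp]; simp⟩, fun x => LinearMap.toMatrix'_mulVec _ x⟩
  let Φ : Matrix (Fin 3) (Fin 3) F ≃ₗ[F] (ι → F) :=
    { toFun := fun X => (P : Matrix ι ι F) *ᵥ ((fun a : Fin 2 → Fin 3 =>
        ((A : Matrix (Fin 3) (Fin 3) F) * X * (A : Matrix (Fin 3) (Fin 3) F)ᵀ) (a 0) (a 1)) ∘ e)
      invFun := fun x => ((A⁻¹ : GL (Fin 3) F) : Matrix (Fin 3) (Fin 3) F) *
        (Matrix.of fun r s => (((P⁻¹ : GL ι F) : Matrix ι ι F) *ᵥ x) (e.symm ![r, s])) *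
        (((A⁻¹ : GL (Fin 3) F) : Matrix (Fin 3) (Fin 3) F))ᵀ
      map_add' := fun X Y => by
        rw [← mulVec_add, Matrix.mul_add, Matrix.add_mul]; rfl
      map_smul' := fun t X => by
        rw [RingHom.id_apply, ← mulVec_smul, Matrix.mul_smul, Matrix.smul_mul]; rfl
      left_inv := fun X => by
        have h1 : (Matrix.of fun r s => (((P⁻¹ : GL ι F) : Matrix ι ι F) *ᵥ ((P : Matrix ι ι F) *ᵥ
            ((fun a : Fin 2 → Fin 3 => ((A : Matrix (Fin 3) (Fin 3) F) * X * (A : Matrix (Fin 3) (Fin 3) F)ᵀ) (a 0) (a 1)) ∘ e)))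
              (e.symm ![r, s])) = (A : Matrix (Fin 3) (Fin 3) F) * X * (A : Matrix (Fin 3) (Fin 3) F)ᵀ := by
          ext r s
          simp [mulVec_mulVec, ← Units.val_mul]
        show _ * _ * _ = X
        rw [h1, ← Matrix.mul_assoc, ← Matrix.mul_assoc, ← Units.val_mul, inv_mul_cancel, Units.val_one, Matrix.one_mul,
          Matrix.mul_assoc, ← transpose_mul, ← Units.val_mul, inv_mul_cancel, Units.val_one, transpose_one,
          Matrix.mul_one]
      right_inv := fun x => by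
        show (P : Matrix ι ι F) *ᵥ _ = x
        rw [show (A : Matrix (Fin 3) (Fin 3) F) * ((((A⁻¹ : GL (Fin 3) F)) : Matrix (Fin 3) (Fin 3) F) *
            (Matrix.of fun r s => (((P⁻¹ : GL ι F) : Matrix ι ι F) *ᵥ x) (e.symm ![r, s])) *
            (((A⁻¹ : GL (Fin 3) F)) : Matrix (Fin 3) (Fin 3) F)ᵀ) * (A : Matrix (Fin 3) (Fin 3) F)ᵀ =
            Matrix.of fun r s => (((P⁻¹ : GL ι F) : Matrix ι ι F) *ᵥ x) (e.symm ![r, s]) by
          rw [← Matrix.mul_assoc, ← Matrix.mul_assoc, ← Units.val_mul, mul_inv_cancel, Units.val_one, Matrix.one_mul,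
            Matrix.mul_assoc, ← transpose_mul, ← Units.val_mul, mul_inv_cancel, Units.val_one, transpose_one,
            Matrix.mul_one]]
        rw [show ((fun a : Fin 2 → Fin 3 => (Matrix.of fun r s => (((P⁻¹ : GL ι F) : Matrix ι ι F) *ᵥ x)
            (e.symm ![r, s])) (a 0) (a 1)) ∘ e) = ((P⁻¹ : GL ι F) : Matrix ι ι F) *ᵥ x from funext fun i => by
          show (((P⁻¹ : GL ι F) : Matrix ι ι F) *ᵥ x) (e.symm ![e i 0, e i 1]) = _
          rw [show ![e i 0, e i 1] = e i from funext fun l => by fin_cases l <;> rfl, e.symm_apply_apply],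
          mulVec_mulVec, ← Units.val_mul, mul_inv_cancel, Units.val_one, one_mulVec] }
  have hΦ : ∀ u w, Φ (vecMulVec u w) = TensorPower.pure e P ![L u, L w] := fun u w => by
    show (P : Matrix ι ι F) *ᵥ _ = (P : Matrix ι ι F) *ᵥ _
    rw [mul_vecMulVec, vecMulVec_mul, vecMul_transpose, hA, hA]
    congr 1
    funext i
    simp [vecMulVec_apply, Fin.prod_univ_two]
  obtain ⟨κ, hκ, hQΦ⟩ : ∃ κ : F, κ ≠ 0 ∧ ∀ X, Q (Φ X) = κ * qq F X := by
    refine ⟨c * (μ * μ) * 2, mul_ne_zero (mul_ne_zero hc (mul_ne_zero hμ hμ)) h2, fun X => ?_⟩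
    have hp : ((polarBilin Q).compl₁₂ Φ.toLinearMap Φ.toLinearMap) = (c * (μ * μ) * 2) • polarBilin (qq F) := by
      refine ext_rows fun i w => ext_rows fun i' w' => ?_
      show polar Q (Φ (vecMulVec (ev i) w)) (Φ (vecMulVec (ev i') w')) = (c * (μ * μ) * 2) * polar (qq F) _ _
      rw [polar_pure, show polar Q (Φ (vecMulVec (ev i) w)) (Φ (vecMulVec (ev i') w')) =
        polar Qf (Φ (vecMulVec (ev i) w)) (Φ (vecMulVec (ev i') w')) by simp only [QuadraticMap.polar, hQf],
        hΦ, hΦ, hpolpure]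
      simp only [Matrix.cons_val_zero, Matrix.cons_val_one, hLp]
      ring
    have h1 := LinearMap.congr_fun₂ hp X X
    change polar Q (Φ X) (Φ X) = (c * (μ * μ) * 2) * polar (qq F) X X at h1
    rw [polar_self', polar_self'] at h1
    exact mul_left_cancel₀ h2 (by linear_combination h1)
  obtain ⟨D, hD⟩ : ∃ D : orthGroup (qq F) ≃* orthGroup Q, D = simCongrV hκ Φ hQΦ := ⟨_, rfl⟩
  have hv : ∀ g X, (orthToGL Q hQf (D g) : Matrix ι ι F) *ᵥ Φ X = Φ (g.1 X) := fun g X => by
    rw [← Matrix.toLin'_apply, toLin'_orthToGL, hD]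
    show Φ (g.1 (Φ.symm (Φ X))) = _
    rw [Φ.symm_apply_apply]
  have hcoe : ∀ (B : GL (Fin 3) F) x, (((A⁻¹ * B * A : GL (Fin 3) F)) : Matrix (Fin 3) (Fin 3) F) *ᵥ x =
      L.symm ((B : Matrix (Fin 3) (Fin 3) F) *ᵥ L x) := fun B x => L.injective (by
    rw [L.apply_symm_apply, ← hA, ← hA x, mulVec_mulVec, mulVec_mulVec, ← Units.val_mul, ← Units.val_mul]
    congr 2
    group)
  have hmem : ∀ g, orthToGL Q hQf (D g) ∈ Cfsg.Geo.tensorWreathSubgroup 3 2 e P ↔
      ∃ a b, g = tens h2 a b ∨ g = trp F * tens h2 a b := by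
    intro g
    constructor
    · intro hg
      obtain ⟨σ, gs, hact⟩ := tensorWreath_le_wreath e P hg
      have hgu : ∀ u w, Φ (g.1 (vecMulVec u w)) =
          TensorPower.pure e P fun l => (gs l : Matrix (Fin 3) (Fin 3) F) *ᵥ ![L u, L w] (σ l) := fun u w => by
        rw [← hv, hΦ, hact]
      have hσ : (σ 0 = 0 ∧ σ 1 = 1) ∨ (σ 0 = 1 ∧ σ 1 = 0) := by
        clear hgu hact; revert σ; decide
      rcases hσ with ⟨s0, s1⟩ | ⟨s0, s1⟩
      · have h : ∀ u w, g.1 (vecMulVec u w) = vecMulVec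
            ((((A⁻¹ * gs 0 * A : GL (Fin 3) F)) : Matrix (Fin 3) (Fin 3) F) *ᵥ u)
            ((((A⁻¹ * gs 1 * A : GL (Fin 3) F)) : Matrix (Fin 3) (Fin 3) F) *ᵥ w) := fun u w => Φ.injective (by
          rw [hgu, hΦ, hcoe, hcoe, L.apply_symm_apply, L.apply_symm_apply]
          congr 1
          funext l
          fin_cases l <;> simp [s0, s1])
        obtain ⟨a, b, hab⟩ := exists_tens_of_pure h2 h
        exact ⟨a, b, .inl hab⟩
      · have h : ∀ u w, (trp F * g).1 (vecMulVec u w) = vecMulVec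
            ((((A⁻¹ * gs 1 * A : GL (Fin 3) F)) : Matrix (Fin 3) (Fin 3) F) *ᵥ u)
            ((((A⁻¹ * gs 0 * A : GL (Fin 3) F)) : Matrix (Fin 3) (Fin 3) F) *ᵥ w) := fun u w => by
          show (g.1 (vecMulVec u w))ᵀ = _
          refine (congrArg Matrix.transpose ?_).trans (transpose_vecMulVec
            ((((A⁻¹ * gs 0 * A : GL (Fin 3) F)) : Matrix (Fin 3) (Fin 3) F) *ᵥ w)
            ((((A⁻¹ * gs 1 * A : GL (Fin 3) F)) : Matrix (Fin 3) (Fin 3) F) *ᵥ u))
          refine Φ.injective ?_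
          rw [hgu, hΦ, hcoe, hcoe, L.apply_symm_apply, L.apply_symm_apply]
          congr 1
          funext l
          fin_cases l <;> simp [s0, s1]
        obtain ⟨a, b, hab⟩ := exists_tens_of_pure h2 h
        exact ⟨a, b, .inr (by rw [← hab, ← mul_assoc, trp_mul_self, one_mul])⟩
    · rintro ⟨a, b, hab⟩
      have hgl : ∀ z : orthGroup (q3 F), ∃ B : GL (Fin 3) F, ∀ x,
          (B : Matrix (Fin 3) (Fin 3) F) *ᵥ L x = L (z.1 x) := fun z => by
        refine ⟨A * ⟨mat z, mat z⁻¹, mat_mul_inv z, mat_inv_mul z⟩ * A⁻¹, fun x => ?_⟩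
        rw [← hA, Units.val_mul, Units.val_mul, ← mat_mulVec z x, mulVec_mulVec, Matrix.mul_assoc _ _ (A : Matrix (Fin 3) (Fin 3) F),
          ← Units.val_mul A⁻¹, inv_mul_cancel, Units.val_one, Matrix.mul_one, ← hA, mulVec_mulVec]
      obtain ⟨Ba, hBa⟩ := hgl a
      obtain ⟨Bb, hBb⟩ := hgl b
      have hbasis : ∀ u : Fin 2 → Fin 3 → F, TensorPower.pure e P u = Φ (vecMulVec (L.symm (u 0)) (L.symm (u 1))) := fun u => by
        rw [hΦ, L.apply_symm_apply, L.apply_symm_apply]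
        congr 1
        funext l
        fin_cases l <;> rfl
      rcases hab with rfl | rfl
      · refine mem_wreath_of_acts e P (σ := 1) (gs := ![Ba, Bb]) fun u => ?_
        rw [hbasis u, hv, tens_pure, hΦ, ← hBa, ← hBb, L.apply_symm_apply, L.apply_symm_apply]
        congr 1
        funext l
        fin_cases l <;> rfl
      · refine mem_wreath_of_acts e P (σ := Equiv.swap 0 1) (gs := ![Bb, Ba]) fun u => ?_
        rw [hbasis u, hv]
        show Φ ((tens h2 a b).1 (vecMulVec _ _))ᵀ = _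
        rw [tens_pure, transpose_vecMulVec, hΦ, ← hBa, ← hBb, L.apply_symm_apply, L.apply_symm_apply]
        congr 1
        funext l
        fin_cases l <;> rfl
  have hcomm : ∀ g, D g ∈ commutator (orthGroup Q) ↔ g ∈ commutator (orthGroup (qq F)) := fun g => by
    have e1 : (commutator (orthGroup (qq F))).map D.toMonoidHom = commutator (orthGroup Q) := by
      rw [commutator_def, Subgroup.map_commutator, Subgroup.map_top_of_surjective _ D.surjective, commutator_def]
    rw [← e1]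
    exact Subgroup.mem_map_equiv.trans (by rw [D.symm_apply_apply])
  refine omega_isMaximalIn_inf Q hQf _ ?_ fun M hM g hgM hgc hgN => ?_
  · obtain ⟨g, hg, hgS⟩ := exists_not_mem (F := F) h2
    exact ⟨D g, (hcomm g).2 hg, fun hN => hgS ⟨hg, (hmem g).1 hN⟩⟩
  · obtain ⟨g', rfl⟩ := D.surjective g
    by_contra hnle
    have hsub : stabOmega F h2 ≤ M.comap D.toMonoidHom ⊓ commutator (orthGroup (qq F)) := fun k hk =>
      ⟨hM _ ((hcomm k).2 hk.1) ((hmem k).2 hk.2), hk.1⟩
    have hO : Over h2 (M.comap D.toMonoidHom ⊓ commutator (orthGroup (qq F))) :=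
      ⟨h5, hsub, inf_le_right, fun hall => hnle fun k hk => by
        obtain ⟨k', rfl⟩ := D.surjective k
        exact (hall ((hcomm k').1 hk)).1⟩
    exact hgN ((hmem g').2 (Over.le_stab h2 hO ⟨hgM, (hcomm g').1 hgc⟩).2)

end Coords

end CfsgLib.Classical.TensorSquare3
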