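import Cfsg.Agent.Lib.Orth.Spinor
import Cfsg.Agent.Lib.Orth.Bridge
import Cfsg.Agent.Lib.Orth.Standard

/-!
# The tensor square of a three-dimensional orthogonal space: the model

The space is that of `3 × 3` matrices with the sum of the squares of the entries.
-/

set_option autoImplicit false
set_option linter.unusedSectionVars false

namespace CfsgLib.Classical.TensorSquare3

open Matrix Module QuadraticMap CfsgLib.Orth

variable (F : Type*) [Field F]

/-- The sum of three squares. -/
def q3 : QuadraticForm F (Fin 3 → F) :=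
  LinearMap.BilinMap.toQuadraticMap (dotProductBilin F F)

/-- The bilinear form `(X, Y) ↦ tr (Xᵀ Y)`. -/
def bb : Matrix (Fin 3) (Fin 3) F →ₗ[F] Matrix (Fin 3) (Fin 3) F →ₗ[F] F :=
  LinearMap.mk₂ F (fun X Y => (Xᵀ * Y).trace)
    (fun X Y Z => by simp [Matrix.add_mul])
    (fun c X Y => by simp [Matrix.smul_mul])
    (fun X Y Z => by simp [Matrix.mul_add])
    (fun c X Y => by simp [Matrix.mul_smul])

/-- The sum of the squares of the entries. -/
def qq : QuadraticForm F (Matrix (Fin 3) (Fin 3) F) :=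
  LinearMap.BilinMap.toQuadraticMap (bb F)

variable {F}

theorem q3_apply (v : Fin 3 → F) : q3 F v = v ⬝ᵥ v := rfl

theorem q3_eq (v : Fin 3 → F) : q3 F v = v 0 * v 0 + v 1 * v 1 + v 2 * v 2 := by
  rw [q3_apply, dotProduct, Fin.sum_univ_three]

theorem polar_q3 (u v : Fin 3 → F) : polar (q3 F) u v = 2 * (u ⬝ᵥ v) := by
  rw [q3, LinearMap.BilinMap.polar_toQuadraticMap]
  show u ⬝ᵥ v + v ⬝ᵥ u = _
  rw [dotProduct_comm v u, two_mul]

theorem qq_apply (X : Matrix (Fin 3) (Fin 3) F) : qq F X = (Xᵀ * X).trace := rfl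

theorem polar_qq (X Y : Matrix (Fin 3) (Fin 3) F) : polar (qq F) X Y = 2 * (Xᵀ * Y).trace := by
  rw [qq, LinearMap.BilinMap.polar_toQuadraticMap]
  show (Xᵀ * Y).trace + (Yᵀ * X).trace = _
  rw [← Matrix.trace_transpose (Yᵀ * X), transpose_mul, transpose_transpose, two_mul]

theorem trace_vecMulVec_mul (u u' w w' : Fin 3 → F) :
    ((vecMulVec u w)ᵀ * vecMulVec u' w').trace = (u ⬝ᵥ u') * (w ⬝ᵥ w') := by
  rw [transpose_vecMulVec, vecMulVec_mul_vecMulVec, Matrix.trace, dotProduct, dotProduct, Finset.mul_sum]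
  refine Finset.sum_congr rfl fun i _ => ?_
  simp [Matrix.diag, vecMulVec_apply, dotProduct]
  ring

theorem qq_pure (u w : Fin 3 → F) : qq F (vecMulVec u w) = q3 F u * q3 F w := by
  rw [qq_apply, trace_vecMulVec_mul]
  rfl

theorem polar_pure (u u' w w' : Fin 3 → F) :
    polar (qq F) (vecMulVec u w) (vecMulVec u' w') = 2 * ((u ⬝ᵥ u') * (w ⬝ᵥ w')) := by
  rw [polar_qq, trace_vecMulVec_mul]

theorem nondeg3 (h2 : (2 : F) ≠ 0) : (polarBilin (q3 F)).Nondegenerate := by
  refine nondegenerate_of_left fun x hx => funext fun i => ?_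
  have h := hx (Pi.single i 1)
  rw [polar_q3, dotProduct_single, mul_one] at h
  exact (mul_eq_zero.1 h).resolve_left h2

theorem nondeg9 (h2 : (2 : F) ≠ 0) : (polarBilin (qq F)).Nondegenerate := by
  refine nondegenerate_of_left fun X hX => ?_
  ext i j
  have h := hX (Matrix.single i j 1)
  rw [polar_qq, mul_eq_zero] at h
  have e := h.resolve_left h2
  simpa [Matrix.trace_mul_single] using e

/-! ### Matrices of isometries -/

/-- The matrix of an isometry of the sum of three squares. -/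
def mat (a : orthGroup (q3 F)) : Matrix (Fin 3) (Fin 3) F :=
  LinearMap.toMatrix' (a.1 : (Fin 3 → F) →ₗ[F] (Fin 3 → F))

theorem mat_mulVec (a : orthGroup (q3 F)) (v : Fin 3 → F) : mat a *ᵥ v = a.1 v := by
  rw [mat, LinearMap.toMatrix'_mulVec]; rfl

theorem mat_mul (a b : orthGroup (q3 F)) : mat (a * b) = mat a * mat b := LinearMap.toMatrix'_comp _ _

theorem mat_one : mat (1 : orthGroup (q3 F)) = 1 := LinearMap.toMatrix'_id

theorem mat_injective : Function.Injective (mat (F := F)) := fun a b h =>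
  Subtype.ext (LinearEquiv.ext fun v => by rw [← mat_mulVec, h, mat_mulVec])

theorem mat_inv_mul (a : orthGroup (q3 F)) : mat a⁻¹ * mat a = 1 := by
  rw [← mat_mul, inv_mul_cancel, mat_one]

theorem mat_mul_inv (a : orthGroup (q3 F)) : mat a * mat a⁻¹ = 1 := by
  rw [← mat_mul, mul_inv_cancel, mat_one]

theorem mat_orth (h2 : (2 : F) ≠ 0) (a : orthGroup (q3 F)) : (mat a)ᵀ * mat a = 1 := by
  ext i j
  have h := polar_isom a (Pi.single i 1) (Pi.single j 1)
  rw [polar_q3, polar_q3, ← mat_mulVec, ← mat_mulVec, mulVec_single_one, mulVec_single_one] at h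
  rw [Matrix.mul_apply]
  refine (mul_left_cancel₀ h2 h).trans ?_
  rw [single_dotProduct, one_mul, Matrix.one_apply, Pi.single_apply]

theorem mat_orth' (h2 : (2 : F) ≠ 0) (a : orthGroup (q3 F)) : mat a * (mat a)ᵀ = 1 :=
  mul_eq_one_comm.1 (mat_orth h2 a)

theorem mat_inv (h2 : (2 : F) ≠ 0) (a : orthGroup (q3 F)) : mat a⁻¹ = (mat a)ᵀ := by
  calc mat a⁻¹ = (mat a)ᵀ * mat a * mat a⁻¹ := by rw [mat_orth h2, one_mul]
    _ = _ := by rw [Matrix.mul_assoc, mat_mul_inv, Matrix.mul_one]

/-- The isometry of an orthogonal matrix. -/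
def ofMat (A : Matrix (Fin 3) (Fin 3) F) (hA : Aᵀ * A = 1) : orthGroup (q3 F) :=
  ⟨{ toFun := fun v => A *ᵥ v
     invFun := fun v => Aᵀ *ᵥ v
     map_add' := fun u v => mulVec_add A u v
     map_smul' := fun c v => mulVec_smul A c v
     left_inv := fun v => by simp [mulVec_mulVec, hA]
     right_inv := fun v => by simp [mulVec_mulVec, mul_eq_one_comm.1 hA] },
   fun v => by
    show (A *ᵥ v) ⬝ᵥ (A *ᵥ v) = v ⬝ᵥ v
    rw [dotProduct_mulVec, vecMul_mulVec, hA, vecMul_one]⟩

theorem mat_ofMat (A : Matrix (Fin 3) (Fin 3) F) (hA : Aᵀ * A = 1) : mat (ofMat A hA) = A :=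
  Matrix.ext_of_mulVec_single fun i => by rw [mat_mulVec]; rfl

/-! ### The factors and the transposition -/

theorem qq_left {A : Matrix (Fin 3) (Fin 3) F} (hA : Aᵀ * A = 1) (X : Matrix (Fin 3) (Fin 3) F) :
    qq F (A * X) = qq F X := by
  rw [qq_apply, qq_apply, transpose_mul, Matrix.mul_assoc, ← Matrix.mul_assoc Aᵀ, hA, Matrix.one_mul]

theorem qq_transpose (X : Matrix (Fin 3) (Fin 3) F) : qq F Xᵀ = qq F X := by
  rw [qq_apply, qq_apply, transpose_transpose, Matrix.trace_mul_comm]

variable (h2 : (2 : F) ≠ 0)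

/-- The isometries acting on the first factor. -/
def lft : orthGroup (q3 F) →* orthGroup (qq F) where
  toFun a := ⟨{ toFun := fun X => mat a * X
                invFun := fun X => mat a⁻¹ * X
                map_add' := fun X Y => Matrix.mul_add _ X Y
                map_smul' := fun c X => Matrix.mul_smul _ c X
                left_inv := fun X => by simp [← Matrix.mul_assoc, mat_inv_mul]
                right_inv := fun X => by simp [← Matrix.mul_assoc, mat_mul_inv] },
              fun X => qq_left (mat_orth h2 a) X⟩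
  map_one' := Subtype.ext (LinearEquiv.ext fun X => by
    show mat 1 * X = X
    rw [mat_one, Matrix.one_mul])
  map_mul' a b := Subtype.ext (LinearEquiv.ext fun X => by
    show mat (a * b) * X = mat a * (mat b * X)
    rw [mat_mul, Matrix.mul_assoc])

variable (F)

/-- The transposition. -/
def trp : orthGroup (qq F) :=
  ⟨Matrix.transposeLinearEquiv (Fin 3) (Fin 3) F F, fun X => qq_transpose X⟩

variable {F}

theorem trp_apply (X : Matrix (Fin 3) (Fin 3) F) : (trp F).1 X = Xᵀ := rfl

theorem trp_mul_self : trp F * trp F = 1 :=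
  Subtype.ext (LinearEquiv.ext fun X => transpose_transpose X)

theorem trp_inv : (trp F)⁻¹ = trp F := inv_eq_of_mul_eq_one_left trp_mul_self

/-- The isometries acting on the second factor. -/
def rgt : orthGroup (q3 F) →* orthGroup (qq F) :=
  (MulAut.conj (trp F)).toMonoidHom.comp (lft h2)

theorem lft_apply (a : orthGroup (q3 F)) (X : Matrix (Fin 3) (Fin 3) F) : (lft h2 a).1 X = mat a * X := rfl

theorem rgt_apply (b : orthGroup (q3 F)) (X : Matrix (Fin 3) (Fin 3) F) : (rgt h2 b).1 X = X * (mat b)ᵀ := by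
  show (trp F).1 ((lft h2 b).1 ((trp F).1.symm X)) = _
  show (mat b * Xᵀ)ᵀ = _
  rw [transpose_mul, transpose_transpose]

/-- The tensor maps. -/
def tens (a b : orthGroup (q3 F)) : orthGroup (qq F) := lft h2 a * rgt h2 b

theorem tens_apply (a b : orthGroup (q3 F)) (X : Matrix (Fin 3) (Fin 3) F) :
    (tens h2 a b).1 X = mat a * X * (mat b)ᵀ := by
  show (lft h2 a).1 ((rgt h2 b).1 X) = _
  rw [rgt_apply, lft_apply, Matrix.mul_assoc]

theorem tens_pure (a b : orthGroup (q3 F)) (u w : Fin 3 → F) :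
    (tens h2 a b).1 (vecMulVec u w) = vecMulVec (a.1 u) (b.1 w) := by
  rw [tens_apply, mul_vecMulVec, vecMulVec_mul, vecMul_transpose, mat_mulVec, mat_mulVec]

theorem tens_one : tens h2 (1 : orthGroup (q3 F)) 1 = 1 := by rw [tens, map_one, map_one, mul_one]

theorem tens_mul (a b a' b' : orthGroup (q3 F)) :
    tens h2 a b * tens h2 a' b' = tens h2 (a * a') (b * b') := by
  refine Subtype.ext (LinearEquiv.ext fun X => ?_)
  show (tens h2 a b).1 ((tens h2 a' b').1 X) = _
  simp only [tens_apply, mat_mul, transpose_mul, Matrix.mul_assoc]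

theorem tens_inv (a b : orthGroup (q3 F)) : (tens h2 a b)⁻¹ = tens h2 a⁻¹ b⁻¹ := by
  refine inv_eq_of_mul_eq_one_right ?_
  rw [tens_mul, mul_inv_cancel, mul_inv_cancel, tens_one]

theorem tens_conj (a b a' b' : orthGroup (q3 F)) :
    tens h2 a b * tens h2 a' b' * (tens h2 a b)⁻¹ = tens h2 (a * a' * a⁻¹) (b * b' * b⁻¹) := by
  rw [tens_inv, tens_mul, tens_mul]

theorem trp_tens (a b : orthGroup (q3 F)) : trp F * tens h2 a b = tens h2 b a * trp F := by
  refine Subtype.ext (LinearEquiv.ext fun X => ?_)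
  show ((tens h2 a b).1 X)ᵀ = (tens h2 b a).1 Xᵀ
  simp only [tens_apply, transpose_mul, transpose_transpose, Matrix.mul_assoc]

end CfsgLib.Classical.TensorSquare3
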