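import Cfsg.Agent.Lib.Classical.TensorSquare3.Axis
import Cfsg.Agent.Lib.Classical.LowRank.Three
import Cfsg.Agent.Lib.Classical.OrthPOmega
import Cfsg.Agent.Lib.Classical.OrthCount
import Cfsg.Agent.Lib.Classical.SLBasic
import Cfsg.Agent.Lib.Orth.Isometry

/-!
# The simple group `Ω₃`, the elements permuting the frame
-/

set_option autoImplicit false
set_option linter.unusedSectionVars false

namespace CfsgLib.Classical.TensorSquare3

open Matrix Module QuadraticMap CfsgLib.Orth

variable {F : Type*} [Field F] [Fintype F]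

/-- A three-dimensional form is similar to the sum of three squares. -/
theorem exists_similar3 (h2 : (2 : F) ≠ 0) {W : Type*} [AddCommGroup W] [Module F W] [FiniteDimensional F W]
    {Q : QuadraticForm F W} (hQ : (polarBilin Q).Nondegenerate) (hW : finrank F W = 3) :
    ∃ (μ : F) (L : (Fin 3 → F) ≃ₗ[F] W), μ ≠ 0 ∧ ∀ x, Q (L x) = μ * q3 F x := by
  obtain ⟨δ, e, hδ, he⟩ := exists_diag h2 hQ (k := 2) hW
  obtain ⟨a, ha, hab⟩ : ∃ a b : F, a * a + b * b = δ := by
    obtain ⟨y, z, hyz⟩ := FiniteField.exists_root_sum_quadratic (R := F)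
      (f := Polynomial.X ^ 2 - Polynomial.C δ) (g := Polynomial.X ^ 2)
      (Polynomial.degree_X_pow_sub_C (by norm_num) δ) (Polynomial.degree_X_pow 2)
      (FiniteField.odd_card_of_char_ne_two fun e => h2 (by
        haveI := ringChar.of_eq e; exact CharTwo.two_eq_zero))
    simp only [Polynomial.eval_sub, Polynomial.eval_C, Polynomial.eval_pow, Polynomial.eval_X] at hyz
    exact ⟨y, z, by linear_combination hyz⟩
  let S : (Fin 3 → F) →ₗ[F] (Fin 3 → F) :=
    { toFun := fun x => ![a * x 0 - ha * x 1, ha * x 0 + a * x 1, x 2]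
      map_add' := fun x y => by ext i; fin_cases i <;> simp <;> ring
      map_smul' := fun c x => by ext i; fin_cases i <;> simp <;> ring }
  have hS : ∀ x, Q (e (S x)) = δ * q3 F x := fun x => by
    rw [he, diagForm_apply, q3_eq]
    simp [S, Fin.sum_univ_two, Fin.last]
    linear_combination (x 0 * x 0 + x 1 * x 1) * hab
  have hinj : Function.Injective S := (injective_iff_map_eq_zero _).2 fun x hx => by
    refine eq_zero_of_polar (nondeg3 h2) fun y => ?_
    have h : δ * polar (q3 F) x y = 0 := by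
      simp only [QuadraticMap.polar, mul_sub, ← hS, map_add, hx]
      simp
    exact (mul_eq_zero.1 h).resolve_left hδ
  exact ⟨δ, (LinearEquiv.ofInjectiveEndo S hinj).trans e, hδ, hS⟩

/-- Similar forms have isomorphic groups. -/
def simCongr {W : Type*} [AddCommGroup W] [Module F W] {Q : QuadraticForm F W} {μ : F} (hμ : μ ≠ 0)
    (L : (Fin 3 → F) ≃ₗ[F] W) (hL : ∀ x, Q (L x) = μ * q3 F x) : orthGroup (q3 F) ≃* orthGroup Q where
  toFun g := ⟨(L.symm.trans g.1).trans L, fun w => by
    show Q (L (g.1 (L.symm w))) = Q w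
    rw [hL, apply_quad, ← hL, L.apply_symm_apply]⟩
  invFun g := ⟨(L.trans g.1).trans L.symm, fun x => mul_left_cancel₀ hμ (by
    show μ * q3 F (L.symm (g.1 (L x))) = μ * q3 F x
    rw [← hL, L.apply_symm_apply, apply_quad, hL])⟩
  left_inv g := Subtype.ext (LinearEquiv.ext fun v => by simp)
  right_inv g := Subtype.ext (LinearEquiv.ext fun v => by simp)
  map_mul' g h := Subtype.ext (LinearEquiv.ext fun v => by simp)

/-- A cyclic permutation of the frame. -/
noncomputable def cyc : orthGroup (q3 F) := ax (ev 0 - ev 1) * ax (ev 1 - ev 2)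

/-- An element exchanging the last two vectors of the frame up to sign. -/
noncomputable def rho : orthGroup (q3 F) := ax (ev 1 - ev 2)

variable (h2 : (2 : F) ≠ 0)

include h2 in
theorem q3_ev_sub {i j : Fin 3} (h : i ≠ j) : q3 F (ev i - ev j) = 2 := by
  fin_cases i <;> fin_cases j <;> first | exact absurd rfl h | (simp [q3_eq]; norm_num)

theorem ax_ev_sub {i j : Fin 3} (h : i ≠ j) (h2 : (2 : F) ≠ 0) (x : Fin 3 → F) :
    (ax (ev i - ev j) : orthGroup (q3 F)).1 x = (x i - x j) • (ev i - ev j) - x := by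
  rw [ax_apply, q3_ev_sub h2 h, ← mul_assoc, inv_mul_cancel₀ h2, one_mul, sub_dotProduct, single_dotProduct,
    single_dotProduct, one_mul, one_mul]

include h2 in
theorem cyc_ev (i : Fin 3) : (cyc (F := F)).1 (ev i) = ev (i + 1) := by
  rw [cyc, apply_mul, ax_ev_sub (by decide) h2, ax_ev_sub (by decide) h2]
  ext j
  fin_cases i <;> fin_cases j <;> simp

include h2 in
theorem rho_ev : (rho (F := F)).1 (ev 0) = -ev 0 ∧ (rho (F := F)).1 (ev 1) = -ev 2 ∧
    (rho (F := F)).1 (ev 2) = -ev 1 := by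
  refine ⟨?_, ?_, ?_⟩ <;> rw [rho, ax_ev_sub (by decide) h2] <;> ext j <;> fin_cases j <;> simp

include h2 in
theorem cyc_facts : dt (cyc (F := F)) = 1 ∧ ls (cyc (F := F)) = 1 := by
  have h01 : q3 F (ev 0 - ev 1) ≠ 0 := by rw [q3_ev_sub h2 (by decide)]; exact h2
  have h12 : q3 F (ev 1 - ev 2) ≠ 0 := by rw [q3_ev_sub h2 (by decide)]; exact h2
  refine ⟨by rw [cyc, map_mul, dt_ax h01, dt_ax h12, one_mul], ?_⟩
  rw [cyc, map_mul]
  rcases Int.units_eq_one_or (ls (ax (ev 0 - ev 1 : Fin 3 → F))) with e | e <;>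
    rcases Int.units_eq_one_or (ls (ax (ev 1 - ev 2 : Fin 3 → F))) with e' | e' <;> rw [e, e'] <;>
    first
      | rfl
      | (exfalso
         have hh : ls (ax (ev 0 - ev 1 : Fin 3 → F)) = 1 ↔ ls (ax (ev 1 - ev 2 : Fin 3 → F)) = 1 := by
           rw [ls_ax h2 h01, ls_ax h2 h12, q3_ev_sub h2 (by decide), q3_ev_sub h2 (by decide)]
         rw [e, e'] at hh
         revert hh; decide)

include h2 in
theorem cyc_mem3 : cyc (F := F) ∈ commutator (orthGroup (q3 F)) := (mem_omega3 h2 _).2 (cyc_facts h2)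

include h2 in
theorem dd_mem3 (i : Fin 3) : (dd i : orthGroup (q3 F)) ∈ commutator (orthGroup (q3 F)) :=
  (mem_omega3 h2 _).2 ⟨dt_dd i, ls_dd h2 i⟩

include h2 in
theorem dd_injective : Function.Injective (fun i => (dd i : orthGroup (q3 F))) := by
  intro i j h
  by_contra hne
  have h1 : (dd i : orthGroup (q3 F)).1 (ev i) = (dd j : orthGroup (q3 F)).1 (ev i) := by rw [show (dd i : orthGroup (q3 F)) = dd j from h]
  rw [dd_apply, dd_apply] at h1
  have h3 := congrFun h1 i
  simp [hne] at h3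
  exact neg_one_ne_one h2 h3.symm

include h2 in
/-- Only the scalars centralise `Ω₃`. -/
theorem eq_scalar_of_comm {a : orthGroup (q3 F)} (h : ∀ z ∈ commutator (orthGroup (q3 F)), a * z = z * a) :
    a = 1 ∨ a = negO := by
  have key : ∀ b : orthGroup (q3 F), dt b = 1 → (∀ z ∈ commutator (orthGroup (q3 F)), b * z = z * b) → b = 1 := by
    intro b hb hc
    have hq : ∀ i : Fin 3, q3 F (ev i) ≠ 0 := fun i => by rw [q3_single]; exact one_ne_zero
    have hw : cr (ev 0) (ev 1) = (ev 2 : Fin 3 → F) := by ext j; fin_cases j <;> simp [cr]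
    have hno : ∀ i, b ≠ dd i := fun i e => by
      have h1 := hc cyc (cyc_mem3 h2)
      rw [e] at h1
      have h3 : ax ((cyc (F := F)).1 (ev i)) = (dd i : orthGroup (q3 F)) := by
        rw [← ax_conj]
        show cyc * dd i * cyc⁻¹ = _
        rw [← h1, mul_inv_cancel_right]
      rw [cyc_ev h2] at h3
      have h4 : i + 1 = i := dd_injective h2 h3
      revert h4
      fin_cases i <;> decide
    rcases cases_of_comm_two h2 (hq 0) (hq 1) (by simp) hb (hc _ (dd_mem3 h2 0)) (hc _ (dd_mem3 h2 1)) with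
      e | e | e | e
    · exact e
    · exact absurd e (hno 0)
    · exact absurd e (hno 1)
    · rw [hw] at e; exact absurd e (hno 2)
  rcases dt_cases h2 a with hd | hd
  · exact .inl (key a hd h)
  · refine .inr ?_
    have h1 := key (negO * a) (by rw [map_mul, dt_negO, hd]; ring) fun z hz => by
      rw [mul_assoc, h z hz, ← mul_assoc, negO_comm, mul_assoc]
    calc a = negO * (negO * a) := by rw [← mul_assoc, negO_mul_self, one_mul]
      _ = negO := by rw [h1, mul_one]

include h2 in
/-- `Ω₃` is simple. -/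
theorem simple_omega3 (h5 : 5 ≤ Fintype.card F) : IsSimpleGroup ↥(commutator (orthGroup (q3 F))) := by
  classical
  obtain ⟨μ, L, hμ, hL⟩ := exists_similar3 h2 (oddForm_nondeg 1 h2) (by simp)
  have hz : Subgroup.center ↥(commutator (orthGroup (q3 F))) = ⊥ := by
    refine (Subgroup.eq_bot_iff_forall _).2 fun x hx => Subtype.ext ?_
    rcases eq_scalar_of_comm h2 (a := x.1) (fun z hz => (congrArg Subtype.val
      (Subgroup.mem_center_iff.1 hx ⟨z, hz⟩)).symm) with e | e
    · exact e
    · exact absurd (((mem_omega3 h2 _).1 x.2).1) (by rw [e, dt_negO]; exact neg_one_ne_one h2)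
  let φ := simCongr hμ L hL
  have hmap : (commutator (orthGroup (q3 F))).map φ.toMonoidHom = commutator (orthGroup (oddForm F 1)) := by
    rw [commutator_def, Subgroup.map_commutator, Subgroup.map_top_of_surjective _ φ.surjective, commutator_def]
  let ψ : ↥(commutator (orthGroup (q3 F))) ≃* ↥(Cfsg.Omega F (Cfsg.quadFormOdd 1 F)) :=
    ((φ.subgroupMap (commutator (orthGroup (q3 F)))).trans (MulEquiv.subgroupCongr hmap)).trans
      (omegaEquiv (oddForm F 1) (oddForm_apply 1)).symm
  have hz' : Subgroup.center ↥(Cfsg.Omega F (Cfsg.quadFormOdd 1 F)) = ⊥ := by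
    refine (Subgroup.eq_bot_iff_forall _).2 fun x hx => ?_
    have h1 : ψ.symm x ∈ Subgroup.center ↥(commutator (orthGroup (q3 F))) :=
      Subgroup.mem_center_iff.2 fun g => ψ.injective (by
        rw [map_mul, map_mul, ψ.apply_symm_apply]
        exact Subgroup.mem_center_iff.1 hx (ψ g))
    rw [hz, Subgroup.mem_bot] at h1
    rw [← ψ.apply_symm_apply x, h1, map_one]
  haveI : IsSimpleGroup (ProjectiveSpecialLinearGroup (Fin 2) F) :=
    psl_fin_isSimpleGroup le_rfl fun _ => by omega
  obtain ⟨η⟩ := LowRank.pomega_three (F := F) h2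
  let ζ : ↥(Cfsg.Omega F (Cfsg.quadFormOdd 1 F)) ≃* Cfsg.POmega F (Cfsg.quadFormOdd 1 F) :=
    (QuotientGroup.quotientBot).symm.trans (QuotientGroup.quotientMulEquivOfEq hz'.symm)
  exact (ψ.trans (ζ.trans η)).isSimpleGroup

include h2 in
/-- A non-trivial normal subgroup of `Ω₃` is `Ω₃`. -/
theorem normal_eq_omega3 (h5 : 5 ≤ Fintype.card F) {L : Subgroup (orthGroup (q3 F))}
    (hle : L ≤ commutator (orthGroup (q3 F))) (hn : ∀ z ∈ commutator (orthGroup (q3 F)), ∀ y ∈ L, z * y * z⁻¹ ∈ L)
    {y : orthGroup (q3 F)} (hy : y ∈ L) (hy1 : y ≠ 1) : L = commutator (orthGroup (q3 F)) := by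
  haveI := simple_omega3 h2 h5
  haveI : (L.subgroupOf (commutator (orthGroup (q3 F)))).Normal :=
    ⟨fun x hx g => hn g.1 g.2 x.1 hx⟩
  rcases IsSimpleGroup.eq_bot_or_eq_top_of_normal (L.subgroupOf (commutator (orthGroup (q3 F)))) inferInstance with h | h
  · exact absurd (congrArg Subtype.val ((Subgroup.eq_bot_iff_forall _).1 h ⟨y, hle hy⟩ hy)) hy1
  · exact le_antisymm hle (Subgroup.subgroupOf_eq_top.1 h)

end CfsgLib.Classical.TensorSquare3
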