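import Cfsg.Agent.Lib.Classical.TensorSquare3.Omega3
import Cfsg.Agent.Lib.Classical.OrthDecompMax.Main
import Cfsg.Agent.Lib.Classical.TensorMaxO.Basic

/-!
# Overgroups and the decomposition into rows

An overgroup of the stabiliser that is proper has no further element permuting the rows.
-/

set_option autoImplicit false
set_option linter.unusedSectionVars false

namespace CfsgLib.Classical.TensorSquare3

open Matrix Module QuadraticMap CfsgLib.Orth CfsgLib.Classical
open CfsgLib.Classical.OrthDecompMax (MemberDecomp Setting Pair)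

variable {F : Type*} [Field F] [Fintype F]

/-- A proper overgroup of the stabiliser. -/
structure Over (h2 : (2 : F) ≠ 0) (M : Subgroup (orthGroup (qq F))) : Prop where
  five : 5 ≤ Fintype.card F
  le : stabOmega F h2 ≤ M
  sub : M ≤ commutator (orthGroup (qq F))
  proper : ¬ commutator (orthGroup (qq F)) ≤ M

theorem ev_self (i : Fin 3) : (ev i : Fin 3 → F) i = 1 := Pi.single_eq_same i 1

theorem ev_ne {i j : Fin 3} (h : j ≠ i) : (ev i : Fin 3 → F) j = 0 := Pi.single_eq_of_ne h 1

theorem qq_eq_sum (X : Matrix (Fin 3) (Fin 3) F) : qq F X = ∑ i, q3 F (X i) := by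
  rw [qq_apply, Matrix.trace, Fin.sum_univ_three, Fin.sum_univ_three]
  simp [Matrix.mul_apply, q3_eq, Fin.sum_univ_three]
  ring

/-- Isometries acting on the rows one by one. -/
def tri : (Fin 3 → orthGroup (q3 F)) →* orthGroup (qq F) where
  toFun s := ⟨{ toFun := fun X => Matrix.of fun i => (s i).1 (X i)
                invFun := fun X => Matrix.of fun i => (s i).1.symm (X i)
                map_add' := fun X Y => funext fun i => map_add (s i).1 (X i) (Y i)
                map_smul' := fun c X => funext fun i => map_smul (s i).1 c (X i)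
                left_inv := fun X => funext fun i => (s i).1.symm_apply_apply (X i)
                right_inv := fun X => funext fun i => (s i).1.apply_symm_apply (X i) },
              fun X => by
                rw [qq_eq_sum, qq_eq_sum]
                exact Finset.sum_congr rfl fun i _ => apply_quad (s i) (X i)⟩
  map_one' := rfl
  map_mul' _ _ := rfl

theorem tri_apply (s : Fin 3 → orthGroup (q3 F)) (X : Matrix (Fin 3) (Fin 3) F) (i : Fin 3) :
    (tri s).1 X i = (s i).1 (X i) := rfl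

/-- An isometry of one row. -/
noncomputable def rowE (i : Fin 3) : orthGroup (q3 F) →* orthGroup (qq F) :=
  tri.comp (MonoidHom.mulSingle (fun _ : Fin 3 => orthGroup (q3 F)) i)

theorem rowE_self (i : Fin 3) (y : orthGroup (q3 F)) (X : Matrix (Fin 3) (Fin 3) F) :
    (rowE i y).1 X i = y.1 (X i) := by
  rw [show rowE i y = tri (Pi.mulSingle i y) from rfl, tri_apply, Pi.mulSingle_eq_same]

theorem rowE_other {i j : Fin 3} (h : j ≠ i) (y : orthGroup (q3 F)) (X : Matrix (Fin 3) (Fin 3) F) :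
    (rowE i y).1 X j = X j := by
  rw [show rowE i y = tri (Pi.mulSingle i y) from rfl, tri_apply, Pi.mulSingle_eq_of_ne h]
  rfl

/-- An isometry of one column. -/
noncomputable def colE (i : Fin 3) : orthGroup (q3 F) →* orthGroup (qq F) :=
  (MulAut.conj (trp F)).toMonoidHom.comp (rowE i)

theorem colE_apply (i : Fin 3) (y : orthGroup (q3 F)) (X : Matrix (Fin 3) (Fin 3) F) :
    (colE i y).1 X = ((rowE i y).1 Xᵀ)ᵀ := rfl

variable (F) in
/-- The row spaces. -/
def row (i : Fin 3) : Submodule F (Matrix (Fin 3) (Fin 3) F) where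
  carrier := {X | ∀ j, j ≠ i → X j = 0}
  add_mem' := fun {X Y} hX hY j hj => by
    show X j + Y j = 0
    rw [hX j hj, hY j hj, add_zero]
  zero_mem' := fun j _ => rfl
  smul_mem' := fun c X hX j hj => by
    show c • X j = 0
    rw [hX j hj, smul_zero]

theorem pure_mem_row (i : Fin 3) (w : Fin 3 → F) : vecMulVec (ev i) w ∈ row F i := fun j hj => by
  ext k; simp [vecMulVec_apply, hj]

theorem pure_row_self (i : Fin 3) (w : Fin 3 → F) : vecMulVec (ev i) w i = w := by
  ext k; simp [vecMulVec_apply]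

theorem eq_pure_of_mem {i : Fin 3} {X : Matrix (Fin 3) (Fin 3) F} (h : X ∈ row F i) : X = vecMulVec (ev i) (X i) := by
  ext j k
  rcases eq_or_ne j i with rfl | hj
  · rw [pure_row_self]
  · rw [h j hj]; simp [vecMulVec_apply, hj]

theorem ext_rows {V : Type*} [AddCommGroup V] [Module F V] {φ ψ : Matrix (Fin 3) (Fin 3) F →ₗ[F] V}
    (h : ∀ i w, φ (vecMulVec (ev i) w) = ψ (vecMulVec (ev i) w)) : φ = ψ := by
  refine LinearMap.ext fun X => ?_
  have hX : X = ∑ i, vecMulVec (ev i) (X i) := by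
    ext i j
    rw [Matrix.sum_apply, Fin.sum_univ_three]
    fin_cases i <;> simp [vecMulVec_apply]
  rw [hX, map_sum, map_sum]
  exact Finset.sum_congr rfl fun i _ => h _ _

theorem orth_ext_rows {g k : orthGroup (qq F)}
    (h : ∀ i w, g.1 (vecMulVec (ev i) w) = k.1 (vecMulVec (ev i) w)) : g = k :=
  Subtype.ext (LinearEquiv.toLinearMap_injective (ext_rows h))

variable (h2 : (2 : F) ≠ 0)

include h2 in
theorem rows_decomp : MemberDecomp (QuadraticMap.polarBilin (qq F)) (row F) 3 := by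
  refine ⟨fun i => nondegOn_iff.2 fun X hX hX' => ?_, fun i j hij X hX Y hY => ?_, ?_, fun i => ?_⟩
  · have h : X i = 0 := eq_zero_of_polar (nondeg3 h2) fun w => by
      have h1 := hX' (vecMulVec (ev i) w) (pure_mem_row i w)
      rw [QuadraticMap.polarBilin_apply_apply, polar_comm, eq_pure_of_mem hX, polar_pure, dotProduct_single, mul_one, ev_self, one_mul] at h1
      rw [polar_q3]
      exact h1
    rw [eq_pure_of_mem hX, h]
    ext; simp [vecMulVec_apply]
  · rw [QuadraticMap.polarBilin_apply_apply, eq_pure_of_mem hX, eq_pure_of_mem hY, polar_pure, dotProduct_single,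
      mul_one, ev_ne hij.symm, zero_mul, mul_zero]
  · refine Submodule.eq_top_iff'.2 fun X => ?_
    have hX : X = ∑ i, vecMulVec (ev i) (X i) := by
      ext i j
      rw [Matrix.sum_apply, Fin.sum_univ_three]
      fin_cases i <;> simp [vecMulVec_apply]
    rw [hX]
    exact Submodule.sum_mem _ fun i _ => Submodule.mem_iSup_of_mem i (pure_mem_row i _)
  · let e : (Fin 3 → F) ≃ₗ[F] row F i :=
      { toFun := fun w => ⟨vecMulVec (ev i) w, pure_mem_row i w⟩
        invFun := fun X => X.1 i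
        map_add' := fun v w => Subtype.ext (vecMulVec_add _ v w)
        map_smul' := fun c w => Subtype.ext (vecMulVec_smul c _ w)
        left_inv := fun w => pure_row_self i w
        right_inv := fun X => Subtype.ext (eq_pure_of_mem X.2).symm }
    rw [← e.finrank_eq, finrank_fin_fun]

theorem comp_eq (hd : MemberDecomp (QuadraticMap.polarBilin (qq F)) (row F) 3) (i : Fin 3)
    (X : Matrix (Fin 3) (Fin 3) F) : hd.comp i X = vecMulVec (ev i) (X i) := by
  refine LinearMap.congr_fun (ext_rows (φ := hd.comp i)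
    (ψ := (vecMulVecBilin F F (ev i)) ∘ₗ LinearMap.proj i) fun j w => ?_) X
  show hd.comp i (vecMulVec (ev j) w) = vecMulVec (ev i) (vecMulVec (ev j) w i)
  rcases eq_or_ne i j with rfl | hij
  · rw [hd.comp_self (pure_mem_row i w), pure_row_self]
  · rw [hd.comp_other hij (pure_mem_row j w), pure_mem_row j w i hij]
    ext; simp [vecMulVec_apply]

/-- A tensor map preserving the frame permutes the rows. -/
theorem tens_row {a : orthGroup (q3 F)} {i j : Fin 3} {s : F} (ha : a.1 (ev i) = s • ev j)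
    {X : Matrix (Fin 3) (Fin 3) F} (hX : X ∈ row F i) (b : orthGroup (q3 F)) :
    (tens h2 a b).1 X ∈ row F j := by
  rw [eq_pure_of_mem hX, tens_pure, ha, smul_vecMulVec]
  exact (row F j).smul_mem _ (pure_mem_row j _)

include h2 in
theorem cyc_inv_ev (i : Fin 3) : ((cyc (F := F))⁻¹).1 (ev i) = ev (i - 1) :=
  apply_inv_of (by rw [cyc_ev h2, sub_add_cancel])

/-- The tensor map of `cyc` shifts the entries of `tri`. -/
theorem cyc_conj_tri (s : Fin 3 → orthGroup (q3 F)) :
    tens h2 cyc 1 * tri s * (tens h2 cyc 1)⁻¹ = tri fun i => s (i - 1) := by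
  refine orth_ext_rows fun i w => ?_
  show (tens h2 cyc 1).1 ((tri s).1 ((tens h2 cyc 1)⁻¹.1 (vecMulVec (ev i) w))) = _
  rw [tens_inv, tens_pure, cyc_inv_ev h2, inv_one]
  have key : ∀ (t : Fin 3 → orthGroup (q3 F)) j (x : Fin 3 → F),
      (tri t).1 (vecMulVec (ev j) x) = vecMulVec (ev j) ((t j).1 x) := fun t j x => funext fun k => by
    rw [tri_apply]
    rcases eq_or_ne k j with rfl | hk
    · rw [pure_row_self, pure_row_self]
    · rw [pure_mem_row j _ k hk, pure_mem_row j _ k hk, map_zero]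
  rw [key, tens_pure, cyc_ev h2, sub_add_cancel, key]
  rfl

theorem cyc_conj_rowE (i : Fin 3) (y : orthGroup (q3 F)) :
    tens h2 cyc 1 * rowE i y * (tens h2 cyc 1)⁻¹ = rowE (i + 1) y := by
  rw [show rowE i y = tri (Pi.mulSingle i y) from rfl, cyc_conj_tri]
  show tri _ = tri (Pi.mulSingle (i + 1) y)
  congr 1
  funext j
  simp only [Pi.mulSingle_apply, sub_eq_iff_eq_add]

variable {M : Subgroup (orthGroup (qq F))} (hM : Over h2 M)
include hM

theorem Over.cyc_mem : tens h2 (cyc (F := F)) 1 ∈ M :=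
  hM.le (tens_pure_mem h2 (cyc_facts h2).1 (map_one _) (by rw [(cyc_facts h2).2, map_one]))

theorem Over.omega3_mem {z : orthGroup (q3 F)} (hz : z ∈ commutator (orthGroup (q3 F))) : tens h2 1 z ∈ M := by
  obtain ⟨hd, hs⟩ := (mem_omega3 h2 z).1 hz
  exact hM.le (tens_pure_mem h2 (map_one _) hd (by rw [map_one, hs]))

theorem Over.siegel_row {i : Fin 3} {C : orthGroup (q3 F)} {a b : Fin 3 → F}
    (hC : IsSiegel C a b) : IsSiegel (rowE i C) (vecMulVec (ev i) a) (vecMulVec (ev i) b) := by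
  have hp : ∀ (x : Fin 3 → F) (X : Matrix (Fin 3) (Fin 3) F),
      polar (qq F) (vecMulVec (ev i) x) X = polar (q3 F) x (X i) := fun x X => by
    rw [polar_qq, polar_q3, transpose_vecMulVec, Matrix.vecMulVec_mul, Matrix.trace_vecMulVec, single_vecMul]
    simp [Matrix.row]
  refine ⟨by rw [qq_pure, q3_single, one_mul, hC.1], by rw [hp, pure_row_self, hC.2.1], fun X => funext fun j => ?_⟩
  rw [hp, hp, qq_pure, q3_single, one_mul]
  show (rowE i C).1 X j = X j + (_ : F) • vecMulVec (ev i) b j + (_ : F) • vecMulVec (ev i) a j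
  rcases eq_or_ne j i with rfl | hj
  · rw [rowE_self, pure_row_self, pure_row_self, hC.2.2]
  · rw [rowE_other hj, pure_mem_row i _ j hj, pure_mem_row i _ j hj, smul_zero, smul_zero, add_zero, add_zero]

/-- Not all of the row groups lie in `M`. -/
theorem Over.not_all_rows (hall : ∀ y ∈ commutator (orthGroup (q3 F)), rowE 0 y ∈ M) : False := by
  classical
  have hsieg : ∀ {C : orthGroup (q3 F)} {a b : Fin 3 → F}, IsSiegel C a b → C ∈ commutator (orthGroup (q3 F)) :=
    fun hC => TensorMaxO.siegel_mem_commutator (nondeg3 h2) h2 hC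
  have hrows : ∀ i, ∀ y ∈ commutator (orthGroup (q3 F)), rowE i y ∈ M := by
    have step : ∀ i, (∀ y ∈ commutator (orthGroup (q3 F)), rowE i y ∈ M) →
        ∀ y ∈ commutator (orthGroup (q3 F)), rowE (i + 1) y ∈ M := fun i hi y hy => by
      rw [← cyc_conj_rowE h2]
      exact mul_mem (mul_mem (Over.cyc_mem h2 hM) (hi y hy)) (inv_mem (Over.cyc_mem h2 hM))
    intro i
    fin_cases i
    · exact hall
    · exact step 0 hall
    · exact step 1 (step 0 hall)
  -- the first column
  have hswap : ∃ σ ∈ M, ∀ y, σ * rowE 0 y * σ⁻¹ = colE (0 : Fin 3) y := by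
    refine ⟨trp F * tens h2 (negO * rho) 1, hM.le ⟨(mem_omega h2 _).2 ⟨?_, ?_⟩, _, _, .inr rfl⟩, fun y => ?_⟩
    · rw [map_mul, dt_trp h2, dt_tens, map_one, mul_one, map_mul, dt_negO,
        show dt (rho (F := F)) = 1 from dt_ax (by rw [q3_ev_sub h2 (by decide)]; exact h2)]
      ring
    · classical
      have h12 : q3 F (ev 1 - ev 2) ≠ 0 := by rw [q3_ev_sub h2 (by decide)]; exact h2
      rw [map_mul, ls_tens, map_one, mul_one, trp_refl h2, map_mul, map_mul, rho, ax, ← mul_assoc negO, negO_mul_self,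
        one_mul, levelSign_refl (q3 F) h2 one_ne_zero h12, q3_ev_sub h2 (by decide)]
      have ha : ∀ {i j : Fin 3}, i ≠ j → ls (refl (qq F) (anti i j)) = if IsSquare ((1 : F) * 2) then -1 else 1 :=
        fun hij => by rw [levelSign_refl (qq F) h2 one_ne_zero (by rw [qq_anti h2 hij]; exact h2)]; simp only [qq_anti h2 hij]
      rw [ha (by decide), ha (by decide), ha (by decide)]
      split_ifs <;> decide
    · have e : tens h2 (negO * rho) 1 * rowE 0 y * (tens h2 (negO * rho) 1)⁻¹ = rowE 0 y := by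
        rw [mul_inv_eq_iff_eq_mul]
        obtain ⟨r0, r1, r2⟩ := rho_ev (F := F) h2
        refine orth_ext_rows fun i w => ?_
        show (tens h2 (negO * rho) 1).1 ((rowE 0 y).1 _) = (rowE 0 y).1 ((tens h2 (negO * rho) 1).1 _)
        have k0 : ∀ x, (rowE (0 : Fin 3) y).1 (vecMulVec (ev 0) x) = vecMulVec (ev 0) (y.1 x) := fun x => funext fun j => by
          rcases eq_or_ne j 0 with rfl | hj
          · rw [rowE_self, pure_row_self, pure_row_self]
          · rw [rowE_other hj, pure_mem_row 0 _ j hj, pure_mem_row 0 _ j hj]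
        have k1 : ∀ j x, j ≠ 0 → (rowE (0 : Fin 3) y).1 (vecMulVec (ev j) x) = vecMulVec (ev j) x := fun j x hj =>
          funext fun k => by
            rcases eq_or_ne k 0 with rfl | hk
            · rw [rowE_self, pure_mem_row j _ 0 hj.symm, map_zero]
            · rw [rowE_other hk]
        have n0 : (negO * rho : orthGroup (q3 F)).1 (ev 0) = ev 0 := by rw [apply_mul, r0, negO_apply, neg_neg]
        have n1 : (negO * rho : orthGroup (q3 F)).1 (ev 1) = ev 2 := by rw [apply_mul, r1, negO_apply, neg_neg]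
        have n2 : (negO * rho : orthGroup (q3 F)).1 (ev 2) = ev 1 := by rw [apply_mul, r2, negO_apply, neg_neg]
        fin_cases i
        · show _ = (rowE 0 y).1 ((tens h2 (negO * rho) 1).1 (vecMulVec (ev 0) w))
          rw [show (rowE (0:Fin 3) y).1 (vecMulVec (ev ((fun i => i) ⟨0, by decide⟩)) w) = vecMulVec (ev 0) (y.1 w) from k0 w,
            tens_pure, tens_pure, n0, k0]
          rfl
        · show (tens h2 (negO * rho) 1).1 ((rowE 0 y).1 (vecMulVec (ev 1) w)) =
            (rowE 0 y).1 ((tens h2 (negO * rho) 1).1 (vecMulVec (ev 1) w))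
          rw [k1 1 _ (by decide), tens_pure, n1, k1 2 _ (by decide)]
        · show (tens h2 (negO * rho) 1).1 ((rowE 0 y).1 (vecMulVec (ev 2) w)) =
            (rowE 0 y).1 ((tens h2 (negO * rho) 1).1 (vecMulVec (ev 2) w))
          rw [k1 2 _ (by decide), tens_pure, n2, k1 1 _ (by decide)]
      rw [_root_.mul_inv_rev, mul_assoc (trp F), ← mul_assoc, mul_assoc (trp F), e]
      rfl
  obtain ⟨σ, hσ, hσy⟩ := hswap
  have hcol0 : ∀ y ∈ commutator (orthGroup (q3 F)), colE (0 : Fin 3) y ∈ M := fun y hy => by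
    rw [← hσy]; exact mul_mem (mul_mem hσ (hall y hy)) (inv_mem hσ)
  have hcyc2 : tens h2 (1 : orthGroup (q3 F)) cyc ∈ M := Over.omega3_mem h2 hM (cyc_mem3 h2)
  have hcol1 : ∀ y ∈ commutator (orthGroup (q3 F)), colE (1 : Fin 3) y ∈ M := fun y hy => by
    have e : tens h2 1 cyc * colE (0 : Fin 3) y * (tens h2 1 cyc)⁻¹ = colE (1 : Fin 3) y := by
      show _ * (trp F * rowE 0 y * (trp F)⁻¹) * _ = trp F * rowE 1 y * (trp F)⁻¹
      have e0 := cyc_conj_rowE h2 (0 : Fin 3) y
      rw [zero_add] at e0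
      rw [← e0, trp_inv]
      have : tens h2 1 cyc * trp F = trp F * tens h2 cyc 1 := (trp_tens h2 _ _).symm
      have h4 : trp F * (tens h2 1 cyc)⁻¹ = (tens h2 cyc 1)⁻¹ * trp F := by
        rw [tens_inv, tens_inv, trp_tens]
      rw [← mul_assoc, ← mul_assoc, this]
      simp only [mul_assoc]
      rw [h4]
    rw [← e]; exact mul_mem (mul_mem hcyc2 (hcol0 y hy)) (inv_mem hcyc2)
  have hd := rows_decomp (F := F) h2
  have h : Setting (qq F) (row F) 3 M := by
    refine ⟨h2, nondeg9 h2, hd, .inl ⟨rfl, hM.five⟩, le_rfl, fun i d hdR u huR g hg => ?_, fun i j l hij hjl hil => ?_⟩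
    · have h1 := hg.1
      have h3 := hg.2.1
      rw [eq_pure_of_mem hdR, qq_pure, q3_single, one_mul] at h1
      rw [eq_pure_of_mem hdR, eq_pure_of_mem huR, polar_pure, dotProduct_single, mul_one, ev_self,
        one_mul, ← polar_q3] at h3
      obtain ⟨C, hC⟩ := exists_isSiegel (nondeg3 h2) h1 h3
      have h4 := Over.siegel_row h2 hM (i := i) hC
      rw [← eq_pure_of_mem hdR, ← eq_pure_of_mem huR] at h4
      rw [hg.unique h4]
      exact hrows i C (hsieg hC)
    · have hcase : (j = i + 1 ∧ l = j + 1 ∧ i = l + 1) ∨ (j = i - 1 ∧ l = j - 1 ∧ i = l - 1) := by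
        revert hij hjl hil; revert i j l; decide
      have hno : ∀ m, m ≠ i → m ≠ j → m ≠ l → False := fun m h1 h2 h3 => by
        revert hij hjl hil h1 h2 h3; revert i j l m; decide
      rcases hcase with ⟨e1, e2, e3⟩ | ⟨e1, e2, e3⟩
      · refine ⟨_, Over.cyc_mem h2 hM, fun x hx => ?_, fun x hx => ?_, fun x hx => ?_, fun m h1 h2 h3 => (hno m h1 h2 h3).elim⟩
        · exact tens_row h2 (s := 1) (by rw [cyc_ev h2, one_smul, e1]) hx 1
        · exact tens_row h2 (s := 1) (by rw [cyc_ev h2, one_smul, e2]) hx 1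
        · exact tens_row h2 (s := 1) (by rw [cyc_ev h2, one_smul, ← e3]) hx 1
      · refine ⟨_, inv_mem (Over.cyc_mem h2 hM), fun x hx => ?_, fun x hx => ?_, fun x hx => ?_,
          fun m h1 h2 h3 => (hno m h1 h2 h3).elim⟩ <;> rw [tens_inv]
        · exact tens_row h2 (s := 1) (by rw [cyc_inv_ev h2, one_smul, e1]) hx 1⁻¹
        · exact tens_row h2 (s := 1) (by rw [cyc_inv_ev h2, one_smul, e2]) hx 1⁻¹
        · exact tens_row h2 (s := 1) (by rw [cyc_inv_ev h2, one_smul, ← e3]) hx 1⁻¹
  -- a pair in the first column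
  have hpair : ∀ {a b : Fin 3 → F}, q3 F a = 0 → a ⬝ᵥ b = 0 →
      Pair M (vecMulVec a (ev 0)) (vecMulVec b (ev 0)) := by
    intro a b ha hab
    refine ⟨by rw [qq_pure, ha, zero_mul], by rw [polar_pure, hab, zero_mul, mul_zero], fun c g hg => ?_⟩
    obtain ⟨C, hC⟩ := exists_isSiegel (nondeg3 h2) ha (show polar (q3 F) a (c • b) = 0 by
      rw [polar_q3, dotProduct_smul, hab, smul_zero, mul_zero])
    have h4 := (Over.siegel_row h2 hM (i := 0) hC).conj (trp F)
    rw [trp_apply, trp_apply, transpose_vecMulVec, transpose_vecMulVec] at h4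
    rw [show c • vecMulVec b (ev (0 : Fin 3)) = vecMulVec (c • b) (ev 0) from (smul_vecMulVec _ _ _).symm] at hg
    rw [hg.unique h4]
    exact hcol0 C (hsieg hC)
  suffices ∃ i j, i ≠ j ∧ OrthDecompMax.Rel (row F) M i j by
    obtain ⟨i, j, hij, hR⟩ := this
    exact hM.proper (h.omega_le (by simp [Module.finrank_matrix]) hij hR)
  by_cases hm1 : IsSquare (-1 : F)
  · obtain ⟨ι, hι⟩ := hm1
    have hp := hpair (a := ![0, 1, ι]) (b := ev 0) (by simp [q3_eq]; linear_combination -hι) (by simp)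
    refine ⟨0, 1, by decide, h.rel_of_off hp (fun e => ?_) (pure_mem_row _ _) (by decide) ?_ fun e => ?_⟩
    · have := congrFun (congrFun e 0) 0
      simp [vecMulVec_apply] at this
    · rw [comp_eq]; ext; simp [vecMulVec_apply]
    · rw [comp_eq] at e
      have := congrFun (congrFun e 1) 0
      simp [vecMulVec_apply] at this
  obtain ⟨a, ha0, ha⟩ := CfsgLib.Orth.exists_singular (nondeg3 h2) (by rw [finrank_fin_fun])
  have hnz : ∀ i, a i ≠ 0 := by
    have key : ∀ x y z : F, x * x + y * y + z * z = 0 → x = 0 → y = 0 ∧ z = 0 := by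
      intro x y z e hx
      subst hx
      by_cases hz : z = 0
      · subst hz; exact ⟨by simpa using e, rfl⟩
      · exact absurd ⟨y / z, by field_simp; linear_combination -e⟩ hm1
    rw [q3_eq] at ha
    intro i hi
    refine ha0 (funext fun j => ?_)
    fin_cases i
    · obtain ⟨e1, e2⟩ := key _ _ _ ha hi
      fin_cases j
      exacts [hi, e1, e2]
    · obtain ⟨e1, e2⟩ := key (a 1) (a 0) (a 2) (by linear_combination ha) hi
      fin_cases j
      exacts [e1, hi, e2]
    · obtain ⟨e1, e2⟩ := key (a 2) (a 0) (a 1) (by linear_combination ha) hi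
      fin_cases j
      exacts [e1, e2, hi]
  set b : Fin 3 → F := ![0, a 2, -a 1] with hb
  have hp := hpair (a := a) (b := b) ha (by simp [hb, dotProduct, Fin.sum_univ_three]; ring)
  obtain ⟨v, hv0, hv1, hv2, hqv, hsq⟩ : ∃ v : Fin 3 → F, v 0 ≠ 0 ∧ v 1 ≠ 0 ∧ v 2 ≠ 0 ∧ q3 F v ≠ 0 ∧
      IsSquare (q3 F v) := by
    by_cases h3 : (3 : F) = 0
    · obtain ⟨r, hr0, hr1, hr2⟩ := OrthDecompMax.pick_two hM.five 1 (-1)
      have hr4 : r * r + 1 ≠ 0 := fun e => hm1 ⟨r, by linear_combination -e⟩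
      have hr3 : r * r - 1 ≠ 0 := fun e => by
        rcases mul_self_eq_one_iff.1 (sub_eq_zero.1 e) with e' | e' <;> contradiction
      have hq : q3 F ![1, 1, (r * r + 1) / (2 * r)] = ((r * r - 1) / (2 * r)) * ((r * r - 1) / (2 * r)) := by
        simp [q3_eq]; field_simp; linear_combination (4 * r * r) * h3
      refine ⟨_, one_ne_zero, one_ne_zero, ?_, ?_, by rw [hq]; exact ⟨_, rfl⟩⟩
      · simpa using And.intro hr4 (mul_ne_zero h2 hr0)
      · rw [hq]; exact mul_ne_zero (div_ne_zero hr3 (mul_ne_zero h2 hr0)) (div_ne_zero hr3 (mul_ne_zero h2 hr0))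
    · have hq : q3 F ![2, 1, 2] = 3 * 3 := by simp [q3_eq]; norm_num
      exact ⟨_, h2, one_ne_zero, h2, by rw [hq]; exact mul_ne_zero h3 h3, by rw [hq]; exact ⟨_, rfl⟩⟩
  have hZ : (ax v : orthGroup (q3 F)) ∈ commutator (orthGroup (q3 F)) :=
    (mem_omega3 h2 _).2 ⟨dt_ax hqv, (ls_ax h2 hqv).2 hsq⟩
  set z := (ax v).1 (ev 0) with hz
  have hze : ∀ j, j ≠ 0 → z j ≠ 0 := fun j hj => by
    rw [hz, ax_apply, dotProduct_single, mul_one]
    fin_cases j
    · exact absurd rfl hj
    · simp [hqv, h2, hv0, hv1]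
    · simp [hqv, h2, hv0, hv2]
  have hp' := (hp.map (hrows 0 _ hZ)).map (hcol1 _ (cyc_mem3 h2))
  set d := (colE 1 cyc).1 ((rowE 0 (ax v)).1 (vecMulVec a (ev 0))) with hdd
  set u := (colE 1 cyc).1 ((rowE 0 (ax v)).1 (vecMulVec b (ev 0))) with huu
  set Y := (rowE 0 (ax v)).1 (vecMulVec a (ev 0)) with hY
  have hd1 : ∀ i, d i = ![Y i 0, (cyc (F := F)).1 (fun k => Y k 1) i, Y i 2] := fun i => by
    rw [hdd, colE_apply]
    ext j
    fin_cases j
    · exact congrFun (rowE_other (i := 1) (j := 0) (by decide) cyc Yᵀ) i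
    · exact congrFun (rowE_self 1 cyc Yᵀ) i
    · exact congrFun (rowE_other (i := 1) (j := 2) (by decide) cyc Yᵀ) i
  have hY0 : Y 0 = a 0 • z := by
    rw [hY, rowE_self, hz, ← map_smul]
    congr 1
  have hY' : ∀ i, i ≠ 0 → Y i = a i • ev 0 := fun i hi => by
    rw [hY, rowE_other hi]; rfl
  have hcol : (fun k => Y k 1) = (a 0 * z 1) • ev 0 := funext fun k => by
    rcases eq_or_ne k 0 with rfl | hk
    · rw [hY0]; simp
    · rw [hY' k hk]; simp [hk]
  have hu : u = vecMulVec b (ev 0) := by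
    have h1 : (rowE 0 (ax v)).1 (vecMulVec b (ev 0)) = vecMulVec b (ev 0) := funext fun k => by
      rcases eq_or_ne k 0 with rfl | hk
      · rw [rowE_self]
        have : vecMulVec b (ev (0 : Fin 3)) 0 = 0 := by ext; simp [vecMulVec_apply, hb]
        rw [this, map_zero]
      · rw [rowE_other hk]
    rw [huu, h1, colE_apply, transpose_vecMulVec]
    refine (congrArg Matrix.transpose (funext fun k => ?_)).trans (transpose_vecMulVec _ _)
    rcases eq_or_ne k 1 with rfl | hk
    · rw [rowE_self]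
      have : vecMulVec (ev (0 : Fin 3)) b 1 = 0 := by ext; simp [vecMulVec_apply]
      rw [this, map_zero]
    · rw [rowE_other hk]
  have hd0 : ∀ i, d i ≠ 0 := fun i e => by
    fin_cases i
    · have h1 := congrFun ((hd1 0).symm.trans e) 2
      simp [hY0] at h1
      exact h1.elim (hnz 0) (hze 2 (by decide))
    · have h1 := congrFun ((hd1 1).symm.trans e) 0
      simp [hY' 1] at h1
      exact hnz 1 h1
    · have h1 := congrFun ((hd1 2).symm.trans e) 0
      simp [hY' 2] at h1
      exact hnz 2 h1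
  have hnd : h.dec.comp 1 u ∉ F ∙ h.dec.comp 1 d := by
    intro hmem
    obtain ⟨t, ht⟩ := Submodule.mem_span_singleton.1 hmem
    rw [comp_eq, comp_eq, hd1, hu] at ht
    have e0 := congrFun (congrFun ht 1) 0
    have e1 := congrFun (congrFun ht 1) 1
    simp [vecMulVec_apply, hcol, hb, map_smul, cyc_ev h2, hY' 1] at e0 e1
    rcases e1 with e1 | e1 | e1
    · rw [e1, zero_mul] at e0; exact hnz 2 e0.symm
    · exact hnz 0 e1
    · exact hze 1 (by decide) e1
  have hne : ∀ i, h.dec.comp i d ≠ 0 := fun i e => hd0 i (by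
    rw [comp_eq] at e
    have := congrFun e i
    rwa [pure_row_self] at this)
  obtain ⟨κ, hloc⟩ := h.exists_local
  obtain ⟨s, hs, hs1, hs2⟩ := (hloc 1 _ (h.dec.comp_mem 1 d) (hne 1)).2 _ (h.dec.comp_mem 1 u) hnd
  obtain ⟨ed, -⟩ := h.act_diff hs d
  obtain ⟨eu, hmem⟩ := h.act_diff hs u
  have h3 := hp'.map hs.1
  rw [sub_eq_iff_eq_add.1 ed, hs1, sub_self, zero_add] at h3
  have h4 := h.sub h3 hp'
  rw [eu] at h4
  exact h.rel_of_two h4 (sub_ne_zero.2 hs2) hmem (by decide : (0 : Fin 3) ≠ 1) (by decide : (2 : Fin 3) ≠ 1) (hne 0)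
    (hloc 0 _ (h.dec.comp_mem 0 d) (hne 0)).1 (.inl ⟨by decide, (hloc 2 _ (h.dec.comp_mem 2 d) (hne 2)).1⟩)

/-- An element of `M` fixing every row lies in the stabiliser. -/
theorem Over.mem_of_fix_rows {g : orthGroup (qq F)} (hg : g ∈ M)
    (hrow : ∀ i w, g.1 (vecMulVec (ev i) w) ∈ row F i) : g ∈ stabOmega F h2 := by
  classical
  have hex : ∀ i, ∃ y : orthGroup (q3 F), ∀ w, y.1 w = g.1 (vecMulVec (ev i) w) i := fun i =>
    exists_of_preserving (nondeg3 h2)
      (LinearMap.proj i ∘ₗ g.1.toLinearMap ∘ₗ vecMulVecBilin F F (ev i)) fun w => by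
        show q3 F (g.1 (vecMulVec (ev i) w) i) = q3 F w
        have h1 := apply_quad g (vecMulVec (ev i) w)
        rw [qq_pure, q3_single, one_mul] at h1
        rw [← h1]
        conv_rhs => rw [eq_pure_of_mem (hrow i w), qq_pure, q3_single, one_mul]
  choose s hs using hex
  have hgs : g = tri s := orth_ext_rows fun i w => funext fun j => by
    rw [tri_apply]
    rcases eq_or_ne j i with rfl | hj
    · rw [pure_row_self, hs]
    · rw [hrow i w j hj, pure_mem_row i _ j hj, map_zero]
  subst hgs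
  have hconst : ∀ z : orthGroup (q3 F), tens h2 1 z = tri fun _ => z := fun z =>
    orth_ext_rows fun i w => funext fun j => by
      rw [tens_pure, tri_apply, show (1 : orthGroup (q3 F)).1 (ev i) = ev i from rfl]
      rcases eq_or_ne j i with rfl | hj
      · rw [pure_row_self, pure_row_self]
      · rw [pure_mem_row i _ j hj, pure_mem_row i _ j hj, map_zero]
  have hnormal : (commutator (orthGroup (q3 F))).Normal := inferInstance
  by_cases hall : ∀ y ∈ commutator (orthGroup (q3 F)), ∀ i, s i * y * (s i)⁻¹ = s 2 * y * (s 2)⁻¹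
  · have hε : ∀ i, (s 2)⁻¹ * s i = 1 ∨ (s 2)⁻¹ * s i = negO := fun i =>
      eq_scalar_of_comm h2 fun y hy => by
        have h1 := hall y hy i
        calc (s 2)⁻¹ * s i * y = (s 2)⁻¹ * (s i * y * (s i)⁻¹) * s i := by group
          _ = y * ((s 2)⁻¹ * s i) := by rw [h1]; group
    let ε : Fin 3 → F := fun i => if (s 2)⁻¹ * s i = 1 then 1 else -1
    have hA : (Matrix.diagonal ε)ᵀ * Matrix.diagonal ε = 1 := by
      rw [diagonal_transpose, diagonal_mul_diagonal, ← diagonal_one]
      congr 1; funext i; simp only [ε]; split_ifs <;> simp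
    refine ⟨hM.sub hg, ofMat _ hA, s 2, .inl (orth_ext_rows fun i w => funext fun j => ?_)⟩
    have he : (ofMat _ hA).1 (ev i) = ε i • (ev i : Fin 3 → F) := by
      show Matrix.diagonal ε *ᵥ ev i = _
      ext k
      rcases eq_or_ne k i with rfl | hk
      · simp [mulVec_diagonal]
      · simp [mulVec_diagonal, hk]
    rw [tens_pure, he, smul_vecMulVec, tri_apply]
    show _ = ε i • vecMulVec (ev i) _ j
    rcases eq_or_ne j i with rfl | hj
    · rw [pure_row_self, pure_row_self]
      rcases hε j with e | e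
      · simp only [ε, if_pos e, one_smul]
        rw [inv_mul_eq_one.1 e]
      · have hne : ¬ ((s 2)⁻¹ * s j = 1) := by
          rw [e]; intro h
          exact neg_one_ne_one h2 (by rw [← dt_negO (F := F), h, map_one])
        simp only [ε, if_neg hne, neg_one_smul]
        rw [eq_mul_of_inv_mul_eq e, ← negO_comm, apply_mul, negO_apply]
    · rw [pure_mem_row i _ j hj, map_zero, pure_mem_row i _ j hj, smul_zero]
  exfalso
  push Not at hall
  obtain ⟨y, hy, i₀, hne⟩ := hall
  obtain ⟨t, ht, ht2, hti, i₁, ht1⟩ : ∃ t : Fin 3 → orthGroup (q3 F), tri t ∈ M ∧ t 2 = 1 ∧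
      (∀ i, t i ∈ commutator (orthGroup (q3 F))) ∧ ∃ i, t i ≠ 1 := by
    refine ⟨fun i => s i * y * (s i)⁻¹ * (s 2 * y * (s 2)⁻¹)⁻¹, ?_, by simp, fun i =>
      mul_mem (hnormal.conj_mem _ hy _) (inv_mem (hnormal.conj_mem _ hy _)), i₀, fun e => hne (mul_inv_eq_one.1 e)⟩
    have h1 : tri (fun i => s i * y * (s i)⁻¹ * (s 2 * y * (s 2)⁻¹)⁻¹) =
        tri s * tens h2 1 y * (tri s)⁻¹ * (tens h2 1 (s 2 * y * (s 2)⁻¹))⁻¹ := by
      rw [hconst, hconst, ← map_mul, ← map_inv, ← map_mul, ← map_inv, ← map_mul]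
      rfl
    rw [h1]
    exact mul_mem (mul_mem (mul_mem hg (Over.omega3_mem h2 hM hy)) (inv_mem hg))
      (inv_mem (Over.omega3_mem h2 hM (hnormal.conj_mem _ hy _)))
  set L : Subgroup (orthGroup (q3 F)) := M.comap (rowE 0) ⊓ commutator (orthGroup (q3 F)) with hL
  have hLn : ∀ z ∈ commutator (orthGroup (q3 F)), ∀ x ∈ L, z * x * z⁻¹ ∈ L := by
    intro z hz x hx
    refine ⟨?_, hnormal.conj_mem _ hx.2 _⟩
    show rowE 0 (z * x * z⁻¹) ∈ M
    have e : rowE 0 (z * x * z⁻¹) = tens h2 1 z * rowE 0 x * (tens h2 1 z)⁻¹ := by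
      rw [hconst, show rowE 0 x = tri (Pi.mulSingle 0 x) from rfl, ← map_inv, ← map_mul, ← map_mul]
      show tri (Pi.mulSingle 0 (z * x * z⁻¹)) = _
      congr 1
      funext i
      rcases eq_or_ne i 0 with rfl | hi
      · simp
      · simp [Pi.mulSingle_eq_of_ne hi]
    rw [e]
    exact mul_mem (mul_mem (Over.omega3_mem h2 hM hz) hx.1) (inv_mem (Over.omega3_mem h2 hM hz))
  have hgot : ∀ x ∈ L, x ≠ 1 → False := fun x hx hx1 => Over.not_all_rows h2 hM fun y hy =>
    ((normal_eq_omega3 h2 hM.five inf_le_right hLn hx hx1).ge hy).1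
  have hshift : ∀ (r : Fin 3 → orthGroup (q3 F)) (k : Fin 3), tri r ∈ M → (∀ i, i ≠ k → r i = 1) →
      r k ∈ commutator (orthGroup (q3 F)) → r k ≠ 1 → False := by
    intro r k hr hrk hrc hr1
    have e : r = Pi.mulSingle k (r k) := funext fun i => by
      rcases eq_or_ne i k with rfl | hi
      · simp
      · rw [Pi.mulSingle_eq_of_ne hi, hrk i hi]
    rw [e] at hr
    have st : ∀ i, rowE i (r k) ∈ M → rowE (i + 1) (r k) ∈ M := fun i hi => by
      rw [← cyc_conj_rowE h2]
      exact mul_mem (mul_mem (Over.cyc_mem h2 hM) hi) (inv_mem (Over.cyc_mem h2 hM))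
    refine hgot (r k) ⟨?_, hrc⟩ hr1
    show rowE 0 (r k) ∈ M
    revert hr
    generalize hy : r k = y at st ⊢
    intro hr
    fin_cases k
    · exact hr
    · exact st 2 (st 1 hr)
    · exact st 2 hr
  by_cases e0 : t 0 = 1
  · refine hshift t 1 ht (fun i hi => ?_) (hti 1) fun e1 => ht1 ?_
    · fin_cases i
      · exact e0
      · exact absurd rfl hi
      · exact ht2
    · fin_cases i₁
      · exact e0
      · exact e1
      · exact ht2
  by_cases e1 : t 1 = 1
  · refine hshift t 0 ht (fun i hi => ?_) (hti 0) e0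
    fin_cases i
    · exact absurd rfl hi
    · exact e1
    · exact ht2
  -- both entries: a commutator with a shifted conjugate
  obtain ⟨z, hz, hcomm⟩ : ∃ z ∈ commutator (orthGroup (q3 F)),
      t 1 * (z * t 0 * z⁻¹) * (t 1)⁻¹ * (z * t 0 * z⁻¹)⁻¹ ≠ 1 := by
    by_contra! hc
    haveI := simple_omega3 h2 hM.five
    let S : Subgroup (orthGroup (q3 F)) := Subgroup.centralizer {t 1} ⊓ commutator (orthGroup (q3 F))
    let K : Subgroup (orthGroup (q3 F)) :=
      Subgroup.closure {x | ∃ z ∈ commutator (orthGroup (q3 F)), x = z * t 0 * z⁻¹}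
    have hKS : K ≤ S := by
      rw [Subgroup.closure_le]
      rintro _ ⟨z, hz, rfl⟩
      refine ⟨?_, hnormal.conj_mem _ (hti 0) _⟩
      refine Subgroup.mem_centralizer_singleton_iff.2 ?_
      have h1 := hc z hz
      rw [mul_inv_eq_one, mul_inv_eq_iff_eq_mul] at h1
      exact h1.symm
    have hKeq : K = commutator (orthGroup (q3 F)) := by
      refine normal_eq_omega3 h2 hM.five (hKS.trans inf_le_right) (fun w hw x hx => ?_)
        (Subgroup.subset_closure ⟨1, one_mem _, (by simp : t 0 = 1 * t 0 * 1⁻¹)⟩) e0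
      have hmap : K.map (MulAut.conj w).toMonoidHom ≤ K := by
        rw [MonoidHom.map_closure]
        refine Subgroup.closure_mono ?_
        rintro _ ⟨_, ⟨z, hz, rfl⟩, rfl⟩
        refine ⟨w * z, mul_mem hw hz, ?_⟩
        simp [MulAut.conj_apply, mul_assoc]
      exact hmap ⟨x, hx, rfl⟩
    refine e1 ((eq_scalar_of_comm h2 fun x hx => ?_).resolve_right fun e => ?_)
    · exact (Subgroup.mem_centralizer_singleton_iff.1 (hKS (hKeq.ge hx)).1).symm
    · exact neg_one_ne_one h2 (by rw [← dt_negO (F := F), ← e]; exact ((mem_omega3 h2 _).1 (hti 1)).1)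
  let t' : Fin 3 → orthGroup (q3 F) := fun i => z * t (i - 1) * z⁻¹
  have ht' : tri t' ∈ M := by
    have e : tri t' = tens h2 1 z * (tens h2 cyc 1 * tri t * (tens h2 cyc 1)⁻¹) * (tens h2 1 z)⁻¹ := by
      rw [cyc_conj_tri, hconst, ← map_inv, ← map_mul, ← map_mul]
      rfl
    rw [e]
    exact mul_mem (mul_mem (Over.omega3_mem h2 hM hz) (mul_mem (mul_mem (Over.cyc_mem h2 hM) ht)
      (inv_mem (Over.cyc_mem h2 hM)))) (inv_mem (Over.omega3_mem h2 hM hz))
  refine hshift (fun i => t i * t' i * (t i)⁻¹ * (t' i)⁻¹) 1 ?_ (fun i hi => ?_) ?_ hcomm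
  · rw [show (fun i => t i * t' i * (t i)⁻¹ * (t' i)⁻¹) = t * t' * t⁻¹ * t'⁻¹ from rfl, map_mul, map_mul, map_mul,
      map_inv, map_inv]
    exact mul_mem (mul_mem (mul_mem ht ht') (inv_mem ht)) (inv_mem ht')
  · fin_cases i
    · show t 0 * (z * t 2 * z⁻¹) * (t 0)⁻¹ * (z * t 2 * z⁻¹)⁻¹ = 1
      simp [ht2]
    · exact absurd rfl hi
    · show t 2 * (z * t 1 * z⁻¹) * (t 2)⁻¹ * (z * t 1 * z⁻¹)⁻¹ = 1
      simp [ht2]
  · exact mul_mem (mul_mem (mul_mem (hti 1) (hnormal.conj_mem _ (hti 0) _)) (inv_mem (hti 1)))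
      (inv_mem (hnormal.conj_mem _ (hti 0) _))

/-- An element of `M` permuting the rows lies in the stabiliser. -/
theorem Over.mem_of_perm_rows {g : orthGroup (qq F)} (hg : g ∈ M)
    (hrow : ∀ i, ∃ j, ∀ w, g.1 (vecMulVec (ev i) w) ∈ row F j) : g ∈ stabOmega F h2 := by
  choose σ hσ using hrow
  have hinj : Function.Injective σ := fun i j e => by
    by_contra hne
    have hd := rows_decomp (F := F) h2
    have hp : ∀ k, (row F k).map (g.1 : _ →ₗ[F] Matrix (Fin 3) (Fin 3) F) = row F (σ k) := fun k =>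
      OrthDecompMax.map_eq_of hd fun x hx => by rw [eq_pure_of_mem hx]; exact hσ k _
    have h1 : row F i = row F j :=
      Submodule.map_injective_of_injective g.1.injective (by rw [hp, hp, e])
    have h3 : vecMulVec (ev i) (ev (0 : Fin 3)) ∈ row F j := h1 ▸ pure_mem_row i _
    have h4 := congrFun (h3 i hne) 0
    simp [vecMulVec_apply] at h4
  obtain ⟨h, hh, p, hp, hpσ⟩ : ∃ h ∈ stabOmega F h2, ∃ p : orthGroup (q3 F), (∃ q, h = tens h2 p q) ∧
      ∀ i, ∃ s : F, p.1 (ev (σ i)) = s • ev i := by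
    obtain ⟨r0, r1, r2⟩ := rho_ev (F := F) h2
    have hc := cyc_facts (F := F) h2
    have hρ : dt (rho (F := F)) = 1 := dt_ax (by rw [q3_ev_sub h2 (by decide)]; exact h2)
    have cy1 : tens h2 (cyc (F := F)) 1 ∈ stabOmega F h2 := tens_pure_mem h2 hc.1 (map_one _) (by rw [hc.2, map_one])
    have rr : tens h2 (rho (F := F)) rho ∈ stabOmega F h2 := tens_pure_mem h2 hρ hρ rfl
    have pw : ∀ n : ℕ, ∀ i : Fin 3, ((cyc (F := F)) ^ n).1 (ev i) = ev (i + Fin.ofNat 3 n) := by
      intro n
      induction n with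
      | zero => intro i; simp
      | succ n ih =>
        intro i
        rw [pow_succ', apply_mul, ih, cyc_ev h2]
        congr 1
        ext
        simp [Fin.val_add, Fin.ofNat]
        omega
    have tp : ∀ n : ℕ, tens h2 ((cyc (F := F)) ^ n) (1 : orthGroup (q3 F)) ∈ stabOmega F h2 := fun n => by
      induction n with
      | zero => rw [pow_zero, tens_one]; exact one_mem _
      | succ n ih => rw [pow_succ, show (1 : orthGroup (q3 F)) = 1 * 1 from (one_mul 1).symm, ← tens_mul]
                     exact mul_mem ih cy1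
    set n := (3 - (σ 0).val)
    have hn0 : σ 0 + Fin.ofNat 3 n = 0 := by simp only [n]; generalize σ 0 = x; fin_cases x <;> rfl
    by_cases h1 : σ 1 + Fin.ofNat 3 n = 1
    · refine ⟨_, tp n, _, ⟨_, rfl⟩, fun i => ⟨1, ?_⟩⟩
      rw [pw, one_smul]
      congr 1
      have h2' : σ 2 + Fin.ofNat 3 n = 2 := by
        have a := hinj.ne (show (2 : Fin 3) ≠ 0 by decide)
        have b := hinj.ne (show (2 : Fin 3) ≠ 1 by decide)
        revert hn0 h1 a b; generalize σ 0 = x; generalize σ 1 = y; generalize σ 2 = w; generalize Fin.ofNat 3 n = m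
        revert x y w m; decide
      fin_cases i
      · exact hn0
      · exact h1
      · exact h2'
    · have hv : σ 1 + Fin.ofNat 3 n = 2 ∧ σ 2 + Fin.ofNat 3 n = 1 := by
        have a := hinj.ne (show (2 : Fin 3) ≠ 0 by decide)
        have b := hinj.ne (show (2 : Fin 3) ≠ 1 by decide)
        have c := hinj.ne (show (1 : Fin 3) ≠ 0 by decide)
        revert hn0 h1 a b c; generalize σ 0 = x; generalize σ 1 = y; generalize σ 2 = w; generalize Fin.ofNat 3 n = m
        revert x y w m; decide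
      refine ⟨_, mul_mem rr (tp n), _, ⟨_, tens_mul h2 _ _ _ _⟩, fun i => ⟨-1, ?_⟩⟩
      rw [apply_mul, pw, neg_one_smul]
      fin_cases i
      · show (rho (F := F)).1 (ev (σ 0 + Fin.ofNat 3 n)) = -ev 0
        rw [hn0, r0]
      · show (rho (F := F)).1 (ev (σ 1 + Fin.ofNat 3 n)) = -ev 1
        rw [hv.1, r2]
      · show (rho (F := F)).1 (ev (σ 2 + Fin.ofNat 3 n)) = -ev 2
        rw [hv.2, r1]
  obtain ⟨q, rfl⟩ := hp
  have h3 := Over.mem_of_fix_rows h2 hM (g := tens h2 p q * g) (mul_mem (hM.le hh) hg) fun i w => by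
    obtain ⟨s, hs⟩ := hpσ i
    exact tens_row h2 hs (hσ i w) q
  have h4 := mul_mem (inv_mem hh) h3
  rwa [inv_mul_cancel_left] at h4

end CfsgLib.Classical.TensorSquare3
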