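import Cfsg.Agent.Lib.Classical.TensorSquare3.Model

/-!
# Determinant and spinor norm of the tensor maps
-/

set_option autoImplicit false
set_option linter.unusedSectionVars false

namespace CfsgLib.Classical.TensorSquare3

open Matrix Module QuadraticMap CfsgLib.Orth

variable {F : Type*} [Field F]

/-- The determinant of an isometry. -/
noncomputable def dt {V : Type*} [AddCommGroup V] [Module F V] {Q : QuadraticForm F V} : orthGroup Q →* F where
  toFun g := LinearMap.det (g.1 : V →ₗ[F] V)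
  map_one' := LinearMap.det_id
  map_mul' x y := map_mul LinearMap.det (x.1 : V →ₗ[F] V) (y.1 : V →ₗ[F] V)

theorem dt_eq_det (a : orthGroup (q3 F)) : dt a = (mat a).det := by
  rw [mat, LinearMap.det_toMatrix']
  rfl

theorem dt_refl {V : Type*} [AddCommGroup V] [Module F V] [FiniteDimensional F V] {Q : QuadraticForm F V} {a : V}
    (ha : Q a ≠ 0) : dt (refl Q a) = -1 := det_refl Q ha

theorem refl_of_singular {V : Type*} [AddCommGroup V] [Module F V] {Q : QuadraticForm F V} {a : V}
    (ha : Q a = 0) : refl Q a = 1 :=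
  Subtype.ext (LinearEquiv.ext fun v => by rw [refl_apply, ha]; simp)

variable [Fintype F] (h2 : (2 : F) ≠ 0)

/-- The sign given by the spinor norm and the determinant. -/
noncomputable abbrev ls {V : Type*} [AddCommGroup V] [Module F V] [Finite V] {Q : QuadraticForm F V} :
    orthGroup Q →* ℤˣ := levelSign Q 1

include h2 in
theorem hom_ext3 {M : Type*} [Monoid M] {φ ψ : orthGroup (q3 F) →* M}
    (h : ∀ v, q3 F v ≠ 0 → φ (refl (q3 F) v) = ψ (refl (q3 F) v)) : φ = ψ := by
  refine MonoidHom.ext fun g => ?_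
  have hg : g ∈ reflGroup (q3 F) := by
    rw [reflGroup_eq_top (nondeg3 h2) (good_of_two_ne h2)]; trivial
  refine MonoidHom.eqOn_closure ?_ hg
  rintro _ ⟨v, rfl⟩
  rcases eq_or_ne (q3 F v) 0 with e | e
  · simp [refl_of_singular e]
  · exact h v e

theorem e_dot (i j : Fin 3) : (Pi.single i 1 : Fin 3 → F) ⬝ᵥ Pi.single j 1 = if i = j then 1 else 0 := by
  rw [single_dotProduct, one_mul, Pi.single_apply]

theorem q3_single (i : Fin 3) : q3 F (Pi.single i 1) = 1 := by
  rw [q3_apply, e_dot, if_pos rfl]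

/-- A reflection of the first factor is a product of three reflections. -/
theorem lft_refl {v : Fin 3 → F} (hv : q3 F v ≠ 0) :
    lft h2 (refl (q3 F) v) = refl (qq F) (vecMulVec v (Pi.single 0 1)) * refl (qq F) (vecMulVec v (Pi.single 1 1)) *
      refl (qq F) (vecMulVec v (Pi.single 2 1)) := by
  have hQ : ∀ j, qq F (vecMulVec v (Pi.single j 1)) = q3 F v := fun j => by rw [qq_pure, q3_single, mul_one]
  have key : ∀ (j : Fin 3) (u w : Fin 3 → F), (refl (qq F) (vecMulVec v (Pi.single j 1))).1 (vecMulVec u w) =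
      vecMulVec u w - ((q3 F v)⁻¹ * (2 * ((v ⬝ᵥ u) * w j))) • vecMulVec v (Pi.single j 1) := fun j u w => by
    rw [refl_apply, hQ, polar_pure, single_dotProduct, one_mul]
  refine Subtype.ext (LinearEquiv.ext fun X => ?_)
  suffices H : ∀ u w : Fin 3 → F, (lft h2 (refl (q3 F) v)).1 (vecMulVec u w) =
      (refl (qq F) (vecMulVec v (Pi.single 0 1))).1 ((refl (qq F) (vecMulVec v (Pi.single 1 1))).1
        ((refl (qq F) (vecMulVec v (Pi.single 2 1))).1 (vecMulVec u w))) by
    have hX : X = ∑ i, vecMulVec (Pi.single i 1) (X i) := by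
      ext i j
      rw [Matrix.sum_apply, Fin.sum_univ_three]
      fin_cases i <;> simp [vecMulVec_apply]
    rw [hX]
    simp only [map_sum]
    exact Finset.sum_congr rfl fun i _ => H _ _
  intro u w
  rw [lft_apply, mul_vecMulVec, mat_mulVec, refl_apply, polar_q3]
  simp only [key, map_sub, map_smul, Pi.single_apply, Fin.reduceEq, if_false, mul_zero, zero_smul, sub_zero]
  ext i j
  fin_cases j <;> simp [vecMulVec_apply] <;> ring

theorem dt_three {V : Type*} [AddCommGroup V] [Module F V] [FiniteDimensional F V] {Q : QuadraticForm F V} {a b c : V}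
    (ha : Q a ≠ 0) (hb : Q b ≠ 0) (hc : Q c ≠ 0) : dt (refl Q a * refl Q b * refl Q c) = -1 := by
  rw [map_mul, map_mul, dt_refl ha, dt_refl hb, dt_refl hc]; ring

theorem dt_lft (a : orthGroup (q3 F)) : dt (lft h2 a) = dt a := by
  refine DFunLike.congr_fun (hom_ext3 h2 (φ := dt.comp (lft h2)) (ψ := dt) fun v hv => ?_) a
  have hQ : ∀ j, qq F (vecMulVec v (Pi.single j 1)) ≠ 0 := fun j => by rwa [qq_pure, q3_single, mul_one]
  rw [MonoidHom.comp_apply, lft_refl h2 hv, dt_three (hQ 0) (hQ 1) (hQ 2), dt_refl hv]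

theorem ls_lft (a : orthGroup (q3 F)) : ls (lft h2 a) = ls a := by
  classical
  refine DFunLike.congr_fun (hom_ext3 h2 (φ := (ls (Q := qq F)).comp (lft h2)) (ψ := ls) fun v hv => ?_) a
  have hQ : ∀ j, qq F (vecMulVec v (Pi.single j 1)) = q3 F v := fun j => by rw [qq_pure, q3_single, mul_one]
  have hs : ∀ j, ls (refl (qq F) (vecMulVec v (Pi.single j 1))) = ls (refl (q3 F) v) := fun j => by
    rw [levelSign_refl (qq F) h2 one_ne_zero (by rw [hQ]; exact hv), levelSign_refl (q3 F) h2 one_ne_zero hv]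
    simp only [hQ]
  rw [MonoidHom.comp_apply, lft_refl h2 hv, map_mul, map_mul, hs, hs, hs, Int.units_mul_self, one_mul]

theorem dt_rgt (b : orthGroup (q3 F)) : dt (rgt h2 b) = dt b := by
  show dt (trp F * lft h2 b * (trp F)⁻¹) = _
  rw [map_mul, map_mul, mul_right_comm, ← map_mul, mul_inv_cancel, map_one, one_mul, dt_lft]

theorem ls_rgt (b : orthGroup (q3 F)) : ls (rgt h2 b) = ls b := by
  show ls (trp F * lft h2 b * (trp F)⁻¹) = _
  rw [map_mul, map_mul, mul_right_comm, ← map_mul, mul_inv_cancel, map_one, one_mul, ls_lft]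

theorem dt_tens (a b : orthGroup (q3 F)) : dt (tens h2 a b) = dt a * dt b := by
  rw [tens, map_mul, dt_lft, dt_rgt]

theorem ls_tens (a b : orthGroup (q3 F)) : ls (tens h2 a b) = ls a * ls b := by
  rw [tens, map_mul, ls_lft, ls_rgt]

include h2 in
theorem mem_omega (g : orthGroup (qq F)) : g ∈ commutator (orthGroup (qq F)) ↔ dt g = 1 ∧ ls g = 1 :=
  mem_commutator_odd (nondeg9 h2) h2 g

include h2 in
theorem mem_omega3 (g : orthGroup (q3 F)) : g ∈ commutator (orthGroup (q3 F)) ↔ dt g = 1 ∧ ls g = 1 :=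
  mem_commutator_odd (nondeg3 h2) h2 g

include h2 in
theorem tens_mem {a b : orthGroup (q3 F)} (hd : dt a * dt b = 1) (hs : ls a = ls b) :
    tens h2 a b ∈ commutator (orthGroup (qq F)) :=
  (mem_omega h2 _).2 ⟨by rw [dt_tens, hd], by rw [ls_tens, hs, Int.units_mul_self]⟩

include h2 in
theorem dt_sq (a : orthGroup (q3 F)) : dt a * dt a = 1 := by
  rw [dt_eq_det]
  have h := congrArg Matrix.det (mat_orth h2 a)
  rwa [det_mul, det_transpose, det_one] at h

include h2 in
theorem dt_cases (a : orthGroup (q3 F)) : dt a = 1 ∨ dt a = -1 := mul_self_eq_one_iff.1 (dt_sq h2 a)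

/-! ### The transposition -/

/-- `e i j - e j i`. -/
noncomputable def anti (i j : Fin 3) : Matrix (Fin 3) (Fin 3) F := Matrix.single i j 1 - Matrix.single j i 1

theorem polar_anti (i j : Fin 3) (X : Matrix (Fin 3) (Fin 3) F) :
    polar (qq F) (anti i j) X = 2 * (X i j - X j i) := by
  rw [polar_qq, anti]
  simp [Matrix.sub_mul, Matrix.trace_single_mul]

include h2 in
theorem qq_anti {i j : Fin 3} (hij : i ≠ j) : qq F (anti i j) = 2 := by
  refine mul_left_cancel₀ h2 ?_
  rw [← polar_self', polar_anti, anti]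
  simp [hij, hij.symm]
  norm_num

include h2 in
theorem trp_refl : trp F = refl (qq F) (anti 0 1) * refl (qq F) (anti 0 2) * refl (qq F) (anti 1 2) := by
  refine Subtype.ext (LinearEquiv.ext fun X => ?_)
  show Xᵀ = (refl (qq F) (anti 0 1)).1 ((refl (qq F) (anti 0 2)).1 ((refl (qq F) (anti 1 2)).1 X))
  simp only [refl_apply, polar_anti, qq_anti h2 (show (0 : Fin 3) ≠ 1 by decide),
    qq_anti h2 (show (0 : Fin 3) ≠ 2 by decide), qq_anti h2 (show (1 : Fin 3) ≠ 2 by decide)]
  ext i j
  fin_cases i <;> fin_cases j <;> simp [anti, inv_mul_cancel_left₀ h2]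

include h2 in
theorem dt_trp : dt (trp F) = -1 := by
  rw [trp_refl h2]
  refine dt_three ?_ ?_ ?_ <;> rw [qq_anti h2 (by decide)] <;> exact h2

/-! ### Minus the identity, half turns -/

theorem neg_one_orth : (-1 : Matrix (Fin 3) (Fin 3) F)ᵀ * -1 = 1 := by simp

/-- Minus the identity of the factor. -/
def negO : orthGroup (q3 F) := ofMat (-1) neg_one_orth

theorem negO_apply (v : Fin 3 → F) : (negO (F := F)).1 v = -v := by
  show (-1 : Matrix (Fin 3) (Fin 3) F) *ᵥ v = -v
  rw [Matrix.neg_mulVec, Matrix.one_mulVec]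

theorem mat_negO : mat (negO (F := F)) = -1 := mat_ofMat _ _

theorem negO_mul_self : negO (F := F) * negO = 1 :=
  mat_injective (by rw [mat_mul, mat_negO, mat_one]; simp)

theorem negO_comm (a : orthGroup (q3 F)) : negO * a = a * negO :=
  mat_injective (by rw [mat_mul, mat_mul, mat_negO]; simp)

theorem negO_refl : negO (F := F) = refl (q3 F) (Pi.single 0 1) * refl (q3 F) (Pi.single 1 1) *
    refl (q3 F) (Pi.single 2 1) := by
  refine Subtype.ext (LinearEquiv.ext fun v => ?_)
  show (negO (F := F)).1 v = (refl (q3 F) _).1 ((refl (q3 F) _).1 ((refl (q3 F) _).1 v))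
  rw [negO_apply]
  simp only [refl_apply, polar_q3, q3_single, inv_one, one_mul, single_dotProduct]
  ext i
  fin_cases i <;> simp <;> ring

theorem dt_negO : dt (negO (F := F)) = -1 := by
  rw [negO_refl]
  refine dt_three ?_ ?_ ?_ <;> rw [q3_single] <;> exact one_ne_zero

include h2 in
theorem ls_negO : ls (negO (F := F)) = -1 := by
  classical
  rw [negO_refl, map_mul, map_mul]
  have hs : ∀ i : Fin 3, ls (refl (q3 F) (Pi.single i 1)) = -1 := fun i => by
    rw [levelSign_refl (q3 F) h2 one_ne_zero (by rw [q3_single]; exact one_ne_zero),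
      if_pos (by rw [q3_single, mul_one]; exact IsSquare.one)]
  rw [hs, hs, hs]
  decide

theorem tens_negO : tens h2 (negO (F := F)) negO = 1 :=
  Subtype.ext (LinearEquiv.ext fun X => by rw [tens_apply, mat_negO]; simp)

/-- The half turn with axis `v`. -/
def ax (v : Fin 3 → F) : orthGroup (q3 F) := negO * refl (q3 F) v

theorem ax_apply (v x : Fin 3 → F) :
    (ax v).1 x = ((q3 F v)⁻¹ * (2 * (v ⬝ᵥ x))) • v - x := by
  show (negO (F := F)).1 ((refl (q3 F) v).1 x) = _
  rw [negO_apply, refl_apply, polar_q3, neg_sub]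

theorem ax_self {v : Fin 3 → F} (hv : q3 F v ≠ 0) : (ax v).1 v = v := by
  rw [ax_apply, ← q3_apply, show (q3 F v)⁻¹ * (2 * q3 F v) = 2 by field_simp, two_smul]
  abel

theorem ax_perp {v x : Fin 3 → F} (hx : v ⬝ᵥ x = 0) : (ax v).1 x = -x := by
  rw [ax_apply, hx]; simp

theorem ax_mul_self (v : Fin 3 → F) : ax v * ax v = 1 := by
  show negO * refl (q3 F) v * (negO * refl (q3 F) v) = 1
  rw [mul_assoc, ← mul_assoc (refl (q3 F) v), ← negO_comm, mul_assoc, refl_mul_self, mul_one, negO_mul_self]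

theorem ax_conj (a : orthGroup (q3 F)) (v : Fin 3 → F) : a * ax v * a⁻¹ = ax (a.1 v) := by
  show a * (negO * refl (q3 F) v) * a⁻¹ = negO * refl (q3 F) (a.1 v)
  rw [← conj_refl, ← mul_assoc, ← negO_comm]
  simp only [mul_assoc]

theorem ax_smul {t : F} (ht : t ≠ 0) (v : Fin 3 → F) : ax (t • v) = ax v := by rw [ax, refl_smul _ ht, ax]

theorem dt_ax {v : Fin 3 → F} (hv : q3 F v ≠ 0) : dt (ax v) = 1 := by
  rw [ax, map_mul, dt_negO, dt_refl hv]; ring

include h2 in
theorem ls_ax {v : Fin 3 → F} (hv : q3 F v ≠ 0) : ls (ax v) = 1 ↔ IsSquare (q3 F v) := by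
  classical
  rw [ax, map_mul, ls_negO h2, levelSign_refl (q3 F) h2 one_ne_zero hv, one_mul]
  by_cases h : IsSquare (q3 F v)
  · simp [h]
  · simp [h]

end CfsgLib.Classical.TensorSquare3
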